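import Cfsg.Agent.H15.YB.L2.D

/-! Generated by tools/h15/yb.py. -/

set_option maxRecDepth 100000
set_option maxHeartbeats 0
set_option Elab.async false

namespace H15.YB.L2

open H16 H16.DC
open H26 (jn)

theorem u3_3_1 : (nat_lit 85826) < X2.T.n ∧ ltAll c.K (nth [] V (nat_lit 3)) = 0 ∧ Nat.testBit H15.YB.X2.mA8_1 (apW (SP X2.T H26.F23.R0 (nat_lit 19)) (nth [] V (nat_lit 3)) (nat_lit 85826)) = true := by decide +kernel
theorem e3_3_2 : c.edges (SP X2.T H26.F23.R0 (nat_lit 19)) (nat_lit 479) X2.T.n (nat_lit 3) (nat_lit 3)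
  [((nat_lit 286), [nat_lit 5, nat_lit 6, nat_lit 9, nat_lit 2, nat_lit 3, nat_lit 7, nat_lit 4, nat_lit 5, nat_lit 3, nat_lit 4, nat_lit 2, nat_lit 3, nat_lit 7, nat_lit 8, nat_lit 2, nat_lit 3, nat_lit 4, nat_lit 1, nat_lit 2, nat_lit 3, nat_lit 7, nat_lit 6, nat_lit 5, nat_lit 4, nat_lit 3, nat_lit 2, nat_lit 1, nat_lit 0], [nat_lit 30, nat_lit 87, nat_lit 39, nat_lit 3, nat_lit 77, nat_lit 29, nat_lit 55, nat_lit 24, nat_lit 29, nat_lit 41, nat_lit 39], (nat_lit 21558))] (nat_lit 0) (maskL [(nat_lit 21558)]) = 0 := by decide +kernel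
theorem u3_3_2 : (nat_lit 21558) < X2.T.n ∧ ltAll c.K (nth [] V (nat_lit 3)) = 0 ∧ Nat.testBit H15.YB.X2.mA4_1 (apW (SP X2.T H26.F23.R0 (nat_lit 19)) (nth [] V (nat_lit 3)) (nat_lit 21558)) = true := by decide +kernel
theorem e3_3_3 : c.edges (SP X2.T H26.F23.R0 (nat_lit 19)) (nat_lit 479) X2.T.n (nat_lit 3) (nat_lit 3)
  [((nat_lit 317), [nat_lit 3, nat_lit 7, nat_lit 8, nat_lit 5, nat_lit 4, nat_lit 3, nat_lit 7, nat_lit 0, nat_lit 1, nat_lit 2, nat_lit 3, nat_lit 4, nat_lit 5, nat_lit 6, nat_lit 9, nat_lit 8, nat_lit 1, nat_lit 2, nat_lit 3, nat_lit 7, nat_lit 3, nat_lit 4, nat_lit 5, nat_lit 1, nat_lit 2, nat_lit 3, nat_lit 4, nat_lit 0, nat_lit 1, nat_lit 2, nat_lit 3, nat_lit 7, nat_lit 8, nat_lit 5, nat_lit 3, nat_lit 4, nat_lit 1, nat_lit 2, nat_lit 3, nat_lit 7, nat_lit 6, nat_lit 5, nat_lit 4, nat_lit 3, nat_lit 2, nat_lit 1, nat_lit 0], [nat_lit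 88, nat_lit 28, nat_lit 2, nat_lit 3, nat_lit 17, nat_lit 77, nat_lit 55, nat_lit 39, nat_lit 44], (nat_lit 227973))] (nat_lit 0) (maskL [(nat_lit 227973)]) = 0 := by decide +kernel
theorem u3_3_3 : (nat_lit 227973) < X2.T.n ∧ ltAll c.K (nth [] V (nat_lit 3)) = 0 ∧ Nat.testBit H15.YB.X2.mA0_1 (apW (SP X2.T H26.F23.R0 (nat_lit 19)) (nth [] V (nat_lit 3)) (nat_lit 227973)) = true := by decide +kernel
theorem e3_4_0 : c.edges (SP X2.T H26.F23.R0 (nat_lit 19)) (nat_lit 479) X2.T.n (nat_lit 3) (nat_lit 4)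
  [((nat_lit 288), [nat_lit 4, nat_lit 3, nat_lit 7, nat_lit 2, nat_lit 3, nat_lit 4, nat_lit 1, nat_lit 2, nat_lit 3, nat_lit 7, nat_lit 8, nat_lit 7, nat_lit 3, nat_lit 4, nat_lit 2, nat_lit 3, nat_lit 7, nat_lit 5, nat_lit 4, nat_lit 3, nat_lit 2, nat_lit 1, nat_lit 0], [], (nat_lit 3))] (nat_lit 0) (maskL [(nat_lit 3)]) = 0 := by decide +kernel
theorem u3_4_0 : (nat_lit 3) < X2.T.n ∧ ltAll c.K (nth [] V (nat_lit 3)) = 0 ∧ Nat.testBit H15.YB.X2.mA7_1 (apW (SP X2.T H26.F23.R0 (nat_lit 19)) (nth [] V (nat_lit 3)) (nat_lit 3)) = true := by decide +kernel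
theorem e3_5_0 : c.edges (SP X2.T H26.F23.R0 (nat_lit 19)) (nat_lit 479) X2.T.n (nat_lit 3) (nat_lit 5)
  [((nat_lit 323), [nat_lit 4, nat_lit 3, nat_lit 7, nat_lit 1, nat_lit 2, nat_lit 3, nat_lit 4, nat_lit 0, nat_lit 1, nat_lit 2, nat_lit 3, nat_lit 7, nat_lit 8, nat_lit 7, nat_lit 3, nat_lit 4, nat_lit 2, nat_lit 3, nat_lit 7, nat_lit 5, nat_lit 4, nat_lit 3, nat_lit 2, nat_lit 1, nat_lit 0], [], (nat_lit 58))] (nat_lit 0) (maskL [(nat_lit 58)]) = 0 := by decide +kernel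
theorem u3_5_0 : (nat_lit 58) < X2.T.n ∧ ltAll c.K (nth [] V (nat_lit 3)) = 0 ∧ Nat.testBit H15.YB.X2.mA3_1 (apW (SP X2.T H26.F23.R0 (nat_lit 19)) (nth [] V (nat_lit 3)) (nat_lit 58)) = true := by decide +kernel
theorem e3_6_0 : c.edges (SP X2.T H26.F23.R0 (nat_lit 19)) (nat_lit 479) X2.T.n (nat_lit 3) (nat_lit 6)
  [((nat_lit 382), [nat_lit 8, nat_lit 7, nat_lit 3, nat_lit 4, nat_lit 5, nat_lit 6, nat_lit 9, nat_lit 8, nat_lit 2, nat_lit 3, nat_lit 7, nat_lit 4, nat_lit 5, nat_lit 3, nat_lit 4, nat_lit 1, nat_lit 2, nat_lit 3, nat_lit 7, nat_lit 8, nat_lit 4, nat_lit 5, nat_lit 3, nat_lit 4, nat_lit 1, nat_lit 2, nat_lit 3, nat_lit 7, nat_lit 6, nat_lit 5, nat_lit 4, nat_lit 3, nat_lit 2, nat_lit 1, nat_lit 0], [nat_lit 96, nat_lit 37, nat_lit 85, nat_lit 3, nat_lit 55, nat_lit 40, nat_lit 66, nat_lit 45, nat_lit 24, nat_lit 8, nat_lit 40], (nat_lit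 31512))] (nat_lit 0) (maskL [(nat_lit 31512)]) = 0 := by decide +kernel
theorem u3_6_0 : (nat_lit 31512) < X2.T.n ∧ ltAll c.K (nth [] V (nat_lit 3)) = 0 ∧ Nat.testBit H15.YB.X2.mA1_1 (apW (SP X2.T H26.F23.R0 (nat_lit 19)) (nth [] V (nat_lit 3)) (nat_lit 31512)) = true := by decide +kernel
theorem pc3 : partChk X2.T.n (nat_lit 20645) [(nat_lit 0), (Nat.lor (nat_lit 0) H15.YB.X2.mA2_1), (Nat.lor (nat_lit 0) H15.YB.X2.mA6_1), (Nat.lor (Nat.lor (Nat.lor (Nat.lor (nat_lit 0) H15.YB.X2.mA5_1) H15.YB.X2.mA8_1) H15.YB.X2.mA4_1) H15.YB.X2.mA0_1), (Nat.lor (nat_lit 0) H15.YB.X2.mA7_1), (Nat.lor (nat_lit 0) H15.YB.X2.mA3_1), (Nat.lor (nat_lit 0) H15.YB.X2.mA1_1), (nat_lit 0)] (nth [] aL (nat_lit 3)) = true ∧ nth 0 PL (nat_lit 3) = (nat_lit 3) := by decide +kernel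
theorem st4c : DH.sgU c (nat_lit 479) (nth [] V (nat_lit 4)) (nat_lit 4) S4 = 0 := by decide +kernel
theorem se4 : S4.map Prod.snd = H15.YB.X2.WT := by decide +kernel
theorem e4_2_0 : c.edges (SP X2.T H26.F23.R0 (nat_lit 19)) (nat_lit 479) X2.T.n (nat_lit 4) (nat_lit 2)
  [((nat_lit 302), [nat_lit 9, nat_lit 3, nat_lit 4, nat_lit 2, nat_lit 3, nat_lit 7, nat_lit 8, nat_lit 4, nat_lit 5, nat_lit 2, nat_lit 3, nat_lit 4, nat_lit 1, nat_lit 2, nat_lit 3, nat_lit 7, nat_lit 6, nat_lit 5, nat_lit 4, nat_lit 3, nat_lit 2, nat_lit 1, nat_lit 0], [nat_lit 86, nat_lit 21, nat_lit 1, nat_lit 77, nat_lit 4, nat_lit 75, nat_lit 43, nat_lit 47, nat_lit 32, nat_lit 25], (nat_lit 83748))] (nat_lit 0) (maskL [(nat_lit 83748)]) = 0 := by decide +kernel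
theorem u4_2_0 : (nat_lit 83748) < X2.T.n ∧ ltAll c.K (nth [] V (nat_lit 4)) = 0 ∧ Nat.testBit H15.YB.X2.mT3_1 (apW (SP X2.T H26.F23.R0 (nat_lit 19)) (nth [] V (nat_lit 4)) (nat_lit 83748)) = true := by decide +kernel
theorem e4_2_1 : c.edges (SP X2.T H26.F23.R0 (nat_lit 19)) (nat_lit 479) X2.T.n (nat_lit 4) (nat_lit 2)
  [((nat_lit 320), [nat_lit 3, nat_lit 7, nat_lit 8, nat_lit 7, nat_lit 3, nat_lit 4, nat_lit 2, nat_lit 3, nat_lit 7, nat_lit 5, nat_lit 4, nat_lit 3, nat_lit 2, nat_lit 1, nat_lit 0], [nat_lit 92, nat_lit 39, nat_lit 25, nat_lit 9, nat_lit 84, nat_lit 67, nat_lit 57, nat_lit 28, nat_lit 39, nat_lit 23, nat_lit 41, nat_lit 30], (nat_lit 2425))] (nat_lit 0) (maskL [(nat_lit 2425)]) = 0 := by decide +kernel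
theorem u4_2_1 : (nat_lit 2425) < X2.T.n ∧ ltAll c.K (nth [] V (nat_lit 4)) = 0 ∧ Nat.testBit H15.YB.X2.mT4_1 (apW (SP X2.T H26.F23.R0 (nat_lit 19)) (nth [] V (nat_lit 4)) (nat_lit 2425)) = true := by decide +kernel
theorem e4_3_0 : c.edges (SP X2.T H26.F23.R0 (nat_lit 19)) (nat_lit 479) X2.T.n (nat_lit 4) (nat_lit 3)
  [((nat_lit 289), [], [], (nat_lit 0))] (nat_lit 0) (maskL [(nat_lit 0)]) = 0 := by decide +kernel
theorem u4_3_0 : (nat_lit 0) < X2.T.n ∧ ltAll c.K (nth [] V (nat_lit 4)) = 0 ∧ Nat.testBit H15.YB.X2.mT7_1 (apW (SP X2.T H26.F23.R0 (nat_lit 19)) (nth [] V (nat_lit 4)) (nat_lit 0)) = true := by decide +kernel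
theorem e4_4_0 : c.edges (SP X2.T H26.F23.R0 (nat_lit 19)) (nat_lit 479) X2.T.n (nat_lit 4) (nat_lit 4)
  [((nat_lit 318), [nat_lit 4, nat_lit 5, nat_lit 6, nat_lit 9, nat_lit 7, nat_lit 8, nat_lit 3, nat_lit 7, nat_lit 2, nat_lit 3, nat_lit 4, nat_lit 1, nat_lit 2, nat_lit 3, nat_lit 7, nat_lit 8, nat_lit 4, nat_lit 5, nat_lit 2, nat_lit 3, nat_lit 4, nat_lit 1, nat_lit 2, nat_lit 3, nat_lit 7, nat_lit 6, nat_lit 5, nat_lit 4, nat_lit 3, nat_lit 2, nat_lit 1, nat_lit 0], [nat_lit 9, nat_lit 95, nat_lit 90, nat_lit 12, nat_lit 61, nat_lit 12, nat_lit 39, nat_lit 44, nat_lit 41, nat_lit 39], (nat_lit 6951))] (nat_lit 0) (maskL [(nat_lit 6951)]) = 0 := by decide +kernel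
theorem u4_4_0 : (nat_lit 6951) < X2.T.n ∧ ltAll c.K (nth [] V (nat_lit 4)) = 0 ∧ Nat.testBit H15.YB.X2.mT6_1 (apW (SP X2.T H26.F23.R0 (nat_lit 19)) (nth [] V (nat_lit 4)) (nat_lit 6951)) = true := by decide +kernel
theorem e4_4_1 : c.edges (SP X2.T H26.F23.R0 (nat_lit 19)) (nat_lit 479) X2.T.n (nat_lit 4) (nat_lit 4)
  [((nat_lit 319), [nat_lit 9, nat_lit 6, nat_lit 5, nat_lit 4, nat_lit 3, nat_lit 7, nat_lit 0, nat_lit 1, nat_lit 2, nat_lit 3, nat_lit 4, nat_lit 5, nat_lit 6, nat_lit 9, nat_lit 8, nat_lit 4, nat_lit 3, nat_lit 7, nat_lit 4, nat_lit 5, nat_lit 1, nat_lit 2, nat_lit 3, nat_lit 4, nat_lit 0, nat_lit 1, nat_lit 2, nat_lit 3, nat_lit 7, nat_lit 8, nat_lit 5, nat_lit 3, nat_lit 4, nat_lit 0, nat_lit 1, nat_lit 2, nat_lit 3, nat_lit 7, nat_lit 6, nat_lit 5, nat_lit 4, nat_lit 3, nat_lit 2, nat_lit 1, nat_lit 0], [nat_lit 96, nat_lit 7, nat_lit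 1, nat_lit 62, nat_lit 71, nat_lit 55, nat_lit 23, nat_lit 44, nat_lit 23, nat_lit 32, nat_lit 30, nat_lit 25], (nat_lit 395801))] (nat_lit 0) (maskL [(nat_lit 395801)]) = 0 := by decide +kernel
theorem u4_4_1 : (nat_lit 395801) < X2.T.n ∧ ltAll c.K (nth [] V (nat_lit 4)) = 0 ∧ Nat.testBit H15.YB.X2.mT5_1 (apW (SP X2.T H26.F23.R0 (nat_lit 19)) (nth [] V (nat_lit 4)) (nat_lit 395801)) = true := by decide +kernel
theorem e4_4_2 : c.edges (SP X2.T H26.F23.R0 (nat_lit 19)) (nat_lit 479) X2.T.n (nat_lit 4) (nat_lit 4)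
  [((nat_lit 322), [nat_lit 6, nat_lit 9, nat_lit 5, nat_lit 4, nat_lit 2, nat_lit 3, nat_lit 7, nat_lit 8, nat_lit 7, nat_lit 5, nat_lit 3, nat_lit 4, nat_lit 1, nat_lit 2, nat_lit 3, nat_lit 7, nat_lit 6, nat_lit 5, nat_lit 4, nat_lit 3, nat_lit 2, nat_lit 1, nat_lit 0], [nat_lit 9, nat_lit 87, nat_lit 93, nat_lit 59, nat_lit 81, nat_lit 69, nat_lit 38, nat_lit 40, nat_lit 23, nat_lit 32], (nat_lit 100851))] (nat_lit 0) (maskL [(nat_lit 100851)]) = 0 := by decide +kernel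
theorem u4_4_2 : (nat_lit 100851) < X2.T.n ∧ ltAll c.K (nth [] V (nat_lit 4)) = 0 ∧ Nat.testBit H15.YB.X2.mT0_1 (apW (SP X2.T H26.F23.R0 (nat_lit 19)) (nth [] V (nat_lit 4)) (nat_lit 100851)) = true := by decide +kernel
theorem e4_5_0 : c.edges (SP X2.T H26.F23.R0 (nat_lit 19)) (nat_lit 479) X2.T.n (nat_lit 4) (nat_lit 5)
  [((nat_lit 355), [nat_lit 5, nat_lit 6, nat_lit 9, nat_lit 1, nat_lit 2, nat_lit 3, nat_lit 7, nat_lit 4, nat_lit 5, nat_lit 3, nat_lit 4, nat_lit 2, nat_lit 3, nat_lit 7, nat_lit 8, nat_lit 5, nat_lit 3, nat_lit 4, nat_lit 1, nat_lit 2, nat_lit 3, nat_lit 7, nat_lit 6, nat_lit 5, nat_lit 4, nat_lit 3, nat_lit 2, nat_lit 1, nat_lit 0], [nat_lit 102, nat_lit 98, nat_lit 38, nat_lit 3, nat_lit 69, nat_lit 84, nat_lit 4, nat_lit 47, nat_lit 32, nat_lit 28, nat_lit 42, nat_lit 40], (nat_lit 99445))] (nat_lit 0) (maskL [(nat_lit 99445)])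 = 0 := by decide +kernel
theorem u4_5_0 : (nat_lit 99445) < X2.T.n ∧ ltAll c.K (nth [] V (nat_lit 4)) = 0 ∧ Nat.testBit H15.YB.X2.mT2_1 (apW (SP X2.T H26.F23.R0 (nat_lit 19)) (nth [] V (nat_lit 4)) (nat_lit 99445)) = true := by decide +kernel
theorem e4_6_0 : c.edges (SP X2.T H26.F23.R0 (nat_lit 19)) (nat_lit 479) X2.T.n (nat_lit 4) (nat_lit 6)
  [((nat_lit 358), [nat_lit 2, nat_lit 3, nat_lit 4, nat_lit 5, nat_lit 6, nat_lit 9, nat_lit 8, nat_lit 7, nat_lit 1, nat_lit 2, nat_lit 3, nat_lit 4, nat_lit 0, nat_lit 1, nat_lit 2, nat_lit 3, nat_lit 7, nat_lit 8, nat_lit 7, nat_lit 4, nat_lit 5, nat_lit 3, nat_lit 4, nat_lit 2, nat_lit 3, nat_lit 7, nat_lit 6, nat_lit 5, nat_lit 4, nat_lit 3, nat_lit 2, nat_lit 1, nat_lit 0], [], (nat_lit 196))] (nat_lit 0) (maskL [(nat_lit 196)]) = 0 := by decide +kernel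
theorem u4_6_0 : (nat_lit 196) < X2.T.n ∧ ltAll c.K (nth [] V (nat_lit 4)) = 0 ∧ Nat.testBit H15.YB.X2.mT1_1 (apW (SP X2.T H26.F23.R0 (nat_lit 19)) (nth [] V (nat_lit 4)) (nat_lit 196)) = true := by decide +kernel
theorem pc4 : partChk X2.T.n (nat_lit 20645) [(nat_lit 0), (nat_lit 0), (Nat.lor (Nat.lor (nat_lit 0) H15.YB.X2.mT3_1) H15.YB.X2.mT4_1), (Nat.lor (nat_lit 0) H15.YB.X2.mT7_1), (Nat.lor (Nat.lor (Nat.lor (nat_lit 0) H15.YB.X2.mT6_1) H15.YB.X2.mT5_1) H15.YB.X2.mT0_1), (Nat.lor (nat_lit 0) H15.YB.X2.mT2_1), (Nat.lor (nat_lit 0) H15.YB.X2.mT1_1), (nat_lit 0)] (nth [] aL (nat_lit 4)) = true ∧ nth 0 PL (nat_lit 4) = (nat_lit 4) := by decide +kernel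
theorem st5c : DH.sgU c (nat_lit 479) (nth [] V (nat_lit 5)) (nat_lit 5) S5 = 0 := by decide +kernel
theorem se5 : S5.map Prod.snd = H15.YB.X2.WO := by decide +kernel
theorem e5_0_0 : c.edges (SP X2.T H26.F23.R0 (nat_lit 19)) (nat_lit 479) X2.T.n (nat_lit 5) (nat_lit 0)
  [((nat_lit 353), [nat_lit 3, nat_lit 4, nat_lit 2, nat_lit 3, nat_lit 7, nat_lit 2, nat_lit 3, nat_lit 4, nat_lit 5, nat_lit 1, nat_lit 2, nat_lit 3, nat_lit 4, nat_lit 0, nat_lit 1, nat_lit 2, nat_lit 3, nat_lit 7, nat_lit 8, nat_lit 5, nat_lit 3, nat_lit 4, nat_lit 0, nat_lit 1, nat_lit 2, nat_lit 3, nat_lit 7, nat_lit 6, nat_lit 5, nat_lit 4, nat_lit 3, nat_lit 2, nat_lit 1, nat_lit 0], [nat_lit 3, nat_lit 87, nat_lit 3, nat_lit 56, nat_lit 79, nat_lit 53, nat_lit 39, nat_lit 32, nat_lit 28, nat_lit 42, nat_lit 40], (nat_lit 89151))] (nat_lit 0) (maskL [(nat_lit 89151)]) = 0 := by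 decide +kernel
theorem u5_0_0 : (nat_lit 89151) < X2.T.n ∧ ltAll c.K (nth [] V (nat_lit 5)) = 0 ∧ Nat.testBit (maskL [(nat_lit 2365)]) (apW (SP X2.T H26.F23.R0 (nat_lit 19)) (nth [] V (nat_lit 5)) (nat_lit 89151)) = true := by decide +kernel
theorem e5_2_0 : c.edges (SP X2.T H26.F23.R0 (nat_lit 19)) (nat_lit 479) X2.T.n (nat_lit 5) (nat_lit 2)
  [((nat_lit 339), [nat_lit 9, nat_lit 3, nat_lit 7, nat_lit 2, nat_lit 3, nat_lit 4, nat_lit 1, nat_lit 2, nat_lit 3, nat_lit 7, nat_lit 8, nat_lit 4, nat_lit 5, nat_lit 3, nat_lit 4, nat_lit 0, nat_lit 1, nat_lit 2, nat_lit 3, nat_lit 7, nat_lit 6, nat_lit 5, nat_lit 4, nat_lit 3, nat_lit 2, nat_lit 1, nat_lit 0], [nat_lit 87, nat_lit 37, nat_lit 85, nat_lit 1, nat_lit 53, nat_lit 72, nat_lit 61, nat_lit 24, nat_lit 39, nat_lit 50, nat_lit 41, nat_lit 39], (nat_lit 86633))] (nat_lit 0) (maskL [(nat_lit 86633)])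 = 0 := by decide +kernel
theorem u5_2_0 : (nat_lit 86633) < X2.T.n ∧ ltAll c.K (nth [] V (nat_lit 5)) = 0 ∧ Nat.testBit H15.YB.X2.mO4_1 (apW (SP X2.T H26.F23.R0 (nat_lit 19)) (nth [] V (nat_lit 5)) (nat_lit 86633)) = true := by decide +kernel
theorem e5_3_0 : c.edges (SP X2.T H26.F23.R0 (nat_lit 19)) (nat_lit 479) X2.T.n (nat_lit 5) (nat_lit 3)
  [((nat_lit 324), [], [], (nat_lit 0))] (nat_lit 0) (maskL [(nat_lit 0)]) = 0 := by decide +kernel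
theorem u5_3_0 : (nat_lit 0) < X2.T.n ∧ ltAll c.K (nth [] V (nat_lit 5)) = 0 ∧ Nat.testBit H15.YB.X2.mO7_1 (apW (SP X2.T H26.F23.R0 (nat_lit 19)) (nth [] V (nat_lit 5)) (nat_lit 0)) = true := by decide +kernel
theorem e5_4_0 : c.edges (SP X2.T H26.F23.R0 (nat_lit 19)) (nat_lit 479) X2.T.n (nat_lit 5) (nat_lit 4)
  [((nat_lit 356), [nat_lit 5, nat_lit 6, nat_lit 9, nat_lit 2, nat_lit 3, nat_lit 7, nat_lit 8, nat_lit 3, nat_lit 4, nat_lit 5, nat_lit 2, nat_lit 3, nat_lit 4, nat_lit 1, nat_lit 2, nat_lit 3, nat_lit 7, nat_lit 6, nat_lit 5, nat_lit 4, nat_lit 3, nat_lit 2, nat_lit 1, nat_lit 0], [nat_lit 89, nat_lit 9, nat_lit 87, nat_lit 57, nat_lit 66, nat_lit 66, nat_lit 25, nat_lit 50, nat_lit 39, nat_lit 41], (nat_lit 738))] (nat_lit 0) (maskL [(nat_lit 738)]) = 0 := by decide +kernel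
theorem u5_4_0 : (nat_lit 738) < X2.T.n ∧ ltAll c.K (nth [] V (nat_lit 5)) = 0 ∧ Nat.testBit H15.YB.X2.mO5_1 (apW (SP X2.T H26.F23.R0 (nat_lit 19)) (nth [] V (nat_lit 5)) (nat_lit 738)) = true := by decide +kernel
theorem e5_5_0 : c.edges (SP X2.T H26.F23.R0 (nat_lit 19)) (nat_lit 479) X2.T.n (nat_lit 5) (nat_lit 5)
  [((nat_lit 357), [nat_lit 9, nat_lit 4, nat_lit 3, nat_lit 7, nat_lit 8, nat_lit 7, nat_lit 5, nat_lit 3, nat_lit 4, nat_lit 2, nat_lit 3, nat_lit 7, nat_lit 3, nat_lit 4, nat_lit 5, nat_lit 1, nat_lit 2, nat_lit 3, nat_lit 4, nat_lit 0, nat_lit 1, nat_lit 2, nat_lit 3, nat_lit 7, nat_lit 8, nat_lit 5, nat_lit 2, nat_lit 3, nat_lit 4, nat_lit 1, nat_lit 2, nat_lit 3, nat_lit 7, nat_lit 6, nat_lit 5, nat_lit 4, nat_lit 3, nat_lit 2, nat_lit 1, nat_lit 0], [nat_lit 86, nat_lit 37, nat_lit 28, nat_lit 1, nat_lit 28, nat_lit 65, nat_lit 17,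 nat_lit 4, nat_lit 45, nat_lit 37, nat_lit 24, nat_lit 39, nat_lit 30], (nat_lit 99727))] (nat_lit 0) (maskL [(nat_lit 99727)]) = 0 := by decide +kernel
theorem u5_5_0 : (nat_lit 99727) < X2.T.n ∧ ltAll c.K (nth [] V (nat_lit 5)) = 0 ∧ Nat.testBit H15.YB.X2.mO6_1 (apW (SP X2.T H26.F23.R0 (nat_lit 19)) (nth [] V (nat_lit 5)) (nat_lit 99727)) = true := by decide +kernel
theorem e5_5_1 : c.edges (SP X2.T H26.F23.R0 (nat_lit 19)) (nat_lit 479) X2.T.n (nat_lit 5) (nat_lit 5)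
  [((nat_lit 352), [nat_lit 9, nat_lit 3, nat_lit 7, nat_lit 8, nat_lit 4, nat_lit 3, nat_lit 7, nat_lit 2, nat_lit 3, nat_lit 4, nat_lit 1, nat_lit 2, nat_lit 3, nat_lit 7, nat_lit 8, nat_lit 5, nat_lit 4, nat_lit 0, nat_lit 1, nat_lit 2, nat_lit 3, nat_lit 7, nat_lit 6, nat_lit 5, nat_lit 4, nat_lit 3, nat_lit 2, nat_lit 1, nat_lit 0], [nat_lit 12, nat_lit 39, nat_lit 9, nat_lit 2, nat_lit 70, nat_lit 74, nat_lit 68, nat_lit 32, nat_lit 37, nat_lit 39, nat_lit 30], (nat_lit 3128))] (nat_lit 0) (maskL [(nat_lit 3128)]) = 0 := by decide +kernel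
theorem u5_5_1 : (nat_lit 3128) < X2.T.n ∧ ltAll c.K (nth [] V (nat_lit 5)) = 0 ∧ Nat.testBit H15.YB.X2.mO3_1 (apW (SP X2.T H26.F23.R0 (nat_lit 19)) (nth [] V (nat_lit 5)) (nat_lit 3128)) = true := by decide +kernel
theorem e5_5_2 : c.edges (SP X2.T H26.F23.R0 (nat_lit 19)) (nat_lit 479) X2.T.n (nat_lit 5) (nat_lit 5)
  [((nat_lit 421), [nat_lit 8, nat_lit 7, nat_lit 3, nat_lit 4, nat_lit 5, nat_lit 6, nat_lit 9, nat_lit 6, nat_lit 5, nat_lit 4, nat_lit 3, nat_lit 7, nat_lit 8, nat_lit 3, nat_lit 4, nat_lit 2, nat_lit 3, nat_lit 7, nat_lit 2, nat_lit 3, nat_lit 4, nat_lit 5, nat_lit 1, nat_lit 2, nat_lit 3, nat_lit 4, nat_lit 0, nat_lit 1, nat_lit 2, nat_lit 3, nat_lit 7, nat_lit 8, nat_lit 5, nat_lit 3, nat_lit 4, nat_lit 0, nat_lit 1, nat_lit 2, nat_lit 3, nat_lit 7, nat_lit 6, nat_lit 5, nat_lit 4, nat_lit 3, nat_lit 2, nat_lit 1, nat_lit 0], [], (nat_lit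 356567))] (nat_lit 0) (maskL [(nat_lit 356567)]) = 0 := by decide +kernel
theorem u5_5_2 : (nat_lit 356567) < X2.T.n ∧ ltAll c.K (nth [] V (nat_lit 5)) = 0 ∧ Nat.testBit (maskL [(nat_lit 17)]) (apW (SP X2.T H26.F23.R0 (nat_lit 19)) (nth [] V (nat_lit 5)) (nat_lit 356567)) = true := by decide +kernel
theorem e5_8_0 : c.edges (SP X2.T H26.F23.R0 (nat_lit 19)) (nat_lit 479) X2.T.n (nat_lit 5) (nat_lit 8)
  [((nat_lit 390), [nat_lit 8, nat_lit 7, nat_lit 2, nat_lit 3, nat_lit 4, nat_lit 5, nat_lit 6, nat_lit 9, nat_lit 6, nat_lit 5, nat_lit 4, nat_lit 3, nat_lit 7, nat_lit 8, nat_lit 3, nat_lit 4, nat_lit 2, nat_lit 3, nat_lit 7, nat_lit 2, nat_lit 3, nat_lit 4, nat_lit 5, nat_lit 1, nat_lit 2, nat_lit 3, nat_lit 4, nat_lit 0, nat_lit 1, nat_lit 2, nat_lit 3, nat_lit 7, nat_lit 8, nat_lit 5, nat_lit 3, nat_lit 4, nat_lit 0, nat_lit 1, nat_lit 2, nat_lit 3,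 nat_lit 7, nat_lit 6, nat_lit 5, nat_lit 4, nat_lit 3, nat_lit 2, nat_lit 1, nat_lit 0], [], (nat_lit 356534))] (nat_lit 0) (maskL [(nat_lit 356534)]) = 0 := by decide +kernel
theorem u5_8_0 : (nat_lit 356534) < X2.T.n ∧ ltAll c.K (nth [] V (nat_lit 5)) = 0 ∧ Nat.testBit (maskL [(nat_lit 2364)]) (apW (SP X2.T H26.F23.R0 (nat_lit 19)) (nth [] V (nat_lit 5)) (nat_lit 356534)) = true := by decide +kernel
theorem pc5 : partChk X2.T.n (nat_lit 20645) [(Nat.lor (nat_lit 0) (maskL [(nat_lit 2365)])), (nat_lit 0), (Nat.lor (nat_lit 0) H15.YB.X2.mO4_1), (Nat.lor (nat_lit 0) H15.YB.X2.mO7_1), (Nat.lor (nat_lit 0) H15.YB.X2.mO5_1), (Nat.lor (Nat.lor (Nat.lor (nat_lit 0) H15.YB.X2.mO6_1) H15.YB.X2.mO3_1) (maskL [(nat_lit 17)])), (nat_lit 0), (Nat.lor (nat_lit 0) (maskL [(nat_lit 2364)]))] (nth [] aL (nat_lit 5)) = true ∧ nth 0 PL (nat_lit 5) = (nat_lit 5) := by decide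 +kernel
theorem st6c : DH.sgU c (nat_lit 479) (nth [] V (nat_lit 6)) (nat_lit 6) S6 = 0 := by decide +kernel
theorem se6 : S6.map Prod.snd = H15.YB.X2.WP := by decide +kernel
theorem e6_1_0 : c.edges (SP X2.T H26.F23.R0 (nat_lit 19)) (nat_lit 479) X2.T.n (nat_lit 6) (nat_lit 1)
  [((nat_lit 388), [nat_lit 2, nat_lit 3, nat_lit 4, nat_lit 5, nat_lit 6, nat_lit 9, nat_lit 7, nat_lit 5, nat_lit 3, nat_lit 4, nat_lit 2, nat_lit 3, nat_lit 7, nat_lit 8, nat_lit 5, nat_lit 4, nat_lit 2, nat_lit 3, nat_lit 7, nat_lit 6, nat_lit 5, nat_lit 4, nat_lit 3, nat_lit 2, nat_lit 1, nat_lit 0], [nat_lit 90, nat_lit 91, nat_lit 94, nat_lit 57, nat_lit 81, nat_lit 12, nat_lit 8, nat_lit 49, nat_lit 24, nat_lit 40, nat_lit 25], (nat_lit 9013))] (nat_lit 0) (maskL [(nat_lit 9013)]) = 0 := by decide +kernel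
theorem u6_1_0 : (nat_lit 9013) < X2.T.n ∧ ltAll c.K (nth [] V (nat_lit 6)) = 0 ∧ Nat.testBit H15.YB.X2.mP1_1 (apW (SP X2.T H26.F23.R0 (nat_lit 19)) (nth [] V (nat_lit 6)) (nat_lit 9013)) = true := by decide +kernel
theorem e6_3_0 : c.edges (SP X2.T H26.F23.R0 (nat_lit 19)) (nat_lit 479) X2.T.n (nat_lit 6) (nat_lit 3)
  [((nat_lit 383), [nat_lit 4, nat_lit 3, nat_lit 7, nat_lit 2, nat_lit 3, nat_lit 4, nat_lit 5, nat_lit 6, nat_lit 9, nat_lit 7, nat_lit 8, nat_lit 3, nat_lit 7, nat_lit 5, nat_lit 2, nat_lit 3, nat_lit 4, nat_lit 1, nat_lit 2, nat_lit 3, nat_lit 7, nat_lit 8, nat_lit 5, nat_lit 4, nat_lit 0, nat_lit 1, nat_lit 2, nat_lit 3, nat_lit 7, nat_lit 6, nat_lit 5, nat_lit 4, nat_lit 3, nat_lit 2, nat_lit 1, nat_lit 0], [nat_lit 7, nat_lit 98, nat_lit 7, nat_lit 3, nat_lit 75, nat_lit 67, nat_lit 63, nat_lit 24, nat_lit 47, nat_lit 40, nat_lit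 25], (nat_lit 35824))] (nat_lit 0) (maskL [(nat_lit 35824)]) = 0 := by decide +kernel
theorem u6_3_0 : (nat_lit 35824) < X2.T.n ∧ ltAll c.K (nth [] V (nat_lit 6)) = 0 ∧ Nat.testBit H15.YB.X2.mP3_1 (apW (SP X2.T H26.F23.R0 (nat_lit 19)) (nth [] V (nat_lit 6)) (nat_lit 35824)) = true := by decide +kernel
theorem e6_4_0 : c.edges (SP X2.T H26.F23.R0 (nat_lit 19)) (nat_lit 479) X2.T.n (nat_lit 6) (nat_lit 4)
  [((nat_lit 359), [], [], (nat_lit 0))] (nat_lit 0) (maskL [(nat_lit 0)]) = 0 := by decide +kernel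
theorem u6_4_0 : (nat_lit 0) < X2.T.n ∧ ltAll c.K (nth [] V (nat_lit 6)) = 0 ∧ Nat.testBit H15.YB.X2.mP4_1 (apW (SP X2.T H26.F23.R0 (nat_lit 19)) (nth [] V (nat_lit 6)) (nat_lit 0)) = true := by decide +kernel
theorem e6_6_0 : c.edges (SP X2.T H26.F23.R0 (nat_lit 19)) (nat_lit 479) X2.T.n (nat_lit 6) (nat_lit 6)
  [((nat_lit 384), [nat_lit 8, nat_lit 7, nat_lit 3, nat_lit 4, nat_lit 5, nat_lit 6, nat_lit 9, nat_lit 5, nat_lit 6, nat_lit 3, nat_lit 4, nat_lit 5, nat_lit 2, nat_lit 3, nat_lit 4, nat_lit 1, nat_lit 2, nat_lit 3, nat_lit 7, nat_lit 8, nat_lit 5, nat_lit 2, nat_lit 3, nat_lit 4, nat_lit 1, nat_lit 2, nat_lit 3, nat_lit 7, nat_lit 6, nat_lit 5, nat_lit 4, nat_lit 3, nat_lit 2, nat_lit 1, nat_lit 0], [nat_lit 5, nat_lit 37, nat_lit 86, nat_lit 84, nat_lit 30, nat_lit 17, nat_lit 46, nat_lit 50, nat_lit 24, nat_lit 25], (nat_lit 117516))] (nat_lit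 0) (maskL [(nat_lit 117516)]) = 0 := by decide +kernel
theorem u6_6_0 : (nat_lit 117516) < X2.T.n ∧ ltAll c.K (nth [] V (nat_lit 6)) = 0 ∧ Nat.testBit H15.YB.X2.mP2_1 (apW (SP X2.T H26.F23.R0 (nat_lit 19)) (nth [] V (nat_lit 6)) (nat_lit 117516)) = true := by decide +kernel
theorem e6_8_0 : c.edges (SP X2.T H26.F23.R0 (nat_lit 19)) (nat_lit 479) X2.T.n (nat_lit 6) (nat_lit 8)
  [((nat_lit 404), [nat_lit 5, nat_lit 6, nat_lit 9, nat_lit 8, nat_lit 1, nat_lit 2, nat_lit 3, nat_lit 7, nat_lit 6, nat_lit 4, nat_lit 5, nat_lit 2, nat_lit 3, nat_lit 4, nat_lit 1, nat_lit 2, nat_lit 3, nat_lit 7, nat_lit 8, nat_lit 4, nat_lit 5, nat_lit 2, nat_lit 3, nat_lit 4, nat_lit 1, nat_lit 2, nat_lit 3, nat_lit 7, nat_lit 6, nat_lit 5, nat_lit 4, nat_lit 3, nat_lit 2, nat_lit 1, nat_lit 0], [nat_lit 40, nat_lit 28, nat_lit 94, nat_lit 69, nat_lit 29, nat_lit 6, nat_lit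 8, nat_lit 51, nat_lit 23, nat_lit 42], (nat_lit 103104))] (nat_lit 0) (maskL [(nat_lit 103104)]) = 0 := by decide +kernel
theorem u6_8_0 : (nat_lit 103104) < X2.T.n ∧ ltAll c.K (nth [] V (nat_lit 6)) = 0 ∧ Nat.testBit H15.YB.X2.mP0_1 (apW (SP X2.T H26.F23.R0 (nat_lit 19)) (nth [] V (nat_lit 6)) (nat_lit 103104)) = true := by decide +kernel
theorem pc6 : partChk X2.T.n (nat_lit 20645) [(nat_lit 0), (Nat.lor (nat_lit 0) H15.YB.X2.mP1_1), (nat_lit 0), (Nat.lor (nat_lit 0) H15.YB.X2.mP3_1), (Nat.lor (nat_lit 0) H15.YB.X2.mP4_1), (nat_lit 0), (Nat.lor (nat_lit 0) H15.YB.X2.mP2_1), (Nat.lor (nat_lit 0) H15.YB.X2.mP0_1)] (nth [] aL (nat_lit 6)) = true ∧ nth 0 PL (nat_lit 6) = (nat_lit 6) := by decide +kernel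
theorem st8c : DH.sgU c (nat_lit 479) (nth [] V (nat_lit 8)) (nat_lit 8) S8 = 0 := by decide +kernel
theorem se8 : S8.map Prod.snd = H15.YB.X2.WH := by decide +kernel
theorem e8_5_0 : c.edges (SP X2.T H26.F23.R0 (nat_lit 19)) (nat_lit 479) X2.T.n (nat_lit 8) (nat_lit 5)
  [((nat_lit 391), [], [], (nat_lit 0))] (nat_lit 0) (maskL [(nat_lit 0)]) = 0 := by decide +kernel
theorem u8_5_0 : (nat_lit 0) < X2.T.n ∧ ltAll c.K (nth [] V (nat_lit 8)) = 0 ∧ Nat.testBit H15.YB.X2.mH1_1 (apW (SP X2.T H26.F23.R0 (nat_lit 19)) (nth [] V (nat_lit 8)) (nat_lit 0)) = true := by decide +kernel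
theorem e8_6_0 : c.edges (SP X2.T H26.F23.R0 (nat_lit 19)) (nat_lit 479) X2.T.n (nat_lit 8) (nat_lit 6)
  [((nat_lit 405), [nat_lit 2, nat_lit 3, nat_lit 4, nat_lit 1, nat_lit 2, nat_lit 3, nat_lit 7, nat_lit 8, nat_lit 5, nat_lit 3, nat_lit 4, nat_lit 2, nat_lit 3, nat_lit 7, nat_lit 6, nat_lit 5, nat_lit 4, nat_lit 3, nat_lit 2, nat_lit 1, nat_lit 0], [nat_lit 35, nat_lit 39, nat_lit 87, nat_lit 69, nat_lit 72, nat_lit 77, nat_lit 37, nat_lit 39, nat_lit 41], (nat_lit 85303))] (nat_lit 0) (maskL [(nat_lit 85303)]) = 0 := by decide +kernel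
theorem u8_6_0 : (nat_lit 85303) < X2.T.n ∧ ltAll c.K (nth [] V (nat_lit 8)) = 0 ∧ Nat.testBit H15.YB.X2.mH2_2 (apW (SP X2.T H26.F23.R0 (nat_lit 19)) (nth [] V (nat_lit 8)) (nat_lit 85303)) = true := by decide +kernel
theorem e8_8_0 : c.edges (SP X2.T H26.F23.R0 (nat_lit 19)) (nat_lit 479) X2.T.n (nat_lit 8) (nat_lit 8)
  [((nat_lit 417), [nat_lit 2, nat_lit 3, nat_lit 4, nat_lit 5, nat_lit 6, nat_lit 9, nat_lit 1, nat_lit 2, nat_lit 3, nat_lit 7, nat_lit 8, nat_lit 3, nat_lit 4, nat_lit 2, nat_lit 3, nat_lit 7, nat_lit 2, nat_lit 3, nat_lit 4, nat_lit 5, nat_lit 1, nat_lit 2, nat_lit 3, nat_lit 4, nat_lit 0, nat_lit 1, nat_lit 2, nat_lit 3, nat_lit 7, nat_lit 8, nat_lit 5, nat_lit 2, nat_lit 3, nat_lit 4, nat_lit 1, nat_lit 2, nat_lit 3, nat_lit 7, nat_lit 6, nat_lit 5, nat_lit 4, nat_lit 3, nat_lit 2, nat_lit 1, nat_lit 0], [nat_lit 28, nat_lit 95,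 nat_lit 87, nat_lit 69, nat_lit 29, nat_lit 55, nat_lit 50, nat_lit 39], (nat_lit 205144))] (nat_lit 0) (maskL [(nat_lit 205144)]) = 0 := by decide +kernel
theorem u8_8_0 : (nat_lit 205144) < X2.T.n ∧ ltAll c.K (nth [] V (nat_lit 8)) = 0 ∧ Nat.testBit H15.YB.X2.mH0_1 (apW (SP X2.T H26.F23.R0 (nat_lit 19)) (nth [] V (nat_lit 8)) (nat_lit 205144)) = true := by decide +kernel
theorem pc8 : partChk X2.T.n (nat_lit 20645) [(nat_lit 0), (nat_lit 0), (nat_lit 0), (nat_lit 0), (nat_lit 0), (Nat.lor (nat_lit 0) H15.YB.X2.mH1_1), (Nat.lor (nat_lit 0) H15.YB.X2.mH2_2), (Nat.lor (nat_lit 0) H15.YB.X2.mH0_1)] (nth [] aL (nat_lit 7)) = true ∧ nth 0 PL (nat_lit 7) = (nat_lit 8) := by decide +kernel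
theorem kgc : sumL (c.kgen (nat_lit 479)) KG = 0 := by decide +kernel
theorem ivc : c.ivc = true := by decide +kernel
theorem num : DH.Num PL [nat_lit 31671, nat_lit 86316516, nat_lit 4502191005, nat_lit 17074976256, nat_lit 4502191005, nat_lit 891855360, nat_lit 86316516, nat_lit 31671] aL 31671 27143910000 ∧ KG.map Prod.snd = Y2.UK ∧ PL.length = 8 := by decide +kernel

end H15.YB.L2
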