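import Cfsg.Agent.H15.YB.L2.D

/-! Generated by tools/h15/yb.py. -/

set_option maxRecDepth 100000
set_option maxHeartbeats 0
set_option Elab.async false

namespace H15.YB.L2

open H16 H16.DC
open H26 (jn)

theorem rtc : allZ (c.ruleEnt Ds) 0 c.R.length = true := by decide +kernel
theorem v150c : Nat.add (c.chkL P150 (nat_lit 1)) (Nat.xor ((nat_lit 1) + List.length P150) (nat_lit 150)) = 0 := by decide +kernel
theorem v219c : Nat.add (c.chkL P219 (nat_lit 150)) (Nat.xor ((nat_lit 150) + List.length P219) (nat_lit 219)) = 0 := by decide +kernel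
theorem v273c : Nat.add (c.chkL P273 (nat_lit 219)) (Nat.xor ((nat_lit 219) + List.length P273) (nat_lit 273)) = 0 := by decide +kernel
theorem v309c : Nat.add (c.chkL P309 (nat_lit 273)) (Nat.xor ((nat_lit 273) + List.length P309) (nat_lit 309)) = 0 := by decide +kernel
theorem v350c : Nat.add (c.chkL P350 (nat_lit 309)) (Nat.xor ((nat_lit 309) + List.length P350) (nat_lit 350)) = 0 := by decide +kernel
theorem v386c : Nat.add (c.chkL P386 (nat_lit 350)) (Nat.xor ((nat_lit 350) + List.length P386) (nat_lit 386)) = 0 := by decide +kernel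
theorem v424c : Nat.add (c.chkL P424 (nat_lit 386)) (Nat.xor ((nat_lit 386) + List.length P424) (nat_lit 424)) = 0 := by decide +kernel
theorem v479c : Nat.add (c.chkL P479 (nat_lit 424)) (Nat.xor ((nat_lit 424) + List.length P479) (nat_lit 479)) = 0 := by decide +kernel
theorem st0c : DH.sgU c (nat_lit 479) (nth [] V (nat_lit 0)) (nat_lit 0) S0 = 0 := by decide +kernel
theorem se0 : S0.map Prod.snd = H15.YB.X2.WH := by decide +kernel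
theorem e0_0_0 : c.edges (SP X2.T H26.F23.R0 (nat_lit 19)) (nat_lit 479) X2.T.n (nat_lit 0) (nat_lit 0)
  [((nat_lit 0), [], [], (nat_lit 0))] (nat_lit 0) (maskL [(nat_lit 0)]) = 0 := by decide +kernel
theorem u0_0_0 : (nat_lit 0) < X2.T.n ∧ ltAll c.K (nth [] V (nat_lit 0)) = 0 ∧ Nat.testBit H15.YB.X2.mH0_1 (apW (SP X2.T H26.F23.R0 (nat_lit 19)) (nth [] V (nat_lit 0)) (nat_lit 0)) = true := by decide +kernel
theorem e0_1_0 : c.edges (SP X2.T H26.F23.R0 (nat_lit 19)) (nat_lit 479) X2.T.n (nat_lit 0) (nat_lit 1)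
  [((nat_lit 147), [nat_lit 6, nat_lit 9, nat_lit 4, nat_lit 3, nat_lit 7, nat_lit 8, nat_lit 2, nat_lit 3, nat_lit 7, nat_lit 4, nat_lit 5, nat_lit 3, nat_lit 4, nat_lit 2, nat_lit 3, nat_lit 7, nat_lit 6, nat_lit 5, nat_lit 4, nat_lit 3, nat_lit 2, nat_lit 1, nat_lit 0], [], (nat_lit 4))] (nat_lit 0) (maskL [(nat_lit 4)]) = 0 := by decide +kernel
theorem u0_1_0 : (nat_lit 4) < X2.T.n ∧ ltAll c.K (nth [] V (nat_lit 0)) = 0 ∧ Nat.testBit H15.YB.X2.mH2_2 (apW (SP X2.T H26.F23.R0 (nat_lit 19)) (nth [] V (nat_lit 0)) (nat_lit 4)) = true := by decide +kernel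
theorem e0_5_0 : c.edges (SP X2.T H26.F23.R0 (nat_lit 19)) (nat_lit 479) X2.T.n (nat_lit 0) (nat_lit 5)
  [((nat_lit 354), [nat_lit 6, nat_lit 9, nat_lit 6, nat_lit 5, nat_lit 3, nat_lit 4, nat_lit 0, nat_lit 1, nat_lit 2, nat_lit 3, nat_lit 7, nat_lit 8, nat_lit 3, nat_lit 4, nat_lit 2, nat_lit 3, nat_lit 7, nat_lit 4, nat_lit 5, nat_lit 1, nat_lit 2, nat_lit 3, nat_lit 4, nat_lit 0, nat_lit 1, nat_lit 2, nat_lit 3, nat_lit 7, nat_lit 8, nat_lit 5, nat_lit 3, nat_lit 4, nat_lit 0, nat_lit 1, nat_lit 2, nat_lit 3, nat_lit 7, nat_lit 6, nat_lit 5, nat_lit 4, nat_lit 3, nat_lit 2, nat_lit 1, nat_lit 0], [nat_lit 17, nat_lit 88, nat_lit 97, nat_lit 5, nat_lit 74, nat_lit 81, nat_lit 4, nat_lit 43, nat_lit 8, nat_lit 23, nat_lit 41], (nat_lit 128222))] (nat_lit 0) (maskL [(nat_lit 128222)]) = 0 := by decide +kernel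
theorem u0_5_0 : (nat_lit 128222) < X2.T.n ∧ ltAll c.K (nth [] V (nat_lit 0)) = 0 ∧ Nat.testBit H15.YB.X2.mH1_1 (apW (SP X2.T H26.F23.R0 (nat_lit 19)) (nth [] V (nat_lit 0)) (nat_lit 128222)) = true := by decide +kernel
theorem pc0 : partChk X2.T.n (nat_lit 20645) [(Nat.lor (nat_lit 0) H15.YB.X2.mH0_1), (Nat.lor (nat_lit 0) H15.YB.X2.mH2_2), (nat_lit 0), (nat_lit 0), (nat_lit 0), (Nat.lor (nat_lit 0) H15.YB.X2.mH1_1), (nat_lit 0), (nat_lit 0)] (nth [] aL (nat_lit 0)) = true ∧ nth 0 PL (nat_lit 0) = (nat_lit 0) := by decide +kernel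
theorem st1c : DH.sgU c (nat_lit 479) (nth [] V (nat_lit 1)) (nat_lit 1) S1 = 0 := by decide +kernel
theorem se1 : S1.map Prod.snd = H15.YB.X2.WP := by decide +kernel
theorem e1_0_0 : c.edges (SP X2.T H26.F23.R0 (nat_lit 19)) (nat_lit 479) X2.T.n (nat_lit 1) (nat_lit 0)
  [((nat_lit 148), [], [], (nat_lit 0))] (nat_lit 0) (maskL [(nat_lit 0)]) = 0 := by decide +kernel
theorem u1_0_0 : (nat_lit 0) < X2.T.n ∧ ltAll c.K (nth [] V (nat_lit 1)) = 0 ∧ Nat.testBit H15.YB.X2.mP0_1 (apW (SP X2.T H26.F23.R0 (nat_lit 19)) (nth [] V (nat_lit 1)) (nat_lit 0)) = true := by decide +kernel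
theorem e1_1_0 : c.edges (SP X2.T H26.F23.R0 (nat_lit 19)) (nat_lit 479) X2.T.n (nat_lit 1) (nat_lit 1)
  [((nat_lit 190), [nat_lit 3, nat_lit 2, nat_lit 1, nat_lit 0], [nat_lit 24, nat_lit 5, nat_lit 85, nat_lit 9, nat_lit 67, nat_lit 35, nat_lit 4, nat_lit 12, nat_lit 25, nat_lit 43, nat_lit 25], (nat_lit 18))] (nat_lit 0) (maskL [(nat_lit 18)]) = 0 := by decide +kernel
theorem u1_1_0 : (nat_lit 18) < X2.T.n ∧ ltAll c.K (nth [] V (nat_lit 1)) = 0 ∧ Nat.testBit H15.YB.X2.mP2_1 (apW (SP X2.T H26.F23.R0 (nat_lit 19)) (nth [] V (nat_lit 1)) (nat_lit 18)) = true := by decide +kernel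
theorem e1_2_0 : c.edges (SP X2.T H26.F23.R0 (nat_lit 19)) (nat_lit 479) X2.T.n (nat_lit 1) (nat_lit 2)
  [((nat_lit 191), [nat_lit 7, nat_lit 4, nat_lit 5, nat_lit 2, nat_lit 3, nat_lit 4, nat_lit 1, nat_lit 2, nat_lit 3, nat_lit 7, nat_lit 8, nat_lit 7, nat_lit 3, nat_lit 4, nat_lit 2, nat_lit 3, nat_lit 7, nat_lit 5, nat_lit 4, nat_lit 3, nat_lit 2, nat_lit 1, nat_lit 0], [], (nat_lit 2))] (nat_lit 0) (maskL [(nat_lit 2)]) = 0 := by decide +kernel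
theorem u1_2_0 : (nat_lit 2) < X2.T.n ∧ ltAll c.K (nth [] V (nat_lit 1)) = 0 ∧ Nat.testBit H15.YB.X2.mP4_1 (apW (SP X2.T H26.F23.R0 (nat_lit 19)) (nth [] V (nat_lit 1)) (nat_lit 2)) = true := by decide +kernel
theorem e1_3_0 : c.edges (SP X2.T H26.F23.R0 (nat_lit 19)) (nat_lit 479) X2.T.n (nat_lit 1) (nat_lit 3)
  [((nat_lit 276), [nat_lit 8, nat_lit 7, nat_lit 3, nat_lit 4, nat_lit 5, nat_lit 6, nat_lit 9, nat_lit 8, nat_lit 5, nat_lit 3, nat_lit 4, nat_lit 2, nat_lit 3, nat_lit 7, nat_lit 3, nat_lit 4, nat_lit 5, nat_lit 1, nat_lit 2, nat_lit 3, nat_lit 4, nat_lit 0, nat_lit 1, nat_lit 2, nat_lit 3, nat_lit 7, nat_lit 8, nat_lit 4, nat_lit 5, nat_lit 2, nat_lit 3, nat_lit 4, nat_lit 1, nat_lit 2, nat_lit 3, nat_lit 7, nat_lit 6, nat_lit 5, nat_lit 4, nat_lit 3, nat_lit 2, nat_lit 1, nat_lit 0], [nat_lit 100, nat_lit 102, nat_lit 39, nat_lit 2, nat_lit 28, nat_lit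 35, nat_lit 61, nat_lit 47, nat_lit 43, nat_lit 8, nat_lit 30, nat_lit 25], (nat_lit 161619))] (nat_lit 0) (maskL [(nat_lit 161619)]) = 0 := by decide +kernel
theorem u1_3_0 : (nat_lit 161619) < X2.T.n ∧ ltAll c.K (nth [] V (nat_lit 1)) = 0 ∧ Nat.testBit H15.YB.X2.mP3_1 (apW (SP X2.T H26.F23.R0 (nat_lit 19)) (nth [] V (nat_lit 1)) (nat_lit 161619)) = true := by decide +kernel
theorem e1_6_0 : c.edges (SP X2.T H26.F23.R0 (nat_lit 19)) (nat_lit 479) X2.T.n (nat_lit 1) (nat_lit 6)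
  [((nat_lit 389), [nat_lit 2, nat_lit 3, nat_lit 7, nat_lit 8, nat_lit 6, nat_lit 4, nat_lit 5, nat_lit 2, nat_lit 3, nat_lit 4, nat_lit 1, nat_lit 2, nat_lit 3, nat_lit 7, nat_lit 0, nat_lit 1, nat_lit 2, nat_lit 3, nat_lit 4, nat_lit 5, nat_lit 6, nat_lit 9, nat_lit 4, nat_lit 3, nat_lit 7, nat_lit 8, nat_lit 2, nat_lit 3, nat_lit 7, nat_lit 4, nat_lit 5, nat_lit 1, nat_lit 2, nat_lit 3, nat_lit 4, nat_lit 0, nat_lit 1, nat_lit 2, nat_lit 3, nat_lit 7, nat_lit 8, nat_lit 7, nat_lit 4, nat_lit 5, nat_lit 3, nat_lit 4, nat_lit 1, nat_lit 2, nat_lit 3, nat_lit 7, nat_lit 6, nat_lit 5, nat_lit 4, nat_lit 3, nat_lit 2, nat_lit 1, nat_lit 0], [], (nat_lit 270))] (nat_lit 0) (maskL [(nat_lit 270)]) = 0 := by decide +kernel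
theorem u1_6_0 : (nat_lit 270) < X2.T.n ∧ ltAll c.K (nth [] V (nat_lit 1)) = 0 ∧ Nat.testBit H15.YB.X2.mP1_1 (apW (SP X2.T H26.F23.R0 (nat_lit 19)) (nth [] V (nat_lit 1)) (nat_lit 270)) = true := by decide +kernel
theorem pc1 : partChk X2.T.n (nat_lit 20645) [(Nat.lor (nat_lit 0) H15.YB.X2.mP0_1), (Nat.lor (nat_lit 0) H15.YB.X2.mP2_1), (Nat.lor (nat_lit 0) H15.YB.X2.mP4_1), (Nat.lor (nat_lit 0) H15.YB.X2.mP3_1), (nat_lit 0), (nat_lit 0), (Nat.lor (nat_lit 0) H15.YB.X2.mP1_1), (nat_lit 0)] (nth [] aL (nat_lit 1)) = true ∧ nth 0 PL (nat_lit 1) = (nat_lit 1) := by decide +kernel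
theorem st2c : DH.sgU c (nat_lit 479) (nth [] V (nat_lit 2)) (nat_lit 2) S2 = 0 := by decide +kernel
theorem se2 : S2.map Prod.snd = H15.YB.X2.WT := by decide +kernel
theorem e2_1_0 : c.edges (SP X2.T H26.F23.R0 (nat_lit 19)) (nat_lit 479) X2.T.n (nat_lit 2) (nat_lit 1)
  [((nat_lit 192), [], [], (nat_lit 0))] (nat_lit 0) (maskL [(nat_lit 0)]) = 0 := by decide +kernel
theorem u2_1_0 : (nat_lit 0) < X2.T.n ∧ ltAll c.K (nth [] V (nat_lit 2)) = 0 ∧ Nat.testBit H15.YB.X2.mT1_1 (apW (SP X2.T H26.F23.R0 (nat_lit 19)) (nth [] V (nat_lit 2)) (nat_lit 0)) = true := by decide +kernel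
theorem e2_2_0 : c.edges (SP X2.T H26.F23.R0 (nat_lit 19)) (nat_lit 479) X2.T.n (nat_lit 2) (nat_lit 2)
  [((nat_lit 240), [nat_lit 6, nat_lit 9, nat_lit 8, nat_lit 5, nat_lit 3, nat_lit 4, nat_lit 0, nat_lit 1, nat_lit 2, nat_lit 3, nat_lit 7, nat_lit 6, nat_lit 5, nat_lit 4, nat_lit 3, nat_lit 2, nat_lit 1, nat_lit 0], [nat_lit 85, nat_lit 97, nat_lit 95, nat_lit 3, nat_lit 67, nat_lit 35, nat_lit 69, nat_lit 47, nat_lit 50, nat_lit 45], (nat_lit 444))] (nat_lit 0) (maskL [(nat_lit 444)]) = 0 := by decide +kernel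
theorem u2_2_0 : (nat_lit 444) < X2.T.n ∧ ltAll c.K (nth [] V (nat_lit 2)) = 0 ∧ Nat.testBit H15.YB.X2.mT0_1 (apW (SP X2.T H26.F23.R0 (nat_lit 19)) (nth [] V (nat_lit 2)) (nat_lit 444)) = true := by decide +kernel
theorem e2_2_1 : c.edges (SP X2.T H26.F23.R0 (nat_lit 19)) (nat_lit 479) X2.T.n (nat_lit 2) (nat_lit 2)
  [((nat_lit 239), [nat_lit 5, nat_lit 6, nat_lit 9, nat_lit 2, nat_lit 3, nat_lit 7, nat_lit 5, nat_lit 6, nat_lit 4, nat_lit 5, nat_lit 3, nat_lit 4, nat_lit 1, nat_lit 2, nat_lit 3, nat_lit 7, nat_lit 8, nat_lit 4, nat_lit 5, nat_lit 2, nat_lit 3, nat_lit 4, nat_lit 1, nat_lit 2, nat_lit 3, nat_lit 7, nat_lit 6, nat_lit 5, nat_lit 4, nat_lit 3, nat_lit 2, nat_lit 1, nat_lit 0], [nat_lit 96, nat_lit 96, nat_lit 87, nat_lit 54, nat_lit 58, nat_lit 77, nat_lit 23, nat_lit 43, nat_lit 28, nat_lit 41, nat_lit 30], (nat_lit 99473))] (nat_lit 0) (maskL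 [(nat_lit 99473)]) = 0 := by decide +kernel
theorem u2_2_1 : (nat_lit 99473) < X2.T.n ∧ ltAll c.K (nth [] V (nat_lit 2)) = 0 ∧ Nat.testBit H15.YB.X2.mT6_1 (apW (SP X2.T H26.F23.R0 (nat_lit 19)) (nth [] V (nat_lit 2)) (nat_lit 99473)) = true := by decide +kernel
theorem e2_2_2 : c.edges (SP X2.T H26.F23.R0 (nat_lit 19)) (nat_lit 479) X2.T.n (nat_lit 2) (nat_lit 2)
  [((nat_lit 241), [nat_lit 5, nat_lit 4, nat_lit 3, nat_lit 7, nat_lit 2, nat_lit 3, nat_lit 4, nat_lit 5, nat_lit 6, nat_lit 9, nat_lit 8, nat_lit 7, nat_lit 5, nat_lit 2, nat_lit 3, nat_lit 4, nat_lit 1, nat_lit 2, nat_lit 3, nat_lit 7, nat_lit 8, nat_lit 5, nat_lit 2, nat_lit 3, nat_lit 4, nat_lit 1, nat_lit 2, nat_lit 3, nat_lit 7, nat_lit 6, nat_lit 5, nat_lit 4, nat_lit 3, nat_lit 2, nat_lit 1, nat_lit 0], [nat_lit 17, nat_lit 103, nat_lit 38, nat_lit 2, nat_lit 70, nat_lit 57, nat_lit 61, nat_lit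 25, nat_lit 47, nat_lit 32, nat_lit 25], (nat_lit 110151))] (nat_lit 0) (maskL [(nat_lit 110151)]) = 0 := by decide +kernel
theorem u2_2_2 : (nat_lit 110151) < X2.T.n ∧ ltAll c.K (nth [] V (nat_lit 2)) = 0 ∧ Nat.testBit H15.YB.X2.mT5_1 (apW (SP X2.T H26.F23.R0 (nat_lit 19)) (nth [] V (nat_lit 2)) (nat_lit 110151)) = true := by decide +kernel
theorem e2_3_0 : c.edges (SP X2.T H26.F23.R0 (nat_lit 19)) (nat_lit 479) X2.T.n (nat_lit 2) (nat_lit 3)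
  [((nat_lit 242), [nat_lit 3, nat_lit 4, nat_lit 1, nat_lit 2, nat_lit 3, nat_lit 7, nat_lit 0, nat_lit 1, nat_lit 2, nat_lit 3, nat_lit 4, nat_lit 5, nat_lit 6, nat_lit 9, nat_lit 2, nat_lit 3, nat_lit 7, nat_lit 8, nat_lit 5, nat_lit 4, nat_lit 3, nat_lit 7, nat_lit 6, nat_lit 4, nat_lit 5, nat_lit 1, nat_lit 2, nat_lit 3, nat_lit 4, nat_lit 0, nat_lit 1, nat_lit 2, nat_lit 3, nat_lit 7, nat_lit 8, nat_lit 5, nat_lit 2, nat_lit 3, nat_lit 4, nat_lit 1, nat_lit 2, nat_lit 3, nat_lit 7, nat_lit 6, nat_lit 5, nat_lit 4, nat_lit 3, nat_lit 2, nat_lit 1, nat_lit 0], [], (nat_lit 7512))] (nat_lit 0) (maskL [(nat_lit 7512)]) = 0 := by decide +kernel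
theorem u2_3_0 : (nat_lit 7512) < X2.T.n ∧ ltAll c.K (nth [] V (nat_lit 2)) = 0 ∧ Nat.testBit H15.YB.X2.mT7_1 (apW (SP X2.T H26.F23.R0 (nat_lit 19)) (nth [] V (nat_lit 2)) (nat_lit 7512)) = true := by decide +kernel
theorem e2_4_0 : c.edges (SP X2.T H26.F23.R0 (nat_lit 19)) (nat_lit 479) X2.T.n (nat_lit 2) (nat_lit 4)
  [((nat_lit 303), [nat_lit 8, nat_lit 6, nat_lit 5, nat_lit 4, nat_lit 3, nat_lit 7, nat_lit 0, nat_lit 1, nat_lit 2, nat_lit 3, nat_lit 4, nat_lit 5, nat_lit 6, nat_lit 9, nat_lit 5, nat_lit 4, nat_lit 3, nat_lit 7, nat_lit 8, nat_lit 1, nat_lit 2, nat_lit 3, nat_lit 7, nat_lit 6, nat_lit 2, nat_lit 3, nat_lit 4, nat_lit 5, nat_lit 1, nat_lit 2, nat_lit 3, nat_lit 4, nat_lit 0, nat_lit 1, nat_lit 2, nat_lit 3, nat_lit 7, nat_lit 8, nat_lit 5, nat_lit 2, nat_lit 3, nat_lit 4, nat_lit 1, nat_lit 2, nat_lit 3, nat_lit 7, nat_lit 6, nat_lit 5, nat_lit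 4, nat_lit 3, nat_lit 2, nat_lit 1, nat_lit 0], [nat_lit 28, nat_lit 89, nat_lit 39, nat_lit 2, nat_lit 68, nat_lit 70, nat_lit 79, nat_lit 39, nat_lit 38, nat_lit 39, nat_lit 25], (nat_lit 402856))] (nat_lit 0) (maskL [(nat_lit 402856)]) = 0 := by decide +kernel
theorem u2_4_0 : (nat_lit 402856) < X2.T.n ∧ ltAll c.K (nth [] V (nat_lit 2)) = 0 ∧ Nat.testBit H15.YB.X2.mT3_1 (apW (SP X2.T H26.F23.R0 (nat_lit 19)) (nth [] V (nat_lit 2)) (nat_lit 402856)) = true := by decide +kernel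
theorem e2_4_1 : c.edges (SP X2.T H26.F23.R0 (nat_lit 19)) (nat_lit 479) X2.T.n (nat_lit 2) (nat_lit 4)
  [((nat_lit 321), [nat_lit 3, nat_lit 7, nat_lit 0, nat_lit 1, nat_lit 2, nat_lit 3, nat_lit 4, nat_lit 5, nat_lit 6, nat_lit 9, nat_lit 7, nat_lit 8, nat_lit 4, nat_lit 2, nat_lit 3, nat_lit 7, nat_lit 4, nat_lit 5, nat_lit 2, nat_lit 3, nat_lit 4, nat_lit 0, nat_lit 1, nat_lit 2, nat_lit 3, nat_lit 7, nat_lit 8, nat_lit 5, nat_lit 3, nat_lit 4, nat_lit 1, nat_lit 2, nat_lit 3, nat_lit 7, nat_lit 6, nat_lit 5, nat_lit 4, nat_lit 3, nat_lit 2, nat_lit 1, nat_lit 0], [nat_lit 104, nat_lit 29, nat_lit 3, nat_lit 25, nat_lit 79, nat_lit 4, nat_lit 50, nat_lit 29, nat_lit 30], (nat_lit 351518))] (nat_lit 0) (maskL [(nat_lit 351518)]) = 0 := by decide +kernel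
theorem u2_4_1 : (nat_lit 351518) < X2.T.n ∧ ltAll c.K (nth [] V (nat_lit 2)) = 0 ∧ Nat.testBit H15.YB.X2.mT4_1 (apW (SP X2.T H26.F23.R0 (nat_lit 19)) (nth [] V (nat_lit 2)) (nat_lit 351518)) = true := by decide +kernel
theorem e2_5_0 : c.edges (SP X2.T H26.F23.R0 (nat_lit 19)) (nat_lit 479) X2.T.n (nat_lit 2) (nat_lit 5)
  [((nat_lit 340), [nat_lit 3, nat_lit 7, nat_lit 5, nat_lit 6, nat_lit 4, nat_lit 5, nat_lit 3, nat_lit 4, nat_lit 2, nat_lit 3, nat_lit 7, nat_lit 1, nat_lit 2, nat_lit 3, nat_lit 4, nat_lit 5, nat_lit 6, nat_lit 9, nat_lit 7, nat_lit 8, nat_lit 2, nat_lit 3, nat_lit 7, nat_lit 4, nat_lit 5, nat_lit 1, nat_lit 2, nat_lit 3, nat_lit 4, nat_lit 0, nat_lit 1, nat_lit 2, nat_lit 3, nat_lit 7, nat_lit 8, nat_lit 5, nat_lit 3, nat_lit 4, nat_lit 0, nat_lit 1, nat_lit 2, nat_lit 3, nat_lit 7, nat_lit 6, nat_lit 5, nat_lit 4, nat_lit 3, nat_lit 2,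 nat_lit 1, nat_lit 0], [nat_lit 101, nat_lit 88, nat_lit 88, nat_lit 76, nat_lit 79, nat_lit 35, nat_lit 25, nat_lit 37, nat_lit 40], (nat_lit 12359))] (nat_lit 0) (maskL [(nat_lit 12359)]) = 0 := by decide +kernel
theorem u2_5_0 : (nat_lit 12359) < X2.T.n ∧ ltAll c.K (nth [] V (nat_lit 2)) = 0 ∧ Nat.testBit H15.YB.X2.mT2_1 (apW (SP X2.T H26.F23.R0 (nat_lit 19)) (nth [] V (nat_lit 2)) (nat_lit 12359)) = true := by decide +kernel
theorem pc2 : partChk X2.T.n (nat_lit 20645) [(nat_lit 0), (Nat.lor (nat_lit 0) H15.YB.X2.mT1_1), (Nat.lor (Nat.lor (Nat.lor (nat_lit 0) H15.YB.X2.mT0_1) H15.YB.X2.mT6_1) H15.YB.X2.mT5_1), (Nat.lor (nat_lit 0) H15.YB.X2.mT7_1), (Nat.lor (Nat.lor (nat_lit 0) H15.YB.X2.mT3_1) H15.YB.X2.mT4_1), (Nat.lor (nat_lit 0) H15.YB.X2.mT2_1), (nat_lit 0), (nat_lit 0)] (nth [] aL (nat_lit 2)) = true ∧ nth 0 PL (nat_lit 2) = (nat_lit 2) := by decide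 +kernel
theorem st3c : DH.sgU c (nat_lit 479) (nth [] V (nat_lit 3)) (nat_lit 3) S3 = 0 := by decide +kernel
theorem se3 : S3.map Prod.snd = H15.YB.X2.WA := by decide +kernel
theorem e3_1_0 : c.edges (SP X2.T H26.F23.R0 (nat_lit 19)) (nat_lit 479) X2.T.n (nat_lit 3) (nat_lit 1)
  [((nat_lit 275), [nat_lit 4, nat_lit 5, nat_lit 6, nat_lit 9, nat_lit 5, nat_lit 4, nat_lit 1, nat_lit 2, nat_lit 3, nat_lit 7, nat_lit 8, nat_lit 4, nat_lit 5, nat_lit 3, nat_lit 4, nat_lit 0, nat_lit 1, nat_lit 2, nat_lit 3, nat_lit 7, nat_lit 6, nat_lit 5, nat_lit 4, nat_lit 3, nat_lit 2, nat_lit 1, nat_lit 0], [nat_lit 95, nat_lit 102, nat_lit 87, nat_lit 2, nat_lit 35, nat_lit 8, nat_lit 61, nat_lit 39, nat_lit 48, nat_lit 39, nat_lit 25], (nat_lit 27681))] (nat_lit 0) (maskL [(nat_lit 27681)]) = 0 := by decide +kernel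
theorem u3_1_0 : (nat_lit 27681) < X2.T.n ∧ ltAll c.K (nth [] V (nat_lit 3)) = 0 ∧ Nat.testBit H15.YB.X2.mA2_1 (apW (SP X2.T H26.F23.R0 (nat_lit 19)) (nth [] V (nat_lit 3)) (nat_lit 27681)) = true := by decide +kernel
theorem e3_2_0 : c.edges (SP X2.T H26.F23.R0 (nat_lit 19)) (nat_lit 479) X2.T.n (nat_lit 3) (nat_lit 2)
  [((nat_lit 243), [], [], (nat_lit 0))] (nat_lit 0) (maskL [(nat_lit 0)]) = 0 := by decide +kernel
theorem u3_2_0 : (nat_lit 0) < X2.T.n ∧ ltAll c.K (nth [] V (nat_lit 3)) = 0 ∧ Nat.testBit H15.YB.X2.mA6_1 (apW (SP X2.T H26.F23.R0 (nat_lit 19)) (nth [] V (nat_lit 3)) (nat_lit 0)) = true := by decide +kernel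
theorem e3_3_0 : c.edges (SP X2.T H26.F23.R0 (nat_lit 19)) (nat_lit 479) X2.T.n (nat_lit 3) (nat_lit 3)
  [((nat_lit 287), [nat_lit 0, nat_lit 1, nat_lit 2, nat_lit 3, nat_lit 4, nat_lit 5, nat_lit 6, nat_lit 9, nat_lit 6, nat_lit 5, nat_lit 4, nat_lit 1, nat_lit 2, nat_lit 3, nat_lit 7, nat_lit 8, nat_lit 4, nat_lit 2, nat_lit 3, nat_lit 7, nat_lit 3, nat_lit 4, nat_lit 5, nat_lit 1, nat_lit 2, nat_lit 3, nat_lit 4, nat_lit 0, nat_lit 1, nat_lit 2, nat_lit 3, nat_lit 7, nat_lit 8, nat_lit 4, nat_lit 5, nat_lit 3, nat_lit 4, nat_lit 0, nat_lit 1, nat_lit 2, nat_lit 3, nat_lit 7, nat_lit 6, nat_lit 5, nat_lit 4, nat_lit 3, nat_lit 2, nat_lit 1, nat_lit 0], [nat_lit 35, nat_lit 17, nat_lit 7, nat_lit 68, nat_lit 40, nat_lit 35, nat_lit 39, nat_lit 32, nat_lit 28, nat_lit 32, nat_lit 30], (nat_lit 354930))] (nat_lit 0) (maskL [(nat_lit 354930)]) = 0 := by decide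 +kernel
theorem u3_3_0 : (nat_lit 354930) < X2.T.n ∧ ltAll c.K (nth [] V (nat_lit 3)) = 0 ∧ Nat.testBit H15.YB.X2.mA5_1 (apW (SP X2.T H26.F23.R0 (nat_lit 19)) (nth [] V (nat_lit 3)) (nat_lit 354930)) = true := by decide +kernel
theorem e3_3_1 : c.edges (SP X2.T H26.F23.R0 (nat_lit 19)) (nat_lit 479) X2.T.n (nat_lit 3) (nat_lit 3)
  [((nat_lit 285), [nat_lit 9, nat_lit 1, nat_lit 2, nat_lit 3, nat_lit 7, nat_lit 4, nat_lit 5, nat_lit 3, nat_lit 4, nat_lit 2, nat_lit 3, nat_lit 7, nat_lit 8, nat_lit 5, nat_lit 3, nat_lit 4, nat_lit 1, nat_lit 2, nat_lit 3, nat_lit 7, nat_lit 6, nat_lit 5, nat_lit 4, nat_lit 3, nat_lit 2, nat_lit 1, nat_lit 0], [nat_lit 86, nat_lit 38, nat_lit 32, nat_lit 1, nat_lit 81, nat_lit 81, nat_lit 54, nat_lit 12, nat_lit 47, nat_lit 45, nat_lit 42, nat_lit 40], (nat_lit 85826))] (nat_lit 0) (maskL [(nat_lit 85826)]) = 0 := by decide +kernel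

end H15.YB.L2
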