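import Cfsg.Agent.H15.YB.Y2
import Cfsg.Agent.H15.YB.X2

/-! Generated by tools/h15/yb.py. -/

set_option maxRecDepth 100000
set_option maxHeartbeats 0
set_option Elab.async false

namespace H15.YB.L2

open H16 H16.DC
open H26 (jn)

noncomputable def f0 : Fc := ⟨(nat_lit 2), (nat_lit 0), (nat_lit 0), (nat_lit 0), nat_lit 0x3c73731385a1fb58000, nat_lit 0x3c73731385a1fb58000⟩
noncomputable def f1 : Fc := ⟨(nat_lit 0), (nat_lit 0), (nat_lit 0), (nat_lit 0), nat_lit 0x38f37e4a8689c6e8000, nat_lit 0x102ac04f6943a868000⟩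
noncomputable def f2 : Fc := ⟨(nat_lit 0), (nat_lit 0), (nat_lit 0), (nat_lit 0), nat_lit 0x3c75730f85a9fb60000, nat_lit 0x3c8372f385e1fb98000⟩
noncomputable def f3 : Fc := ⟨(nat_lit 0), (nat_lit 0), (nat_lit 0), (nat_lit 0), nat_lit 0x38e4acfd5b4fc128000, nat_lit 0x38e4acfd5b4fc128000⟩
noncomputable def f4 : Fc := ⟨(nat_lit 0), (nat_lit 0), (nat_lit 0), (nat_lit 0), nat_lit 0x3c6f731b85b1fb68000, nat_lit 0x3c6f731b85b1fb68000⟩
noncomputable def f5 : Fc := ⟨(nat_lit 0), (nat_lit 0), (nat_lit 0), (nat_lit 0), nat_lit 0x19ac45947dadf9a0000, nat_lit 0x19ac45947dadf9a0000⟩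
noncomputable def f6 : Fc := ⟨(nat_lit 0), (nat_lit 0), (nat_lit 0), (nat_lit 0), nat_lit 0x3c6b73238581fb38000, nat_lit 0x3c6b73238581fb38000⟩
noncomputable def f7 : Fc := ⟨(nat_lit 0), (nat_lit 0), (nat_lit 0), (nat_lit 0), nat_lit 0x3c8372f385e1fb98000, nat_lit 0x3c75730f85a9fb60000⟩
noncomputable def f8 : Fc := ⟨(nat_lit 0), (nat_lit 0), (nat_lit 0), (nat_lit 0), nat_lit 0x102ac04f6943a868000, nat_lit 0x38f37e4a8689c6e8000⟩
noncomputable def f9 : Fc := ⟨(nat_lit 0), (nat_lit 0), (nat_lit 0), (nat_lit 0), nat_lit 0x3c7379f25f1f7724547, nat_lit 0x3c7379f25f1f7724547⟩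
noncomputable def f10 : Fc := ⟨(nat_lit 0), (nat_lit 0), (nat_lit 0), (nat_lit 0), nat_lit 0x38f37e4a8689c6e8000, nat_lit 0x102ac04f6943a868000⟩
noncomputable def f11 : Fc := ⟨(nat_lit 0), (nat_lit 0), (nat_lit 0), (nat_lit 0), nat_lit 0x3c75730f85a9fb60000, nat_lit 0x3c8372f385e1fb98000⟩
noncomputable def f12 : Fc := ⟨(nat_lit 0), (nat_lit 0), (nat_lit 0), (nat_lit 0), nat_lit 0x3f6f7a130f99e3d8000, nat_lit 0x4ea91fa0dc326018000⟩
noncomputable def f13 : Fc := ⟨(nat_lit 0), (nat_lit 0), (nat_lit 0), (nat_lit 0), nat_lit 0x3f6f7a130f99e3d8000, nat_lit 0x4ea91fa0dc326018000⟩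
noncomputable def f14 : Fc := ⟨(nat_lit 0), (nat_lit 0), (nat_lit 0), (nat_lit 0), nat_lit 0x38e4acfd5b4fc128000, nat_lit 0x38e4acfd5b4fc128000⟩
noncomputable def f15 : Fc := ⟨(nat_lit 0), (nat_lit 0), (nat_lit 0), (nat_lit 0), nat_lit 0x3c6f731b85b1fb68000, nat_lit 0x3c6f731b85b1fb68000⟩
noncomputable def f16 : Fc := ⟨(nat_lit 0), (nat_lit 0), (nat_lit 0), (nat_lit 0), nat_lit 0x19ac45947dadf9a0000, nat_lit 0x19ac45947dadf9a0000⟩
noncomputable def f17 : Fc := ⟨(nat_lit 0), (nat_lit 0), (nat_lit 0), (nat_lit 0), nat_lit 0x3c737ab331a53c60000, nat_lit 0x4f299ea901775fb8000⟩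
noncomputable def f18 : Fc := ⟨(nat_lit 0), (nat_lit 0), (nat_lit 0), (nat_lit 0), nat_lit 0x3c737ab331a53c60000, nat_lit 0x4f299ea901775fb8000⟩
noncomputable def f19 : Fc := ⟨(nat_lit 0), (nat_lit 0), (nat_lit 0), (nat_lit 0), nat_lit 0x3c6b73238581fb38000, nat_lit 0x3c6b73238581fb38000⟩
noncomputable def f20 : Fc := ⟨(nat_lit 0), (nat_lit 0), (nat_lit 0), (nat_lit 0), nat_lit 0x3c8372f385e1fb98000, nat_lit 0x3c75730f85a9fb60000⟩
noncomputable def f21 : Fc := ⟨(nat_lit 0), (nat_lit 0), (nat_lit 0), (nat_lit 0), nat_lit 0x4067304bd5e11040000, nat_lit 0x13a89970bc121040000⟩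
noncomputable def f22 : Fc := ⟨(nat_lit 0), (nat_lit 0), (nat_lit 0), (nat_lit 0), nat_lit 0x4067304bd5e11040000, nat_lit 0x13a89970bc121040000⟩
noncomputable def f23 : Fc := ⟨(nat_lit 0), (nat_lit 0), (nat_lit 0), (nat_lit 0), nat_lit 0x3111af8f2c04b338000, nat_lit 0x335f569b1956d498000⟩
noncomputable def f24 : Fc := ⟨(nat_lit 0), (nat_lit 0), (nat_lit 0), (nat_lit 0), nat_lit 0x2426e85d3150ecf0000, nat_lit 0x3673efd43c6ac8e0000⟩
noncomputable def f25 : Fc := ⟨(nat_lit 0), (nat_lit 0), (nat_lit 0), (nat_lit 0), nat_lit 0x3cf3721387a1f958000, nat_lit 0x3cf3721387a1f958000⟩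
noncomputable def f26 : Fc := ⟨(nat_lit 0), (nat_lit 0), (nat_lit 0), (nat_lit 0), nat_lit 0x3cf3721387a1f958000, nat_lit 0x3cf3721387a1f958000⟩
noncomputable def f27 : Fc := ⟨(nat_lit 0), (nat_lit 0), (nat_lit 0), (nat_lit 0), nat_lit 0x102ac04f6943a868000, nat_lit 0x38f37e4a8689c6e8000⟩
noncomputable def f28 : Fc := ⟨(nat_lit 0), (nat_lit 0), (nat_lit 0), (nat_lit 0), nat_lit 0x71caf692e93abad0000, nat_lit 0x173feacce5d3a908000⟩
noncomputable def f29 : Fc := ⟨(nat_lit 0), (nat_lit 0), (nat_lit 0), (nat_lit 0), nat_lit 0x40dd8af369349440000, nat_lit 0x12fdbc1bdbf5cb38000⟩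
noncomputable def f30 : Fc := ⟨(nat_lit 0), (nat_lit 0), (nat_lit 0), (nat_lit 0), nat_lit 0x2432c5bdeea199a8000, nat_lit 0x2432c5bdeea199a8000⟩
noncomputable def f31 : Fc := ⟨(nat_lit 0), (nat_lit 0), (nat_lit 0), (nat_lit 0), nat_lit 0x2432c5bdeea199a8000, nat_lit 0x2432c5bdeea199a8000⟩
noncomputable def f32 : Fc := ⟨(nat_lit 0), (nat_lit 0), (nat_lit 0), (nat_lit 0), nat_lit 0x3c731f1e6a5675d0000, nat_lit 0x35711e924d49fb58000⟩
noncomputable def f33 : Fc := ⟨(nat_lit 0), (nat_lit 0), (nat_lit 0), (nat_lit 0), nat_lit 0x3c731f1e6a5675d0000, nat_lit 0x35711e924d49fb58000⟩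
noncomputable def f34 : Fc := ⟨(nat_lit 0), (nat_lit 0), (nat_lit 0), (nat_lit 0), nat_lit 0x3c7379f25f1f7724547, nat_lit 0x3c7379f25f1f7724547⟩
noncomputable def f35 : Fc := ⟨(nat_lit 0), (nat_lit 0), (nat_lit 0), (nat_lit 0), nat_lit 0x2e2d73126899714eb2b, nat_lit 0x2e2d73126899714eb2b⟩
noncomputable def f36 : Fc := ⟨(nat_lit 0), (nat_lit 0), (nat_lit 0), (nat_lit 0), nat_lit 0x2e2d73126899714eb2b, nat_lit 0x2e2d73126899714eb2b⟩
noncomputable def f37 : Fc := ⟨(nat_lit 0), (nat_lit 0), (nat_lit 0), (nat_lit 0), nat_lit 0x1983f73a39f641f432f, nat_lit 0x1f4ad3a8e664dac4341⟩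
noncomputable def f38 : Fc := ⟨(nat_lit 0), (nat_lit 0), (nat_lit 0), (nat_lit 0), nat_lit 0x1f8c3aeda4ff354c32f, nat_lit 0x65f4eda6d7cacdd4341⟩
noncomputable def f39 : Fc := ⟨(nat_lit 0), (nat_lit 0), (nat_lit 0), (nat_lit 0), nat_lit 0x2bac704d4cb0e78ce8, nat_lit 0x6d1697a765e45b68ce8⟩
noncomputable def f40 : Fc := ⟨(nat_lit 0), (nat_lit 0), (nat_lit 0), (nat_lit 0), nat_lit 0x1070d012bc778598ca2, nat_lit 0x6992998ca68d30205bc⟩
noncomputable def f41 : Fc := ⟨(nat_lit 0), (nat_lit 0), (nat_lit 0), (nat_lit 0), nat_lit 0x96f81adccefa8b8ce8, nat_lit 0x3636397f9a800eb0ce8⟩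
noncomputable def f42 : Fc := ⟨(nat_lit 0), (nat_lit 0), (nat_lit 0), (nat_lit 0), nat_lit 0x7575c02355865360ca2, nat_lit 0x6103af4e6b66a7585bc⟩
noncomputable def f43 : Fc := ⟨(nat_lit 0), (nat_lit 0), (nat_lit 0), (nat_lit 0), nat_lit 0x2d84aa2b1290b63c32f, nat_lit 0x1981803538e2c594341⟩
noncomputable def f44 : Fc := ⟨(nat_lit 0), (nat_lit 0), (nat_lit 0), (nat_lit 0), nat_lit 0x60537a0fb292d36432f, nat_lit 0x4318b38f7971a6ec341⟩
noncomputable def f45 : Fc := ⟨(nat_lit 0), (nat_lit 0), (nat_lit 0), (nat_lit 0), nat_lit 0x3d6162413a59795c32f, nat_lit 0x15987b86c2968ecc341⟩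
noncomputable def f46 : Fc := ⟨(nat_lit 0), (nat_lit 0), (nat_lit 0), (nat_lit 0), nat_lit 0x3b85a90c53de897432f, nat_lit 0x49038c927546a25c341⟩
noncomputable def f47 : Fc := ⟨(nat_lit 0), (nat_lit 0), (nat_lit 0), (nat_lit 0), nat_lit 0x662dea23052a52a8ca2, nat_lit 0x27b107260f81dc205bc⟩
noncomputable def f48 : Fc := ⟨(nat_lit 0), (nat_lit 0), (nat_lit 0), (nat_lit 0), nat_lit 0x9979e36de4ebf8987, nat_lit 0x29e88d691ea020c0963⟩
noncomputable def f49 : Fc := ⟨(nat_lit 0), (nat_lit 0), (nat_lit 0), (nat_lit 0), nat_lit 0x240db5370eddd400987, nat_lit 0x223bbf690e1c8598963⟩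
noncomputable def f50 : Fc := ⟨(nat_lit 0), (nat_lit 0), (nat_lit 0), (nat_lit 0), nat_lit 0x3d8a9921a76f8c089eb, nat_lit 0x664015de2bf8d8208ba⟩
noncomputable def f51 : Fc := ⟨(nat_lit 0), (nat_lit 0), (nat_lit 0), (nat_lit 0), nat_lit 0x34ab9d6b3d6e198432f, nat_lit 0x5b67672bcfefd074341⟩
noncomputable def f52 : Fc := ⟨(nat_lit 0), (nat_lit 0), (nat_lit 0), (nat_lit 0), nat_lit 0x77a5a58a4e5179ec32f, nat_lit 0x36363880f16d56b4341⟩
noncomputable def f53 : Fc := ⟨(nat_lit 0), (nat_lit 0), (nat_lit 0), (nat_lit 0), nat_lit 0x376570db20127c78ce8, nat_lit 0x4f8be95898f0d440ce8⟩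
noncomputable def f54 : Fc := ⟨(nat_lit 0), (nat_lit 0), (nat_lit 0), (nat_lit 0), nat_lit 0x1062cf92be678520ca6, nat_lit 0x69959a04a47d2e005ba⟩
noncomputable def f55 : Fc := ⟨(nat_lit 0), (nat_lit 0), (nat_lit 0), (nat_lit 0), nat_lit 0x74eaf3a7bf5eebf0ce8, nat_lit 0x734ae867ecb7dcd8ce8⟩
noncomputable def f56 : Fc := ⟨(nat_lit 0), (nat_lit 0), (nat_lit 0), (nat_lit 0), nat_lit 0x3c48a34d75b89ce8ca6, nat_lit 0x27602035ebc4d1785ba⟩
noncomputable def f57 : Fc := ⟨(nat_lit 0), (nat_lit 0), (nat_lit 0), (nat_lit 0), nat_lit 0x3a91c6a36c04cfe8000, nat_lit 0x60ed332a5ec34410000⟩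
noncomputable def f58 : Fc := ⟨(nat_lit 0), (nat_lit 0), (nat_lit 0), (nat_lit 0), nat_lit 0x271cb2577876fab0000, nat_lit 0xe4f592fe7d1fa08000⟩
noncomputable def f59 : Fc := ⟨(nat_lit 0), (nat_lit 0), (nat_lit 0), (nat_lit 0), nat_lit 0x63b8b529cac7546d2f, nat_lit 0x3f72b4681199721f6c5⟩
noncomputable def f60 : Fc := ⟨(nat_lit 0), (nat_lit 0), (nat_lit 0), (nat_lit 0), nat_lit 0x63b8b529cac7546d2f, nat_lit 0x3f72b4681199721f6c5⟩
noncomputable def f61 : Fc := ⟨(nat_lit 0), (nat_lit 0), (nat_lit 0), (nat_lit 0), nat_lit 0x64802aefb55f2445abb, nat_lit 0x69af8d54d20f4d9dabb⟩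
noncomputable def f62 : Fc := ⟨(nat_lit 0), (nat_lit 0), (nat_lit 0), (nat_lit 0), nat_lit 0x389f1400d45b7404b54, nat_lit 0x20170b7745acdb1cb5e⟩
noncomputable def f63 : Fc := ⟨(nat_lit 0), (nat_lit 0), (nat_lit 0), (nat_lit 0), nat_lit 0x439e223f487750b8000, nat_lit 0x6f5173124f2b8950000⟩
noncomputable def f64 : Fc := ⟨(nat_lit 0), (nat_lit 0), (nat_lit 0), (nat_lit 0), nat_lit 0x439e223f487750b8000, nat_lit 0x6f5173124f2b8950000⟩
noncomputable def f65 : Fc := ⟨(nat_lit 0), (nat_lit 0), (nat_lit 0), (nat_lit 0), nat_lit 0x1b97e3d0a8343540ce8, nat_lit 0x5c30ec69a54705d8ce8⟩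
noncomputable def f66 : Fc := ⟨(nat_lit 0), (nat_lit 0), (nat_lit 0), (nat_lit 0), nat_lit 0x6c8565f3bf9d4b9030b, nat_lit 0x2247af5383a1c5b030d⟩
noncomputable def f67 : Fc := ⟨(nat_lit 0), (nat_lit 0), (nat_lit 0), (nat_lit 0), nat_lit 0x4951c851186455a0cea, nat_lit 0x4a74efcb1c5628a8cea⟩
noncomputable def f68 : Fc := ⟨(nat_lit 0), (nat_lit 0), (nat_lit 0), (nat_lit 0), nat_lit 0x6864f237adf86f3030b, nat_lit 0x6870f3177904d4c830d⟩
noncomputable def f69 : Fc := ⟨(nat_lit 0), (nat_lit 0), (nat_lit 0), (nat_lit 0), nat_lit 0x21d812b4d74a246893e, nat_lit 0x3b82ced5ebe57f88938⟩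
noncomputable def f70 : Fc := ⟨(nat_lit 0), (nat_lit 0), (nat_lit 0), (nat_lit 0), nat_lit 0x6a4009cb84ee27c0a85, nat_lit 0x2c983b2ecae64d205f6⟩
noncomputable def f71 : Fc := ⟨(nat_lit 0), (nat_lit 0), (nat_lit 0), (nat_lit 0), nat_lit 0x3d0c0767a39e400ca6, nat_lit 0x261d4895e2b448085ba⟩
noncomputable def f72 : Fc := ⟨(nat_lit 0), (nat_lit 0), (nat_lit 0), (nat_lit 0), nat_lit 0x2aa54d24f1099408ca2, nat_lit 0x5f8a7a917cf4b9b85bc⟩
noncomputable def f73 : Fc := ⟨(nat_lit 0), (nat_lit 0), (nat_lit 0), (nat_lit 0), nat_lit 0x2efa36289d43489fab7, nat_lit 0x3afcdac5bf8260dfb61⟩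
noncomputable def f74 : Fc := ⟨(nat_lit 0), (nat_lit 0), (nat_lit 0), (nat_lit 0), nat_lit 0x10c00a2c9c9a7d51ab5, nat_lit 0x6fa9edfe68299e81ab5⟩
noncomputable def f75 : Fc := ⟨(nat_lit 0), (nat_lit 0), (nat_lit 0), (nat_lit 0), nat_lit 0x3e3054a19a3f9c3432f, nat_lit 0x12acf3dc7e4b5fa4341⟩
noncomputable def f76 : Fc := ⟨(nat_lit 0), (nat_lit 0), (nat_lit 0), (nat_lit 0), nat_lit 0x75e0c1b2ef2dbab432f, nat_lit 0x7998eb0c61c3cadc341⟩
noncomputable def f77 : Fc := ⟨(nat_lit 0), (nat_lit 0), (nat_lit 0), (nat_lit 0), nat_lit 0x158f99bd91c45648741, nat_lit 0x10b3d0285e8b90f8d72⟩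
noncomputable def f78 : Fc := ⟨(nat_lit 0), (nat_lit 0), (nat_lit 0), (nat_lit 0), nat_lit 0x3e103272c4d54a3030b, nat_lit 0x51d8c21e716de52830d⟩
noncomputable def f79 : Fc := ⟨(nat_lit 0), (nat_lit 0), (nat_lit 0), (nat_lit 0), nat_lit 0x622f1107bc173344b54, nat_lit 0x58d218671ae1a01cb5e⟩
noncomputable def f80 : Fc := ⟨(nat_lit 0), (nat_lit 0), (nat_lit 0), (nat_lit 0), nat_lit 0x51799f32cc4e8b8dabb, nat_lit 0x48ea41fb0cf24715abb⟩
noncomputable def f81 : Fc := ⟨(nat_lit 0), (nat_lit 0), (nat_lit 0), (nat_lit 0), nat_lit 0x3ca4c04b48afd236429, nat_lit 0x557c1e9871d682677e4⟩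
noncomputable def f82 : Fc := ⟨(nat_lit 0), (nat_lit 0), (nat_lit 0), (nat_lit 0), nat_lit 0x1daca33de2b7c69eb2d, nat_lit 0x645d3a86239f1146b2d⟩
noncomputable def f83 : Fc := ⟨(nat_lit 0), (nat_lit 0), (nat_lit 0), (nat_lit 0), nat_lit 0x519bd97954af8d60d05, nat_lit 0x2ba1e23759b99570d0f⟩
noncomputable def f84 : Fc := ⟨(nat_lit 0), (nat_lit 0), (nat_lit 0), (nat_lit 0), nat_lit 0x5451beeab08d7e68db1, nat_lit 0x59ff013816f7b910db1⟩
noncomputable def f85 : Fc := ⟨(nat_lit 0), (nat_lit 0), (nat_lit 0), (nat_lit 0), nat_lit 0x71cbf684e832b6c0000, nat_lit 0x17afeaa8e393a968000⟩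
noncomputable def f86 : Fc := ⟨(nat_lit 0), (nat_lit 0), (nat_lit 0), (nat_lit 0), nat_lit 0x66c2808b879b6668000, nat_lit 0x364563146b668d68000⟩
noncomputable def f87 : Fc := ⟨(nat_lit 0), (nat_lit 0), (nat_lit 0), (nat_lit 0), nat_lit 0x40ed473eb0cf3af92d9, nat_lit 0x12fb2fa896ba05f12d9⟩
noncomputable def f88 : Fc := ⟨(nat_lit 0), (nat_lit 0), (nat_lit 0), (nat_lit 0), nat_lit 0x7261d32fb44b158c547, nat_lit 0x1cecb874f210f1dc547⟩
noncomputable def f89 : Fc := ⟨(nat_lit 0), (nat_lit 0), (nat_lit 0), (nat_lit 0), nat_lit 0x62764e4ae4869590000, nat_lit 0x55b3d81439065770000⟩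
noncomputable def f90 : Fc := ⟨(nat_lit 0), (nat_lit 0), (nat_lit 0), (nat_lit 0), nat_lit 0x49fa5af8e22bc608000, nat_lit 0x25c6934dc9129cb8000⟩
noncomputable def f91 : Fc := ⟨(nat_lit 0), (nat_lit 0), (nat_lit 0), (nat_lit 0), nat_lit 0x2588269ca2b760b0000, nat_lit 0x2588269ca2b760b0000⟩
noncomputable def f92 : Fc := ⟨(nat_lit 0), (nat_lit 0), (nat_lit 0), (nat_lit 0), nat_lit 0x17ff5708e80a69d8000, nat_lit 0x17ff5708e80a69d8000⟩
noncomputable def f93 : Fc := ⟨(nat_lit 0), (nat_lit 0), (nat_lit 0), (nat_lit 0), nat_lit 0x1a00d7fb6d61e748000, nat_lit 0x55dcbff9cd7e5e70000⟩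
noncomputable def f94 : Fc := ⟨(nat_lit 0), (nat_lit 0), (nat_lit 0), (nat_lit 0), nat_lit 0x5395ddc087d17358000, nat_lit 0x6751f1aaf0429720000⟩
noncomputable def f95 : Fc := ⟨(nat_lit 0), (nat_lit 0), (nat_lit 0), (nat_lit 0), nat_lit 0x5829e48afde0bf00000, nat_lit 0x11d6b1914e994c38000⟩
noncomputable def f96 : Fc := ⟨(nat_lit 0), (nat_lit 0), (nat_lit 0), (nat_lit 0), nat_lit 0x542d6c4a57d95d28000, nat_lit 0x4f37eeeb06f5b9e8000⟩
noncomputable def f97 : Fc := ⟨(nat_lit 0), (nat_lit 0), (nat_lit 0), (nat_lit 0), nat_lit 0x40ba6b1e3a2b9df7aaf, nat_lit 0x5163b19a958eefefb65⟩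
noncomputable def f98 : Fc := ⟨(nat_lit 0), (nat_lit 0), (nat_lit 0), (nat_lit 0), nat_lit 0x22e7e8d6456973b6b2b, nat_lit 0x6c1d0f3ca400480eb2b⟩
noncomputable def f99 : Fc := ⟨(nat_lit 0), (nat_lit 0), (nat_lit 0), (nat_lit 0), nat_lit 0x53c05a3fce529e26b2b, nat_lit 0x53c05a3fce529e26b2b⟩
noncomputable def f100 : Fc := ⟨(nat_lit 0), (nat_lit 0), (nat_lit 0), (nat_lit 0), nat_lit 0x588c29e27083ac74ed0, nat_lit 0x588c29e27083ac74ed0⟩
noncomputable def f101 : Fc := ⟨(nat_lit 0), (nat_lit 0), (nat_lit 0), (nat_lit 0), nat_lit 0x13c88a65ddda7cd8000, nat_lit 0x2c3d78da473ee748000⟩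
noncomputable def f102 : Fc := ⟨(nat_lit 0), (nat_lit 0), (nat_lit 0), (nat_lit 0), nat_lit 0x3b7c4586d224f6a0000, nat_lit 0x3b6e82a3c091fad0000⟩
noncomputable def f103 : Fc := ⟨(nat_lit 0), (nat_lit 0), (nat_lit 0), (nat_lit 0), nat_lit 0x1147d8d8fc308888000, nat_lit 0x19f867ff5431e780000⟩
noncomputable def f104 : Fc := ⟨(nat_lit 0), (nat_lit 0), (nat_lit 0), (nat_lit 0), nat_lit 0x2d096be0838b0b00000, nat_lit 0x463377c13bc9c900000⟩
noncomputable def f105 : Fc := ⟨(nat_lit 1), (nat_lit 0), (nat_lit 0), (nat_lit 0), nat_lit 0x3c747315859dfb58000, nat_lit 0⟩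
noncomputable def f106 : Fc := ⟨(nat_lit 1), (nat_lit 0), (nat_lit 0), (nat_lit 0), nat_lit 0x3c747315859dfb58000, nat_lit 0⟩
noncomputable def f107 : Fc := ⟨(nat_lit 1), (nat_lit 0), (nat_lit 0), (nat_lit 0), nat_lit 0x38f37e4a8689c6e8000, nat_lit 0⟩
noncomputable def f108 : Fc := ⟨(nat_lit 1), (nat_lit 0), (nat_lit 0), (nat_lit 0), nat_lit 0x38f37e4a8689c6e8000, nat_lit 0⟩
noncomputable def f109 : Fc := ⟨(nat_lit 1), (nat_lit 0), (nat_lit 0), (nat_lit 0), nat_lit 0x3c75730f85a9fb60000, nat_lit 0⟩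
noncomputable def f110 : Fc := ⟨(nat_lit 1), (nat_lit 0), (nat_lit 0), (nat_lit 0), nat_lit 0x3c75730f85a9fb60000, nat_lit 0⟩
noncomputable def f111 : Fc := ⟨(nat_lit 1), (nat_lit 0), (nat_lit 0), (nat_lit 0), nat_lit 0x38e4acfd5b4fc128000, nat_lit 0⟩
noncomputable def f112 : Fc := ⟨(nat_lit 1), (nat_lit 0), (nat_lit 0), (nat_lit 0), nat_lit 0x38e4acfd5b4fc128000, nat_lit 0⟩
noncomputable def f113 : Fc := ⟨(nat_lit 1), (nat_lit 0), (nat_lit 0), (nat_lit 0), nat_lit 0x6f6247db0e0dfb60000, nat_lit 0⟩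
noncomputable def f114 : Fc := ⟨(nat_lit 1), (nat_lit 0), (nat_lit 0), (nat_lit 0), nat_lit 0x38e5acf75b5bc128000, nat_lit 0⟩
noncomputable def f115 : Fc := ⟨(nat_lit 1), (nat_lit 0), (nat_lit 0), (nat_lit 0), nat_lit 0x3c6f731b85b1fb68000, nat_lit 0⟩
noncomputable def f116 : Fc := ⟨(nat_lit 1), (nat_lit 0), (nat_lit 0), (nat_lit 0), nat_lit 0x3c6f731b85b1fb68000, nat_lit 0⟩
noncomputable def f117 : Fc := ⟨(nat_lit 1), (nat_lit 0), (nat_lit 0), (nat_lit 0), nat_lit 0x3f727a170f81e3c8000, nat_lit 0⟩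
noncomputable def f118 : Fc := ⟨(nat_lit 1), (nat_lit 0), (nat_lit 0), (nat_lit 0), nat_lit 0x38f17e488691c6b8000, nat_lit 0⟩
noncomputable def f119 : Fc := ⟨(nat_lit 1), (nat_lit 0), (nat_lit 0), (nat_lit 0), nat_lit 0x19ac45947dadf9a0000, nat_lit 0⟩
noncomputable def f120 : Fc := ⟨(nat_lit 1), (nat_lit 0), (nat_lit 0), (nat_lit 0), nat_lit 0x19ac45947dadf9a0000, nat_lit 0⟩
noncomputable def f121 : Fc := ⟨(nat_lit 1), (nat_lit 0), (nat_lit 0), (nat_lit 0), nat_lit 0x19ad458e7db9f998000, nat_lit 0⟩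
noncomputable def f122 : Fc := ⟨(nat_lit 1), (nat_lit 0), (nat_lit 0), (nat_lit 0), nat_lit 0x19ad458e7db9f998000, nat_lit 0⟩
noncomputable def f123 : Fc := ⟨(nat_lit 1), (nat_lit 0), (nat_lit 0), (nat_lit 0), nat_lit 0x3f727a170f81e3c8000, nat_lit 0⟩
noncomputable def f124 : Fc := ⟨(nat_lit 1), (nat_lit 0), (nat_lit 0), (nat_lit 0), nat_lit 0x38f17e488691c6b8000, nat_lit 0⟩
noncomputable def f125 : Fc := ⟨(nat_lit 1), (nat_lit 0), (nat_lit 0), (nat_lit 0), nat_lit 0x6de3a4a47791f998000, nat_lit 0⟩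
noncomputable def f126 : Fc := ⟨(nat_lit 1), (nat_lit 0), (nat_lit 0), (nat_lit 0), nat_lit 0x19f55f790601b450000, nat_lit 0⟩
noncomputable def f127 : Fc := ⟨(nat_lit 1), (nat_lit 0), (nat_lit 0), (nat_lit 0), nat_lit 0x30ce2dfdcc996fb8000, nat_lit 0⟩
noncomputable def f128 : Fc := ⟨(nat_lit 1), (nat_lit 0), (nat_lit 0), (nat_lit 0), nat_lit 0x1a01d7fd6d65e740000, nat_lit 0⟩
noncomputable def f129 : Fc := ⟨(nat_lit 1), (nat_lit 0), (nat_lit 0), (nat_lit 0), nat_lit 0x3c6b73238581fb38000, nat_lit 0⟩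
noncomputable def f130 : Fc := ⟨(nat_lit 1), (nat_lit 0), (nat_lit 0), (nat_lit 0), nat_lit 0x3c6b73238581fb38000, nat_lit 0⟩
noncomputable def f131 : Fc := ⟨(nat_lit 1), (nat_lit 0), (nat_lit 0), (nat_lit 0), nat_lit 0x7107de334d69d658000, nat_lit 0⟩
noncomputable def f132 : Fc := ⟨(nat_lit 1), (nat_lit 0), (nat_lit 0), (nat_lit 0), nat_lit 0x38e0289270d77b70000, nat_lit 0⟩
noncomputable def f133 : Fc := ⟨(nat_lit 1), (nat_lit 0), (nat_lit 0), (nat_lit 0), nat_lit 0x3f727a170f81e3c8000, nat_lit 0⟩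
noncomputable def f134 : Fc := ⟨(nat_lit 1), (nat_lit 0), (nat_lit 0), (nat_lit 0), nat_lit 0x38f17e488691c6b8000, nat_lit 0⟩
noncomputable def f135 : Fc := ⟨(nat_lit 1), (nat_lit 0), (nat_lit 0), (nat_lit 0), nat_lit 0x19bb5f7d43f77950000, nat_lit 0⟩
noncomputable def f136 : Fc := ⟨(nat_lit 1), (nat_lit 0), (nat_lit 0), (nat_lit 0), nat_lit 0x19bb5f7d43f77950000, nat_lit 0⟩
noncomputable def f137 : Fc := ⟨(nat_lit 1), (nat_lit 0), (nat_lit 0), (nat_lit 0), nat_lit 0x19b345a27dd1f980000, nat_lit 0⟩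
noncomputable def f138 : Fc := ⟨(nat_lit 1), (nat_lit 0), (nat_lit 0), (nat_lit 0), nat_lit 0x395cb7bd0d37d258000, nat_lit 0⟩
noncomputable def f139 : Fc := ⟨(nat_lit 1), (nat_lit 0), (nat_lit 0), (nat_lit 0), nat_lit 0x7a5d4adb862de748000, nat_lit 0⟩
noncomputable def f140 : Fc := ⟨(nat_lit 1), (nat_lit 0), (nat_lit 0), (nat_lit 0), nat_lit 0x4f4de1307fe8e398000, nat_lit 0⟩
noncomputable def f141 : Fc := ⟨(nat_lit 1), (nat_lit 0), (nat_lit 0), (nat_lit 0), nat_lit 0x3c8372f385e1fb98000, nat_lit 0⟩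
noncomputable def f142 : Fc := ⟨(nat_lit 1), (nat_lit 0), (nat_lit 0), (nat_lit 0), nat_lit 0x3c8372f385e1fb98000, nat_lit 0⟩
noncomputable def f143 : Fc := ⟨(nat_lit 1), (nat_lit 0), (nat_lit 0), (nat_lit 0), nat_lit 0x6f27415c509bd260000, nat_lit 0⟩
noncomputable def f144 : Fc := ⟨(nat_lit 1), (nat_lit 0), (nat_lit 0), (nat_lit 0), nat_lit 0x19ee5f8705ddb440000, nat_lit 0⟩
noncomputable def f145 : Fc := ⟨(nat_lit 1), (nat_lit 0), (nat_lit 0), (nat_lit 0), nat_lit 0x102ac04f6943a868000, nat_lit 0⟩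
noncomputable def f146 : Fc := ⟨(nat_lit 1), (nat_lit 0), (nat_lit 0), (nat_lit 0), nat_lit 0x102ac04f6943a868000, nat_lit 0⟩
noncomputable def f147 : Fc := ⟨(nat_lit 2), (nat_lit 0), (nat_lit 1), (nat_lit 0), nat_lit 0x73c614a0e35d8977ab0, nat_lit 0x3c73731385a1fb58000⟩
noncomputable def f148 : Fc := ⟨(nat_lit 2), (nat_lit 1), (nat_lit 0), (nat_lit 0), nat_lit 0x3c73731385a1fb58000, nat_lit 0x73c614a0e35d8977ab0⟩
noncomputable def f149 : Fc := ⟨(nat_lit 1), (nat_lit 1), (nat_lit 1), (nat_lit 0), nat_lit 0x346c1833849fbc07ab7, nat_lit 0⟩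
noncomputable def f150 : Fc := ⟨(nat_lit 1), (nat_lit 1), (nat_lit 1), (nat_lit 0), nat_lit 0x3098020f5c41e6c7ab7, nat_lit 0⟩
noncomputable def f151 : Fc := ⟨(nat_lit 1), (nat_lit 1), (nat_lit 1), (nat_lit 0), nat_lit 0x64fd02873b89d747ab7, nat_lit 0⟩
noncomputable def f152 : Fc := ⟨(nat_lit 1), (nat_lit 1), (nat_lit 1), (nat_lit 0), nat_lit 0x64fd02873b89d747ab7, nat_lit 0⟩
noncomputable def f153 : Fc := ⟨(nat_lit 1), (nat_lit 1), (nat_lit 1), (nat_lit 0), nat_lit 0x25de16f0f06c6fefab7, nat_lit 0⟩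
noncomputable def f154 : Fc := ⟨(nat_lit 1), (nat_lit 1), (nat_lit 1), (nat_lit 0), nat_lit 0x102ec0576953a858000, nat_lit 0⟩
noncomputable def f155 : Fc := ⟨(nat_lit 1), (nat_lit 1), (nat_lit 1), (nat_lit 0), nat_lit 0x102ec0576953a858000, nat_lit 0⟩
noncomputable def f156 : Fc := ⟨(nat_lit 1), (nat_lit 1), (nat_lit 1), (nat_lit 0), nat_lit 0x102ac04f6943a868000, nat_lit 0⟩
noncomputable def f157 : Fc := ⟨(nat_lit 1), (nat_lit 1), (nat_lit 1), (nat_lit 0), nat_lit 0x102ac04f6943a868000, nat_lit 0⟩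
noncomputable def f158 : Fc := ⟨(nat_lit 1), (nat_lit 1), (nat_lit 1), (nat_lit 0), nat_lit 0x1f5c0cbd3c9a6eb7ab7, nat_lit 0⟩
noncomputable def f159 : Fc := ⟨(nat_lit 1), (nat_lit 1), (nat_lit 1), (nat_lit 0), nat_lit 0x4e865fd961fb11b8000, nat_lit 0⟩
noncomputable def f160 : Fc := ⟨(nat_lit 1), (nat_lit 1), (nat_lit 1), (nat_lit 0), nat_lit 0x1036c0476973a838000, nat_lit 0⟩
noncomputable def f161 : Fc := ⟨(nat_lit 1), (nat_lit 1), (nat_lit 1), (nat_lit 0), nat_lit 0x1036c0476973a838000, nat_lit 0⟩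
noncomputable def f162 : Fc := ⟨(nat_lit 1), (nat_lit 1), (nat_lit 1), (nat_lit 0), nat_lit 0x4e865fd961fb11b8000, nat_lit 0⟩
noncomputable def f163 : Fc := ⟨(nat_lit 1), (nat_lit 1), (nat_lit 1), (nat_lit 0), nat_lit 0x1eb44d84def611ac549, nat_lit 0⟩
noncomputable def f164 : Fc := ⟨(nat_lit 1), (nat_lit 1), (nat_lit 1), (nat_lit 0), nat_lit 0x1eb44d84def611ac549, nat_lit 0⟩
noncomputable def f165 : Fc := ⟨(nat_lit 1), (nat_lit 1), (nat_lit 1), (nat_lit 0), nat_lit 0x4efe026986b1234fab7, nat_lit 0⟩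
noncomputable def f166 : Fc := ⟨(nat_lit 1), (nat_lit 1), (nat_lit 1), (nat_lit 0), nat_lit 0x4efe026986b1234fab7, nat_lit 0⟩
noncomputable def f167 : Fc := ⟨(nat_lit 1), (nat_lit 1), (nat_lit 1), (nat_lit 0), nat_lit 0x7001490538837f6cb90, nat_lit 0⟩
noncomputable def f168 : Fc := ⟨(nat_lit 1), (nat_lit 1), (nat_lit 1), (nat_lit 0), nat_lit 0x3b76f43d171b7177ab6, nat_lit 0⟩
noncomputable def f169 : Fc := ⟨(nat_lit 1), (nat_lit 1), (nat_lit 1), (nat_lit 0), nat_lit 0x15127ccc5e8fcdd8000, nat_lit 0⟩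
noncomputable def f170 : Fc := ⟨(nat_lit 1), (nat_lit 1), (nat_lit 1), (nat_lit 0), nat_lit 0x6752f1b5686ee8a0000, nat_lit 0⟩
noncomputable def f171 : Fc := ⟨(nat_lit 1), (nat_lit 1), (nat_lit 1), (nat_lit 0), nat_lit 0x171c37b6883fa01c549, nat_lit 0⟩
noncomputable def f172 : Fc := ⟨(nat_lit 1), (nat_lit 1), (nat_lit 1), (nat_lit 0), nat_lit 0x21544e0b4cea9634549, nat_lit 0⟩
noncomputable def f173 : Fc := ⟨(nat_lit 1), (nat_lit 1), (nat_lit 1), (nat_lit 0), nat_lit 0x64fd02873b89d747ab7, nat_lit 0⟩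
noncomputable def f174 : Fc := ⟨(nat_lit 1), (nat_lit 1), (nat_lit 1), (nat_lit 0), nat_lit 0x64fd02873b89d747ab7, nat_lit 0⟩
noncomputable def f175 : Fc := ⟨(nat_lit 1), (nat_lit 1), (nat_lit 1), (nat_lit 0), nat_lit 0x128b370c9109e1ac549, nat_lit 0⟩
noncomputable def f176 : Fc := ⟨(nat_lit 1), (nat_lit 1), (nat_lit 1), (nat_lit 0), nat_lit 0x580c7b575e46e804547, nat_lit 0⟩
noncomputable def f177 : Fc := ⟨(nat_lit 2), (nat_lit 1), (nat_lit 0), (nat_lit 0), nat_lit 0x6007ab88b39c4ff0d2a, nat_lit 0x125f3c0869a051f82ce⟩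
noncomputable def f178 : Fc := ⟨(nat_lit 1), (nat_lit 1), (nat_lit 1), (nat_lit 0), nat_lit 0x3dec897f8017bb90cc9, nat_lit 0⟩
noncomputable def f179 : Fc := ⟨(nat_lit 1), (nat_lit 1), (nat_lit 1), (nat_lit 0), nat_lit 0x3f16d0f0ab96d9709ed, nat_lit 0⟩
noncomputable def f180 : Fc := ⟨(nat_lit 1), (nat_lit 1), (nat_lit 1), (nat_lit 0), nat_lit 0x77cab3a18bc6c02d9bb, nat_lit 0⟩
noncomputable def f181 : Fc := ⟨(nat_lit 1), (nat_lit 1), (nat_lit 1), (nat_lit 0), nat_lit 0x21b82e963e6c1a0fb84, nat_lit 0⟩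
noncomputable def f182 : Fc := ⟨(nat_lit 1), (nat_lit 1), (nat_lit 1), (nat_lit 0), nat_lit 0x1ce3be267fded3bf3fe, nat_lit 0⟩
noncomputable def f183 : Fc := ⟨(nat_lit 1), (nat_lit 1), (nat_lit 1), (nat_lit 0), nat_lit 0xbd38a6ae2e5e626196, nat_lit 0⟩
noncomputable def f184 : Fc := ⟨(nat_lit 1), (nat_lit 1), (nat_lit 1), (nat_lit 0), nat_lit 0xb829aa648e814b59ee, nat_lit 0⟩
noncomputable def f185 : Fc := ⟨(nat_lit 1), (nat_lit 1), (nat_lit 1), (nat_lit 0), nat_lit 0x2bda4472ad859096ede, nat_lit 0⟩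
noncomputable def f186 : Fc := ⟨(nat_lit 1), (nat_lit 1), (nat_lit 1), (nat_lit 0), nat_lit 0x6fde5d5455e52116ed1, nat_lit 0⟩
noncomputable def f187 : Fc := ⟨(nat_lit 1), (nat_lit 1), (nat_lit 1), (nat_lit 0), nat_lit 0x77d58c2fb80f932da2e, nat_lit 0⟩
noncomputable def f188 : Fc := ⟨(nat_lit 1), (nat_lit 1), (nat_lit 1), (nat_lit 0), nat_lit 0x98c46f0fccba920954, nat_lit 0⟩
noncomputable def f189 : Fc := ⟨(nat_lit 1), (nat_lit 1), (nat_lit 1), (nat_lit 0), nat_lit 0x4030913d0470b6b8ca2, nat_lit 0⟩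
noncomputable def f190 : Fc := ⟨(nat_lit 2), (nat_lit 1), (nat_lit 1), (nat_lit 0), nat_lit 0x10c5b57e9385c4e8949, nat_lit 0xd6277bad5c005c087b⟩
noncomputable def f191 : Fc := ⟨(nat_lit 2), (nat_lit 1), (nat_lit 2), (nat_lit 0), nat_lit 0x25cba75578317478000, nat_lit 0x3c73731385a1fb58000⟩
noncomputable def f192 : Fc := ⟨(nat_lit 2), (nat_lit 2), (nat_lit 1), (nat_lit 0), nat_lit 0x3c73731385a1fb58000, nat_lit 0x25cba75578317478000⟩
noncomputable def f193 : Fc := ⟨(nat_lit 1), (nat_lit 2), (nat_lit 2), (nat_lit 0), nat_lit 0x3ad46919c6a69f50000, nat_lit 0⟩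
noncomputable def f194 : Fc := ⟨(nat_lit 1), (nat_lit 2), (nat_lit 2), (nat_lit 0), nat_lit 0x3ad46919c6a69f50000, nat_lit 0⟩
noncomputable def f195 : Fc := ⟨(nat_lit 1), (nat_lit 2), (nat_lit 2), (nat_lit 0), nat_lit 0x1a04d7f76d71e768000, nat_lit 0⟩
noncomputable def f196 : Fc := ⟨(nat_lit 1), (nat_lit 2), (nat_lit 2), (nat_lit 0), nat_lit 0x1a04d7f76d71e768000, nat_lit 0⟩
noncomputable def f197 : Fc := ⟨(nat_lit 1), (nat_lit 2), (nat_lit 2), (nat_lit 0), nat_lit 0x19ac5cef0629f8dc547, nat_lit 0⟩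
noncomputable def f198 : Fc := ⟨(nat_lit 1), (nat_lit 2), (nat_lit 2), (nat_lit 0), nat_lit 0x19ac5cef0629f8dc547, nat_lit 0⟩
noncomputable def f199 : Fc := ⟨(nat_lit 1), (nat_lit 2), (nat_lit 2), (nat_lit 0), nat_lit 0x49fbb75168c97ef8000, nat_lit 0⟩
noncomputable def f200 : Fc := ⟨(nat_lit 1), (nat_lit 2), (nat_lit 2), (nat_lit 0), nat_lit 0x49fbb75168c97ef8000, nat_lit 0⟩
noncomputable def f201 : Fc := ⟨(nat_lit 1), (nat_lit 2), (nat_lit 2), (nat_lit 0), nat_lit 0x15a182e30609b187b83, nat_lit 0⟩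
noncomputable def f202 : Fc := ⟨(nat_lit 1), (nat_lit 2), (nat_lit 2), (nat_lit 0), nat_lit 0x15a182e30609b187b83, nat_lit 0⟩
noncomputable def f203 : Fc := ⟨(nat_lit 1), (nat_lit 2), (nat_lit 2), (nat_lit 0), nat_lit 0x1a04e7c9261dcbec547, nat_lit 0⟩
noncomputable def f204 : Fc := ⟨(nat_lit 1), (nat_lit 2), (nat_lit 2), (nat_lit 0), nat_lit 0x1a04e7c9261dcbec547, nat_lit 0⟩
noncomputable def f205 : Fc := ⟨(nat_lit 1), (nat_lit 2), (nat_lit 2), (nat_lit 0), nat_lit 0x34662e9da191cb04339, nat_lit 0⟩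
noncomputable def f206 : Fc := ⟨(nat_lit 1), (nat_lit 2), (nat_lit 2), (nat_lit 0), nat_lit 0x38eaa2691978a61c2bb, nat_lit 0⟩
noncomputable def f207 : Fc := ⟨(nat_lit 1), (nat_lit 2), (nat_lit 2), (nat_lit 0), nat_lit 0x4d9a497713d89a9f8f2, nat_lit 0⟩
noncomputable def f208 : Fc := ⟨(nat_lit 1), (nat_lit 2), (nat_lit 2), (nat_lit 0), nat_lit 0x6591557962a68d6c547, nat_lit 0⟩
noncomputable def f209 : Fc := ⟨(nat_lit 1), (nat_lit 2), (nat_lit 2), (nat_lit 0), nat_lit 0x74982db691532730000, nat_lit 0⟩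
noncomputable def f210 : Fc := ⟨(nat_lit 1), (nat_lit 2), (nat_lit 2), (nat_lit 0), nat_lit 0x244eb79884f9a260d72, nat_lit 0⟩
noncomputable def f211 : Fc := ⟨(nat_lit 1), (nat_lit 2), (nat_lit 2), (nat_lit 0), nat_lit 0x244eb79884f9a260d72, nat_lit 0⟩
noncomputable def f212 : Fc := ⟨(nat_lit 1), (nat_lit 2), (nat_lit 2), (nat_lit 0), nat_lit 0x2ce3b3954a127c8825d, nat_lit 0⟩
noncomputable def f213 : Fc := ⟨(nat_lit 1), (nat_lit 2), (nat_lit 2), (nat_lit 0), nat_lit 0x2ce3b3954a127c8825d, nat_lit 0⟩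
noncomputable def f214 : Fc := ⟨(nat_lit 1), (nat_lit 2), (nat_lit 2), (nat_lit 0), nat_lit 0x14a35c04d1860188000, nat_lit 0⟩
noncomputable def f215 : Fc := ⟨(nat_lit 1), (nat_lit 2), (nat_lit 2), (nat_lit 0), nat_lit 0x315a595225b0e548a2e, nat_lit 0⟩
noncomputable def f216 : Fc := ⟨(nat_lit 1), (nat_lit 2), (nat_lit 2), (nat_lit 0), nat_lit 0x6aa0b7a2a61ef9a02cb, nat_lit 0⟩
noncomputable def f217 : Fc := ⟨(nat_lit 1), (nat_lit 2), (nat_lit 2), (nat_lit 0), nat_lit 0x6aa0b7a2a61ef9a02cb, nat_lit 0⟩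
noncomputable def f218 : Fc := ⟨(nat_lit 1), (nat_lit 2), (nat_lit 2), (nat_lit 0), nat_lit 0x5e616c96d7b96f90d7a, nat_lit 0⟩
noncomputable def f219 : Fc := ⟨(nat_lit 1), (nat_lit 2), (nat_lit 2), (nat_lit 0), nat_lit 0x19fe52e0ab4dd5e8db1, nat_lit 0⟩
noncomputable def f220 : Fc := ⟨(nat_lit 1), (nat_lit 2), (nat_lit 2), (nat_lit 0), nat_lit 0x654e31e35f51ff502cf, nat_lit 0⟩
noncomputable def f221 : Fc := ⟨(nat_lit 1), (nat_lit 2), (nat_lit 2), (nat_lit 0), nat_lit 0x654e31e35f51ff502cf, nat_lit 0⟩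
noncomputable def f222 : Fc := ⟨(nat_lit 2), (nat_lit 2), (nat_lit 1), (nat_lit 0), nat_lit 0x4ab34a2348a98cb8d14, nat_lit 0x68843b956ca464182f2⟩
noncomputable def f223 : Fc := ⟨(nat_lit 1), (nat_lit 2), (nat_lit 2), (nat_lit 0), nat_lit 0x734bcec7a57a34e9b18, nat_lit 0⟩
noncomputable def f224 : Fc := ⟨(nat_lit 1), (nat_lit 2), (nat_lit 2), (nat_lit 0), nat_lit 0x4425a05d81520917997, nat_lit 0⟩
noncomputable def f225 : Fc := ⟨(nat_lit 1), (nat_lit 2), (nat_lit 2), (nat_lit 0), nat_lit 0x779dc4f104b627382cf, nat_lit 0⟩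
noncomputable def f226 : Fc := ⟨(nat_lit 1), (nat_lit 2), (nat_lit 2), (nat_lit 0), nat_lit 0x779dc4f104b627382cf, nat_lit 0⟩
noncomputable def f227 : Fc := ⟨(nat_lit 1), (nat_lit 2), (nat_lit 2), (nat_lit 0), nat_lit 0x3bf55fb40e8d6065563, nat_lit 0⟩
noncomputable def f228 : Fc := ⟨(nat_lit 1), (nat_lit 2), (nat_lit 2), (nat_lit 0), nat_lit 0x3bc63aa99d344c5de9, nat_lit 0⟩
noncomputable def f229 : Fc := ⟨(nat_lit 1), (nat_lit 2), (nat_lit 2), (nat_lit 0), nat_lit 0x5ed5a42039993824f58, nat_lit 0⟩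
noncomputable def f230 : Fc := ⟨(nat_lit 1), (nat_lit 2), (nat_lit 2), (nat_lit 0), nat_lit 0x3ae922bb255f7353871, nat_lit 0⟩
noncomputable def f231 : Fc := ⟨(nat_lit 2), (nat_lit 2), (nat_lit 1), (nat_lit 0), nat_lit 0x470b17b2e196f746346, nat_lit 0x130d434f4ca7096ed20⟩
noncomputable def f232 : Fc := ⟨(nat_lit 1), (nat_lit 2), (nat_lit 2), (nat_lit 0), nat_lit 0x5b7686ab23f989b4027, nat_lit 0⟩
noncomputable def f233 : Fc := ⟨(nat_lit 1), (nat_lit 2), (nat_lit 2), (nat_lit 0), nat_lit 0x637c3a14edaf927cead, nat_lit 0⟩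
noncomputable def f234 : Fc := ⟨(nat_lit 1), (nat_lit 2), (nat_lit 2), (nat_lit 0), nat_lit 0xe688299f464b73dcc, nat_lit 0⟩
noncomputable def f235 : Fc := ⟨(nat_lit 1), (nat_lit 2), (nat_lit 2), (nat_lit 0), nat_lit 0x46753b6175c44716216, nat_lit 0⟩
noncomputable def f236 : Fc := ⟨(nat_lit 1), (nat_lit 2), (nat_lit 2), (nat_lit 0), nat_lit 0x46753b6175c44716216, nat_lit 0⟩
noncomputable def f237 : Fc := ⟨(nat_lit 1), (nat_lit 2), (nat_lit 2), (nat_lit 0), nat_lit 0x6f4b2e6be60813d6216, nat_lit 0⟩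
noncomputable def f238 : Fc := ⟨(nat_lit 1), (nat_lit 2), (nat_lit 2), (nat_lit 0), nat_lit 0x59a3622b0c1cc862351, nat_lit 0⟩
noncomputable def f239 : Fc := ⟨(nat_lit 2), (nat_lit 2), (nat_lit 2), (nat_lit 0), nat_lit 0x504c8ec690528081262, nat_lit 0x229c34644e08ce0592⟩
noncomputable def f240 : Fc := ⟨(nat_lit 2), (nat_lit 2), (nat_lit 2), (nat_lit 0), nat_lit 0x5aab3cc91b5c70d88a9, nat_lit 0x4b2a4e7bd8a18edd96⟩
noncomputable def f241 : Fc := ⟨(nat_lit 2), (nat_lit 2), (nat_lit 2), (nat_lit 0), nat_lit 0x752a95b89ed62da3339, nat_lit 0x37f6a6def5d025e1b0e⟩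
noncomputable def f242 : Fc := ⟨(nat_lit 2), (nat_lit 2), (nat_lit 3), (nat_lit 0), nat_lit 0x362b9760721811ef3a6, nat_lit 0x3c73731385a1fb58000⟩
noncomputable def f243 : Fc := ⟨(nat_lit 2), (nat_lit 3), (nat_lit 2), (nat_lit 0), nat_lit 0x3c73731385a1fb58000, nat_lit 0x362b9760721811ef3a6⟩
noncomputable def f244 : Fc := ⟨(nat_lit 1), (nat_lit 3), (nat_lit 3), (nat_lit 0), nat_lit 0x1f1cac21a891b9d0221, nat_lit 0⟩
noncomputable def f245 : Fc := ⟨(nat_lit 1), (nat_lit 3), (nat_lit 3), (nat_lit 0), nat_lit 0x1f1cac21a891b9d0221, nat_lit 0⟩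
noncomputable def f246 : Fc := ⟨(nat_lit 1), (nat_lit 3), (nat_lit 3), (nat_lit 0), nat_lit 0x5ff24acb0ea51a40a14, nat_lit 0⟩
noncomputable def f247 : Fc := ⟨(nat_lit 1), (nat_lit 3), (nat_lit 3), (nat_lit 0), nat_lit 0x5ff24acb0ea51a40a14, nat_lit 0⟩
noncomputable def f248 : Fc := ⟨(nat_lit 1), (nat_lit 3), (nat_lit 3), (nat_lit 0), nat_lit 0x6ded87b96d5b4225d91, nat_lit 0⟩
noncomputable def f249 : Fc := ⟨(nat_lit 1), (nat_lit 3), (nat_lit 3), (nat_lit 0), nat_lit 0x6ded87b96d5b4225d91, nat_lit 0⟩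
noncomputable def f250 : Fc := ⟨(nat_lit 1), (nat_lit 3), (nat_lit 3), (nat_lit 0), nat_lit 0x3d3b723d87c9b778d32, nat_lit 0⟩
noncomputable def f251 : Fc := ⟨(nat_lit 1), (nat_lit 3), (nat_lit 3), (nat_lit 0), nat_lit 0x3d3b723d87c9b778d32, nat_lit 0⟩
noncomputable def f252 : Fc := ⟨(nat_lit 1), (nat_lit 3), (nat_lit 3), (nat_lit 0), nat_lit 0x3994f132893dca102cf, nat_lit 0⟩
noncomputable def f253 : Fc := ⟨(nat_lit 1), (nat_lit 3), (nat_lit 3), (nat_lit 0), nat_lit 0x3994f132893dca102cf, nat_lit 0⟩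
noncomputable def f254 : Fc := ⟨(nat_lit 1), (nat_lit 3), (nat_lit 3), (nat_lit 0), nat_lit 0x39310f027c5dcbafab6, nat_lit 0⟩
noncomputable def f255 : Fc := ⟨(nat_lit 1), (nat_lit 3), (nat_lit 3), (nat_lit 0), nat_lit 0x2172f130b345c90fab7, nat_lit 0⟩
noncomputable def f256 : Fc := ⟨(nat_lit 1), (nat_lit 3), (nat_lit 3), (nat_lit 0), nat_lit 0x5ff24acb0ea51a40a14, nat_lit 0⟩
noncomputable def f257 : Fc := ⟨(nat_lit 1), (nat_lit 3), (nat_lit 3), (nat_lit 0), nat_lit 0x5ff24acb0ea51a40a14, nat_lit 0⟩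
noncomputable def f258 : Fc := ⟨(nat_lit 1), (nat_lit 3), (nat_lit 3), (nat_lit 0), nat_lit 0x5ff24acb0ea51a40a14, nat_lit 0⟩
noncomputable def f259 : Fc := ⟨(nat_lit 1), (nat_lit 3), (nat_lit 3), (nat_lit 0), nat_lit 0x5ff24acb0ea51a40a14, nat_lit 0⟩
noncomputable def f260 : Fc := ⟨(nat_lit 1), (nat_lit 3), (nat_lit 3), (nat_lit 0), nat_lit 0x5ff24acb0ea51a40a14, nat_lit 0⟩
noncomputable def f261 : Fc := ⟨(nat_lit 1), (nat_lit 3), (nat_lit 3), (nat_lit 0), nat_lit 0x5ff24acb0ea51a40a14, nat_lit 0⟩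
noncomputable def f262 : Fc := ⟨(nat_lit 1), (nat_lit 3), (nat_lit 3), (nat_lit 0), nat_lit 0x5ff24acb0ea51a40a14, nat_lit 0⟩
noncomputable def f263 : Fc := ⟨(nat_lit 1), (nat_lit 3), (nat_lit 3), (nat_lit 0), nat_lit 0x5ff24acb0ea51a40a14, nat_lit 0⟩
noncomputable def f264 : Fc := ⟨(nat_lit 1), (nat_lit 3), (nat_lit 3), (nat_lit 0), nat_lit 0x5ff24acb0ea51a40a14, nat_lit 0⟩
noncomputable def f265 : Fc := ⟨(nat_lit 1), (nat_lit 3), (nat_lit 3), (nat_lit 0), nat_lit 0x70acd42245feb7a87f4, nat_lit 0⟩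
noncomputable def f266 : Fc := ⟨(nat_lit 1), (nat_lit 3), (nat_lit 3), (nat_lit 0), nat_lit 0x34ad23167c5df44048c, nat_lit 0⟩
noncomputable def f267 : Fc := ⟨(nat_lit 1), (nat_lit 3), (nat_lit 3), (nat_lit 0), nat_lit 0x7678aa511269dfefa79, nat_lit 0⟩
noncomputable def f268 : Fc := ⟨(nat_lit 1), (nat_lit 3), (nat_lit 3), (nat_lit 0), nat_lit 0x7678aa511269dfefa79, nat_lit 0⟩
noncomputable def f269 : Fc := ⟨(nat_lit 1), (nat_lit 3), (nat_lit 3), (nat_lit 0), nat_lit 0x7359b84d4fa7283816b, nat_lit 0⟩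
noncomputable def f270 : Fc := ⟨(nat_lit 1), (nat_lit 3), (nat_lit 3), (nat_lit 0), nat_lit 0x58dcc4c30f0583206d7, nat_lit 0⟩
noncomputable def f271 : Fc := ⟨(nat_lit 1), (nat_lit 3), (nat_lit 3), (nat_lit 0), nat_lit 0x34ad23167c5df44048c, nat_lit 0⟩
noncomputable def f272 : Fc := ⟨(nat_lit 1), (nat_lit 3), (nat_lit 3), (nat_lit 0), nat_lit 0x70acd42245feb7a87f4, nat_lit 0⟩
noncomputable def f273 : Fc := ⟨(nat_lit 1), (nat_lit 3), (nat_lit 3), (nat_lit 0), nat_lit 0x3e773ccd87e135c6ddc, nat_lit 0⟩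
noncomputable def f274 : Fc := ⟨(nat_lit 1), (nat_lit 3), (nat_lit 3), (nat_lit 0), nat_lit 0x3e773ccd87e135c6ddc, nat_lit 0⟩
noncomputable def f275 : Fc := ⟨(nat_lit 2), (nat_lit 3), (nat_lit 1), (nat_lit 0), nat_lit 0x7d045e96d3ecea4346, nat_lit 0x3873163530fef7b825e⟩
noncomputable def f276 : Fc := ⟨(nat_lit 2), (nat_lit 1), (nat_lit 3), (nat_lit 0), nat_lit 0x3873163530fef7b825e, nat_lit 0x7d045e96d3ecea4346⟩
noncomputable def f277 : Fc := ⟨(nat_lit 2), (nat_lit 3), (nat_lit 1), (nat_lit 0), nat_lit 0x701ab532d741c4408b7, nat_lit 0x27f64a21a5de8bb8baf⟩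
noncomputable def f278 : Fc := ⟨(nat_lit 1), (nat_lit 3), (nat_lit 3), (nat_lit 0), nat_lit 0x3a05af604462b47c279, nat_lit 0⟩
noncomputable def f279 : Fc := ⟨(nat_lit 1), (nat_lit 3), (nat_lit 3), (nat_lit 0), nat_lit 0x3faef71114dc8a86955, nat_lit 0⟩
noncomputable def f280 : Fc := ⟨(nat_lit 1), (nat_lit 3), (nat_lit 3), (nat_lit 0), nat_lit 0x32d7548b85e8fdf8078, nat_lit 0⟩
noncomputable def f281 : Fc := ⟨(nat_lit 1), (nat_lit 3), (nat_lit 3), (nat_lit 0), nat_lit 0x6837564d7a6fcd90776, nat_lit 0⟩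
noncomputable def f282 : Fc := ⟨(nat_lit 1), (nat_lit 3), (nat_lit 3), (nat_lit 0), nat_lit 0x1edac46387e2c5c0016, nat_lit 0⟩
noncomputable def f283 : Fc := ⟨(nat_lit 1), (nat_lit 3), (nat_lit 3), (nat_lit 0), nat_lit 0x15126f82473f0f3000b, nat_lit 0⟩
noncomputable def f284 : Fc := ⟨(nat_lit 1), (nat_lit 3), (nat_lit 3), (nat_lit 0), nat_lit 0x30fab8e6c255fb58000, nat_lit 0⟩
noncomputable def f285 : Fc := ⟨(nat_lit 2), (nat_lit 3), (nat_lit 3), (nat_lit 0), nat_lit 0x393be6bcd44e63e846b, nat_lit 0x1d0423a3695a3945cd9⟩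
noncomputable def f286 : Fc := ⟨(nat_lit 2), (nat_lit 3), (nat_lit 3), (nat_lit 0), nat_lit 0x4be6281afc24a448ade, nat_lit 0x1790c6ceb116c5977e3⟩
noncomputable def f287 : Fc := ⟨(nat_lit 2), (nat_lit 3), (nat_lit 3), (nat_lit 0), nat_lit 0x646f529c7000989d202, nat_lit 0x4da02839c2b7f9e644⟩
noncomputable def f288 : Fc := ⟨(nat_lit 2), (nat_lit 3), (nat_lit 4), (nat_lit 0), nat_lit 0x4c0a655e7c96a238000, nat_lit 0x3c73731385a1fb58000⟩
noncomputable def f289 : Fc := ⟨(nat_lit 2), (nat_lit 4), (nat_lit 3), (nat_lit 0), nat_lit 0x3c73731385a1fb58000, nat_lit 0x4c0a655e7c96a238000⟩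
noncomputable def f290 : Fc := ⟨(nat_lit 1), (nat_lit 4), (nat_lit 4), (nat_lit 0), nat_lit 0x741ce7e0f976d5205ce, nat_lit 0⟩
noncomputable def f291 : Fc := ⟨(nat_lit 1), (nat_lit 4), (nat_lit 4), (nat_lit 0), nat_lit 0xe8ccce294b874c8194, nat_lit 0⟩
noncomputable def f292 : Fc := ⟨(nat_lit 1), (nat_lit 4), (nat_lit 4), (nat_lit 0), nat_lit 0x36734314a59dfb58ae3, nat_lit 0⟩
noncomputable def f293 : Fc := ⟨(nat_lit 1), (nat_lit 4), (nat_lit 4), (nat_lit 0), nat_lit 0x36734314a59dfb58ae3, nat_lit 0⟩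
noncomputable def f294 : Fc := ⟨(nat_lit 1), (nat_lit 4), (nat_lit 4), (nat_lit 0), nat_lit 0x3cc2eec354639de0db1, nat_lit 0⟩
noncomputable def f295 : Fc := ⟨(nat_lit 1), (nat_lit 4), (nat_lit 4), (nat_lit 0), nat_lit 0x3cc2eec354639de0db1, nat_lit 0⟩
noncomputable def f296 : Fc := ⟨(nat_lit 1), (nat_lit 4), (nat_lit 4), (nat_lit 0), nat_lit 0x582e6670a7c82ab506c, nat_lit 0⟩
noncomputable def f297 : Fc := ⟨(nat_lit 1), (nat_lit 4), (nat_lit 4), (nat_lit 0), nat_lit 0x66c447b13608dd6454c, nat_lit 0⟩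
noncomputable def f298 : Fc := ⟨(nat_lit 1), (nat_lit 4), (nat_lit 4), (nat_lit 0), nat_lit 0x675550ad80c39d10db1, nat_lit 0⟩
noncomputable def f299 : Fc := ⟨(nat_lit 1), (nat_lit 4), (nat_lit 4), (nat_lit 0), nat_lit 0x19c3dd08af110778ae3, nat_lit 0⟩
noncomputable def f300 : Fc := ⟨(nat_lit 1), (nat_lit 4), (nat_lit 4), (nat_lit 0), nat_lit 0x6db21b8da1f8476893e, nat_lit 0⟩
noncomputable def f301 : Fc := ⟨(nat_lit 1), (nat_lit 4), (nat_lit 4), (nat_lit 0), nat_lit 0x174d08b8f5890be830b, nat_lit 0⟩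
noncomputable def f302 : Fc := ⟨(nat_lit 2), (nat_lit 4), (nat_lit 2), (nat_lit 0), nat_lit 0x59c00c5b087d895d03c, nat_lit 0x2af25a3f3752d373292⟩
noncomputable def f303 : Fc := ⟨(nat_lit 2), (nat_lit 2), (nat_lit 4), (nat_lit 0), nat_lit 0x2af25a3f3752d373292, nat_lit 0x59c00c5b087d895d03c⟩
noncomputable def f304 : Fc := ⟨(nat_lit 2), (nat_lit 4), (nat_lit 2), (nat_lit 0), nat_lit 0x41e6e13e4929a170976, nat_lit 0x492cc6002ad5abf328f⟩
noncomputable def f305 : Fc := ⟨(nat_lit 1), (nat_lit 4), (nat_lit 4), (nat_lit 0), nat_lit 0x2fd2ac8831b7880ae3, nat_lit 0⟩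
noncomputable def f306 : Fc := ⟨(nat_lit 1), (nat_lit 4), (nat_lit 4), (nat_lit 0), nat_lit 0x34f1ea84bc4a7ce8a5d, nat_lit 0⟩
noncomputable def f307 : Fc := ⟨(nat_lit 1), (nat_lit 4), (nat_lit 4), (nat_lit 0), nat_lit 0x2351192793604610638, nat_lit 0⟩
noncomputable def f308 : Fc := ⟨(nat_lit 1), (nat_lit 4), (nat_lit 4), (nat_lit 0), nat_lit 0x2d2c4824dff8021058f, nat_lit 0⟩
noncomputable def f309 : Fc := ⟨(nat_lit 1), (nat_lit 4), (nat_lit 4), (nat_lit 0), nat_lit 0x1373a7cace5e1e089fa, nat_lit 0⟩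
noncomputable def f310 : Fc := ⟨(nat_lit 1), (nat_lit 4), (nat_lit 4), (nat_lit 0), nat_lit 0xc7f48ce6e189640159, nat_lit 0⟩
noncomputable def f311 : Fc := ⟨(nat_lit 1), (nat_lit 4), (nat_lit 4), (nat_lit 0), nat_lit 0x16200a6ec5249640159, nat_lit 0⟩
noncomputable def f312 : Fc := ⟨(nat_lit 1), (nat_lit 4), (nat_lit 4), (nat_lit 0), nat_lit 0x24a6cfe5608b7d8893e, nat_lit 0⟩
noncomputable def f313 : Fc := ⟨(nat_lit 1), (nat_lit 4), (nat_lit 4), (nat_lit 0), nat_lit 0x34f1ea84bc4a7ce8a5d, nat_lit 0⟩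
noncomputable def f314 : Fc := ⟨(nat_lit 1), (nat_lit 4), (nat_lit 4), (nat_lit 0), nat_lit 0x2fd2ac8831b7880ae3, nat_lit 0⟩
noncomputable def f315 : Fc := ⟨(nat_lit 1), (nat_lit 4), (nat_lit 4), (nat_lit 0), nat_lit 0x2859f361d04abe00590, nat_lit 0⟩
noncomputable def f316 : Fc := ⟨(nat_lit 1), (nat_lit 4), (nat_lit 4), (nat_lit 0), nat_lit 0x1be7f047142c474888b, nat_lit 0⟩
noncomputable def f317 : Fc := ⟨(nat_lit 2), (nat_lit 3), (nat_lit 3), (nat_lit 0), nat_lit 0x1a606be816af305548a, nat_lit 0x22975de44864fba8f25⟩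
noncomputable def f318 : Fc := ⟨(nat_lit 2), (nat_lit 4), (nat_lit 4), (nat_lit 0), nat_lit 0x1ba5879ae5b353b9acc, nat_lit 0x2c2ed88d6b0d2375cdd⟩
noncomputable def f319 : Fc := ⟨(nat_lit 2), (nat_lit 4), (nat_lit 4), (nat_lit 0), nat_lit 0x77772aa8b0cdbb53e72, nat_lit 0x23c4b84a3e3e2ca76c4⟩
noncomputable def f320 : Fc := ⟨(nat_lit 2), (nat_lit 4), (nat_lit 2), (nat_lit 0), nat_lit 0x26a0c3622780ff60ce2, nat_lit 0x9fc85f5d42a2069167⟩
noncomputable def f321 : Fc := ⟨(nat_lit 2), (nat_lit 2), (nat_lit 4), (nat_lit 0), nat_lit 0x9fc85f5d42a2069167, nat_lit 0x26a0c3622780ff60ce2⟩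
noncomputable def f322 : Fc := ⟨(nat_lit 2), (nat_lit 4), (nat_lit 4), (nat_lit 0), nat_lit 0x5e8bba8f940cf0f9af6, nat_lit 0x6002ad4858e2d095ad0⟩
noncomputable def f323 : Fc := ⟨(nat_lit 2), (nat_lit 3), (nat_lit 5), (nat_lit 0), nat_lit 0x1a8a2b3d266cdb68000, nat_lit 0x3c73731385a1fb58000⟩
noncomputable def f324 : Fc := ⟨(nat_lit 2), (nat_lit 5), (nat_lit 3), (nat_lit 0), nat_lit 0x3c73731385a1fb58000, nat_lit 0x1a8a2b3d266cdb68000⟩
noncomputable def f325 : Fc := ⟨(nat_lit 1), (nat_lit 5), (nat_lit 5), (nat_lit 0), nat_lit 0x743542e456cb0048daf, nat_lit 0⟩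
noncomputable def f326 : Fc := ⟨(nat_lit 1), (nat_lit 5), (nat_lit 5), (nat_lit 0), nat_lit 0x743542e456cb0048daf, nat_lit 0⟩
noncomputable def f327 : Fc := ⟨(nat_lit 1), (nat_lit 5), (nat_lit 5), (nat_lit 0), nat_lit 0x406dd0e15deeffe89eb, nat_lit 0⟩
noncomputable def f328 : Fc := ⟨(nat_lit 1), (nat_lit 5), (nat_lit 5), (nat_lit 0), nat_lit 0x29ad470eb6957958717, nat_lit 0⟩
noncomputable def f329 : Fc := ⟨(nat_lit 1), (nat_lit 5), (nat_lit 5), (nat_lit 0), nat_lit 0x743562e9678f5bb8ce8, nat_lit 0⟩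
noncomputable def f330 : Fc := ⟨(nat_lit 1), (nat_lit 5), (nat_lit 5), (nat_lit 0), nat_lit 0x743562e9678f5bb8ce8, nat_lit 0⟩
noncomputable def f331 : Fc := ⟨(nat_lit 1), (nat_lit 5), (nat_lit 5), (nat_lit 0), nat_lit 0x488a265422f46a00987, nat_lit 0⟩
noncomputable def f332 : Fc := ⟨(nat_lit 1), (nat_lit 5), (nat_lit 5), (nat_lit 0), nat_lit 0x6501d693dc90a6509f1, nat_lit 0⟩
noncomputable def f333 : Fc := ⟨(nat_lit 1), (nat_lit 5), (nat_lit 5), (nat_lit 0), nat_lit 0x6e9fbb367af86f70c72, nat_lit 0⟩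
noncomputable def f334 : Fc := ⟨(nat_lit 1), (nat_lit 5), (nat_lit 5), (nat_lit 0), nat_lit 0x4f9145a53db7b7c0ce8, nat_lit 0⟩
noncomputable def f335 : Fc := ⟨(nat_lit 1), (nat_lit 5), (nat_lit 5), (nat_lit 0), nat_lit 0x26912ce4d825f206e3a, nat_lit 0⟩
noncomputable def f336 : Fc := ⟨(nat_lit 1), (nat_lit 5), (nat_lit 5), (nat_lit 0), nat_lit 0x51ef86d0e38b195ee5c, nat_lit 0⟩
noncomputable def f337 : Fc := ⟨(nat_lit 1), (nat_lit 5), (nat_lit 5), (nat_lit 0), nat_lit 0x2c05b4500bc1efaee5c, nat_lit 0⟩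
noncomputable def f338 : Fc := ⟨(nat_lit 1), (nat_lit 5), (nat_lit 5), (nat_lit 0), nat_lit 0x3ecedd1b4118b4ff54a, nat_lit 0⟩
noncomputable def f339 : Fc := ⟨(nat_lit 2), (nat_lit 5), (nat_lit 2), (nat_lit 0), nat_lit 0x1493460e279679035bb, nat_lit 0x54a5da454fea60d27b2⟩
noncomputable def f340 : Fc := ⟨(nat_lit 2), (nat_lit 2), (nat_lit 5), (nat_lit 0), nat_lit 0x54a5da454fea60d27b2, nat_lit 0x1493460e279679035bb⟩
noncomputable def f341 : Fc := ⟨(nat_lit 2), (nat_lit 5), (nat_lit 3), (nat_lit 0), nat_lit 0x30c856614da98b4454d, nat_lit 0x16bf85ccc430762e42c⟩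
noncomputable def f342 : Fc := ⟨(nat_lit 1), (nat_lit 5), (nat_lit 5), (nat_lit 0), nat_lit 0x2f9cafad31eb8b40421, nat_lit 0⟩
noncomputable def f343 : Fc := ⟨(nat_lit 1), (nat_lit 5), (nat_lit 5), (nat_lit 0), nat_lit 0x448ecb4261584760a28, nat_lit 0⟩
noncomputable def f344 : Fc := ⟨(nat_lit 1), (nat_lit 5), (nat_lit 5), (nat_lit 0), nat_lit 0x758387cf0148f630cda, nat_lit 0⟩
noncomputable def f345 : Fc := ⟨(nat_lit 1), (nat_lit 5), (nat_lit 5), (nat_lit 0), nat_lit 0x51ea2f74402ac4281ef, nat_lit 0⟩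
noncomputable def f346 : Fc := ⟨(nat_lit 1), (nat_lit 5), (nat_lit 5), (nat_lit 0), nat_lit 0x47c798f832282dc0ce8, nat_lit 0⟩
noncomputable def f347 : Fc := ⟨(nat_lit 1), (nat_lit 5), (nat_lit 5), (nat_lit 0), nat_lit 0x606c37db2b060f689f1, nat_lit 0⟩
noncomputable def f348 : Fc := ⟨(nat_lit 1), (nat_lit 5), (nat_lit 5), (nat_lit 0), nat_lit 0x3c732a61249464201a8, nat_lit 0⟩
noncomputable def f349 : Fc := ⟨(nat_lit 1), (nat_lit 5), (nat_lit 5), (nat_lit 0), nat_lit 0x3c732a61249464201a8, nat_lit 0⟩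
noncomputable def f350 : Fc := ⟨(nat_lit 1), (nat_lit 5), (nat_lit 5), (nat_lit 0), nat_lit 0x598c8ae6b6e842b000b, nat_lit 0⟩
noncomputable def f351 : Fc := ⟨(nat_lit 1), (nat_lit 5), (nat_lit 5), (nat_lit 0), nat_lit 0x652c644b3e2213803ad, nat_lit 0⟩
noncomputable def f352 : Fc := ⟨(nat_lit 2), (nat_lit 5), (nat_lit 5), (nat_lit 0), nat_lit 0x58b65cb621df6d8929c, nat_lit 0x6fac74eef87685dd54⟩
noncomputable def f353 : Fc := ⟨(nat_lit 2), (nat_lit 5), (nat_lit 0), (nat_lit 0), nat_lit 0x1e89aa191e023b492f5, nat_lit 0x41b9cc7e2c010efdde4⟩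
noncomputable def f354 : Fc := ⟨(nat_lit 2), (nat_lit 0), (nat_lit 5), (nat_lit 0), nat_lit 0x41b9cc7e2c010efdde4, nat_lit 0x1e89aa191e023b492f5⟩
noncomputable def f355 : Fc := ⟨(nat_lit 2), (nat_lit 4), (nat_lit 5), (nat_lit 0), nat_lit 0x3a48363804320d6edc9, nat_lit 0x43b68acc97888dd0a8d⟩
noncomputable def f356 : Fc := ⟨(nat_lit 2), (nat_lit 5), (nat_lit 4), (nat_lit 0), nat_lit 0x43b68acc97888dd0a8d, nat_lit 0x3a48363804320d6edc9⟩
noncomputable def f357 : Fc := ⟨(nat_lit 2), (nat_lit 5), (nat_lit 5), (nat_lit 0), nat_lit 0x54847a6774840835e58, nat_lit 0x5bdc0c337f8fa14f2ff⟩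
noncomputable def f358 : Fc := ⟨(nat_lit 2), (nat_lit 4), (nat_lit 6), (nat_lit 0), nat_lit 0x6e9eb43c7123a77fab0, nat_lit 0x3c73731385a1fb58000⟩
noncomputable def f359 : Fc := ⟨(nat_lit 2), (nat_lit 6), (nat_lit 4), (nat_lit 0), nat_lit 0x3c73731385a1fb58000, nat_lit 0x6e9eb43c7123a77fab0⟩
noncomputable def f360 : Fc := ⟨(nat_lit 1), (nat_lit 6), (nat_lit 6), (nat_lit 0), nat_lit 0x3156d80a44be0f87b7f, nat_lit 0⟩
noncomputable def f361 : Fc := ⟨(nat_lit 1), (nat_lit 6), (nat_lit 6), (nat_lit 0), nat_lit 0x3fe3891cf9661647b61, nat_lit 0⟩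
noncomputable def f362 : Fc := ⟨(nat_lit 1), (nat_lit 6), (nat_lit 6), (nat_lit 0), nat_lit 0x70fcd424a2b153808b4, nat_lit 0⟩
noncomputable def f363 : Fc := ⟨(nat_lit 1), (nat_lit 6), (nat_lit 6), (nat_lit 0), nat_lit 0x10c3c40ec1462b08bac, nat_lit 0⟩
noncomputable def f364 : Fc := ⟨(nat_lit 1), (nat_lit 6), (nat_lit 6), (nat_lit 0), nat_lit 0x3650ad175380ce40884, nat_lit 0⟩
noncomputable def f365 : Fc := ⟨(nat_lit 1), (nat_lit 6), (nat_lit 6), (nat_lit 0), nat_lit 0x6ae2e61630865fc0d70, nat_lit 0⟩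
noncomputable def f366 : Fc := ⟨(nat_lit 1), (nat_lit 6), (nat_lit 6), (nat_lit 0), nat_lit 0x2f1f2ac2db30ac342b3, nat_lit 0⟩
noncomputable def f367 : Fc := ⟨(nat_lit 1), (nat_lit 6), (nat_lit 6), (nat_lit 0), nat_lit 0x303148f2ceccad266bb, nat_lit 0⟩
noncomputable def f368 : Fc := ⟨(nat_lit 1), (nat_lit 6), (nat_lit 6), (nat_lit 0), nat_lit 0x58ad757a33ae28c8ba4, nat_lit 0⟩
noncomputable def f369 : Fc := ⟨(nat_lit 1), (nat_lit 6), (nat_lit 6), (nat_lit 0), nat_lit 0x421c718605f8eedeb35, nat_lit 0⟩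
noncomputable def f370 : Fc := ⟨(nat_lit 1), (nat_lit 6), (nat_lit 6), (nat_lit 0), nat_lit 0x1c27320c977fbc9c2f5, nat_lit 0⟩
noncomputable def f371 : Fc := ⟨(nat_lit 1), (nat_lit 6), (nat_lit 6), (nat_lit 0), nat_lit 0x477992cc51b03faedfc, nat_lit 0⟩
noncomputable def f372 : Fc := ⟨(nat_lit 1), (nat_lit 6), (nat_lit 6), (nat_lit 0), nat_lit 0x11e032bfddb7a257b12, nat_lit 0⟩
noncomputable def f373 : Fc := ⟨(nat_lit 2), (nat_lit 6), (nat_lit 4), (nat_lit 0), nat_lit 0x656aecea6ba603dcbd, nat_lit 0x60439717ecb0920c75c⟩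
noncomputable def f374 : Fc := ⟨(nat_lit 1), (nat_lit 6), (nat_lit 6), (nat_lit 0), nat_lit 0x6da14b7c126adb490f9, nat_lit 0⟩
noncomputable def f375 : Fc := ⟨(nat_lit 1), (nat_lit 6), (nat_lit 6), (nat_lit 0), nat_lit 0x779d754780ddf7ae33b, nat_lit 0⟩
noncomputable def f376 : Fc := ⟨(nat_lit 1), (nat_lit 6), (nat_lit 6), (nat_lit 0), nat_lit 0x476f762fc30baf96931, nat_lit 0⟩
noncomputable def f377 : Fc := ⟨(nat_lit 1), (nat_lit 6), (nat_lit 6), (nat_lit 0), nat_lit 0x744446515a92645caaa, nat_lit 0⟩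
noncomputable def f378 : Fc := ⟨(nat_lit 1), (nat_lit 6), (nat_lit 6), (nat_lit 0), nat_lit 0x88707ce3aaf751e98e, nat_lit 0⟩
noncomputable def f379 : Fc := ⟨(nat_lit 1), (nat_lit 6), (nat_lit 6), (nat_lit 0), nat_lit 0xbe90794f8e0aad698e, nat_lit 0⟩
noncomputable def f380 : Fc := ⟨(nat_lit 1), (nat_lit 6), (nat_lit 6), (nat_lit 0), nat_lit 0xabe2e05acff095f5d0, nat_lit 0⟩
noncomputable def f381 : Fc := ⟨(nat_lit 1), (nat_lit 6), (nat_lit 6), (nat_lit 0), nat_lit 0x575eee294fec080421f, nat_lit 0⟩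
noncomputable def f382 : Fc := ⟨(nat_lit 2), (nat_lit 3), (nat_lit 6), (nat_lit 0), nat_lit 0x4498057e53a27fbc2ba, nat_lit 0x224944dfafe45c06d38⟩
noncomputable def f383 : Fc := ⟨(nat_lit 2), (nat_lit 6), (nat_lit 3), (nat_lit 0), nat_lit 0x224944dfafe45c06d38, nat_lit 0x4498057e53a27fbc2ba⟩
noncomputable def f384 : Fc := ⟨(nat_lit 2), (nat_lit 6), (nat_lit 6), (nat_lit 0), nat_lit 0x399f8daca501a758191, nat_lit 0x4cc3b187793fa5f9232⟩
noncomputable def f385 : Fc := ⟨(nat_lit 2), (nat_lit 1), (nat_lit 7), (nat_lit 0), nat_lit 0x10d3c3354ccaa98fab0, nat_lit 0x3c73731385a1fb58000⟩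
noncomputable def f386 : Fc := ⟨(nat_lit 2), (nat_lit 7), (nat_lit 1), (nat_lit 0), nat_lit 0x3c73731385a1fb58000, nat_lit 0x10d3c3354ccaa98fab0⟩
noncomputable def f387 : Fc := ⟨(nat_lit 1), (nat_lit 7), (nat_lit 6), (nat_lit 0), nat_lit 0x554b7084cfb84a25f5e, nat_lit 0⟩
noncomputable def f388 : Fc := ⟨(nat_lit 2), (nat_lit 6), (nat_lit 1), (nat_lit 0), nat_lit 0x554b7084cfb84a25f5e, nat_lit 0x10d3c3354ccaa98fab0⟩
noncomputable def f389 : Fc := ⟨(nat_lit 2), (nat_lit 1), (nat_lit 6), (nat_lit 0), nat_lit 0x10d3c3354ccaa98fab0, nat_lit 0x554b7084cfb84a25f5e⟩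
noncomputable def f390 : Fc := ⟨(nat_lit 2), (nat_lit 5), (nat_lit 8), (nat_lit 0), nat_lit 0x4982a13068dcdd15976, nat_lit 0x3c73731385a1fb58000⟩
noncomputable def f391 : Fc := ⟨(nat_lit 2), (nat_lit 8), (nat_lit 5), (nat_lit 0), nat_lit 0x3c73731385a1fb58000, nat_lit 0x4982a13068dcdd15976⟩
noncomputable def f392 : Fc := ⟨(nat_lit 1), (nat_lit 8), (nat_lit 8), (nat_lit 0), nat_lit 0x4ed98785774c9939b07, nat_lit 0⟩
noncomputable def f393 : Fc := ⟨(nat_lit 1), (nat_lit 8), (nat_lit 8), (nat_lit 0), nat_lit 0x6c1a373106c97a312a7, nat_lit 0⟩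
noncomputable def f394 : Fc := ⟨(nat_lit 1), (nat_lit 8), (nat_lit 8), (nat_lit 0), nat_lit 0x27f31649b120170daf, nat_lit 0⟩
noncomputable def f395 : Fc := ⟨(nat_lit 1), (nat_lit 8), (nat_lit 8), (nat_lit 0), nat_lit 0x6e8b7e29a4e610a0b0e, nat_lit 0⟩
noncomputable def f396 : Fc := ⟨(nat_lit 1), (nat_lit 8), (nat_lit 8), (nat_lit 0), nat_lit 0x104e0804ea65322eddc, nat_lit 0⟩
noncomputable def f397 : Fc := ⟨(nat_lit 1), (nat_lit 8), (nat_lit 8), (nat_lit 0), nat_lit 0x3c3a90f3aef202e7ab7, nat_lit 0⟩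
noncomputable def f398 : Fc := ⟨(nat_lit 1), (nat_lit 8), (nat_lit 8), (nat_lit 0), nat_lit 0x2798746d9c44515ab7, nat_lit 0⟩
noncomputable def f399 : Fc := ⟨(nat_lit 1), (nat_lit 8), (nat_lit 8), (nat_lit 0), nat_lit 0x76e8c31c1f3f7dfc2af, nat_lit 0⟩
noncomputable def f400 : Fc := ⟨(nat_lit 1), (nat_lit 8), (nat_lit 8), (nat_lit 0), nat_lit 0x175518f4b2a1e470c72, nat_lit 0⟩
noncomputable def f401 : Fc := ⟨(nat_lit 1), (nat_lit 8), (nat_lit 8), (nat_lit 0), nat_lit 0x3cabdd8988ed297893e, nat_lit 0⟩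
noncomputable def f402 : Fc := ⟨(nat_lit 1), (nat_lit 8), (nat_lit 8), (nat_lit 0), nat_lit 0x7545dd1e5b14f410ce8, nat_lit 0⟩
noncomputable def f403 : Fc := ⟨(nat_lit 1), (nat_lit 8), (nat_lit 8), (nat_lit 0), nat_lit 0x4c3cdc51cef58fb846c, nat_lit 0⟩
noncomputable def f404 : Fc := ⟨(nat_lit 2), (nat_lit 6), (nat_lit 8), (nat_lit 0), nat_lit 0x4a04438a78e2f008ae0, nat_lit 0x39d917d6d305fd28c34⟩
noncomputable def f405 : Fc := ⟨(nat_lit 2), (nat_lit 8), (nat_lit 6), (nat_lit 0), nat_lit 0x39d917d6d305fd28c34, nat_lit 0x4a04438a78e2f008ae0⟩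
noncomputable def f406 : Fc := ⟨(nat_lit 1), (nat_lit 8), (nat_lit 8), (nat_lit 0), nat_lit 0x43e4ae2230549df4252, nat_lit 0⟩
noncomputable def f407 : Fc := ⟨(nat_lit 1), (nat_lit 8), (nat_lit 8), (nat_lit 0), nat_lit 0x3d79aed7037c73aa875, nat_lit 0⟩
noncomputable def f408 : Fc := ⟨(nat_lit 1), (nat_lit 8), (nat_lit 8), (nat_lit 0), nat_lit 0x60efbd45cd0d5bd1490, nat_lit 0⟩
noncomputable def f409 : Fc := ⟨(nat_lit 1), (nat_lit 8), (nat_lit 8), (nat_lit 0), nat_lit 0x53143bf6ed2c48e7974, nat_lit 0⟩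
noncomputable def f410 : Fc := ⟨(nat_lit 1), (nat_lit 8), (nat_lit 8), (nat_lit 0), nat_lit 0x23f7d2503c4665b0732, nat_lit 0⟩
noncomputable def f411 : Fc := ⟨(nat_lit 1), (nat_lit 8), (nat_lit 8), (nat_lit 0), nat_lit 0x1e0fee05855343489ac, nat_lit 0⟩
noncomputable def f412 : Fc := ⟨(nat_lit 1), (nat_lit 8), (nat_lit 8), (nat_lit 0), nat_lit 0x627c11dee1e4a6c8488, nat_lit 0⟩
noncomputable def f413 : Fc := ⟨(nat_lit 1), (nat_lit 8), (nat_lit 8), (nat_lit 0), nat_lit 0x72611c1f598183e873b, nat_lit 0⟩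
noncomputable def f414 : Fc := ⟨(nat_lit 1), (nat_lit 8), (nat_lit 8), (nat_lit 0), nat_lit 0x1d8faa84bcbec410000, nat_lit 0⟩
noncomputable def f415 : Fc := ⟨(nat_lit 1), (nat_lit 8), (nat_lit 8), (nat_lit 0), nat_lit 0x1d8faa84bcbec410000, nat_lit 0⟩
noncomputable def f416 : Fc := ⟨(nat_lit 1), (nat_lit 8), (nat_lit 8), (nat_lit 0), nat_lit 0x258adfe0bd176048000, nat_lit 0⟩
noncomputable def f417 : Fc := ⟨(nat_lit 2), (nat_lit 8), (nat_lit 8), (nat_lit 0), nat_lit 0x5da4ab2f1b0d0d0ee17, nat_lit 0x2b4168353e9202e871a⟩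
noncomputable def f418 : Fc := ⟨(nat_lit 2), (nat_lit 5), (nat_lit 9), (nat_lit 0), nat_lit 0x12a10785d30843b5976, nat_lit 0x3c73731385a1fb58000⟩
noncomputable def f419 : Fc := ⟨(nat_lit 2), (nat_lit 9), (nat_lit 5), (nat_lit 0), nat_lit 0x3c73731385a1fb58000, nat_lit 0x12a10785d30843b5976⟩
noncomputable def f420 : Fc := ⟨(nat_lit 1), (nat_lit 9), (nat_lit 5), (nat_lit 0), nat_lit 0x42fdf31806e89dcc99c, nat_lit 0⟩
noncomputable def f421 : Fc := ⟨(nat_lit 2), (nat_lit 5), (nat_lit 5), (nat_lit 0), nat_lit 0x12a10785d30843b5976, nat_lit 0x42fdf31806e89dcc99c⟩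
noncomputable def f422 : Fc := ⟨(nat_lit 1), (nat_lit 8), (nat_lit 8), (nat_lit 0), nat_lit 0x19441e871ceaaed8000, nat_lit 0⟩
noncomputable def f423 : Fc := ⟨(nat_lit 1), (nat_lit 8), (nat_lit 8), (nat_lit 0), nat_lit 0x422bb2ca989213e0000, nat_lit 0⟩
noncomputable def f424 : Fc := ⟨(nat_lit 1), (nat_lit 8), (nat_lit 8), (nat_lit 0), nat_lit 0x5e196326d2c96108000, nat_lit 0⟩
noncomputable def f425 : Fc := ⟨(nat_lit 1), (nat_lit 8), (nat_lit 8), (nat_lit 0), nat_lit 0x716ed5b7b0a86fe0000, nat_lit 0⟩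
noncomputable def f426 : Fc := ⟨(nat_lit 1), (nat_lit 8), (nat_lit 8), (nat_lit 0), nat_lit 0x5ffdd5cbb9495a00000, nat_lit 0⟩
noncomputable def f427 : Fc := ⟨(nat_lit 1), (nat_lit 8), (nat_lit 8), (nat_lit 0), nat_lit 0x953d7248fb86fb3378, nat_lit 0⟩
noncomputable def f428 : Fc := ⟨(nat_lit 1), (nat_lit 8), (nat_lit 8), (nat_lit 0), nat_lit 0x26ef87b185a2ba29428, nat_lit 0⟩
noncomputable def f429 : Fc := ⟨(nat_lit 1), (nat_lit 8), (nat_lit 8), (nat_lit 0), nat_lit 0xe8e5a4f68621808000, nat_lit 0⟩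
noncomputable def f430 : Fc := ⟨(nat_lit 1), (nat_lit 8), (nat_lit 8), (nat_lit 0), nat_lit 0x2211e6cddf437658000, nat_lit 0⟩
noncomputable def f431 : Fc := ⟨(nat_lit 1), (nat_lit 1), (nat_lit 1), (nat_lit 0), nat_lit 0x391490a5877dfb58000, nat_lit 0⟩
noncomputable def f432 : Fc := ⟨(nat_lit 1), (nat_lit 1), (nat_lit 1), (nat_lit 0), nat_lit 0x517d16e985a2ae9e86d, nat_lit 0⟩
noncomputable def f433 : Fc := ⟨(nat_lit 1), (nat_lit 1), (nat_lit 1), (nat_lit 0), nat_lit 0x4f299ea901775fb8000, nat_lit 0⟩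
noncomputable def f434 : Fc := ⟨(nat_lit 1), (nat_lit 1), (nat_lit 1), (nat_lit 0), nat_lit 0x776b62aaa0d5fb58000, nat_lit 0⟩
noncomputable def f435 : Fc := ⟨(nat_lit 1), (nat_lit 1), (nat_lit 1), (nat_lit 0), nat_lit 0x4611e50f60ac27c7bb1, nat_lit 0⟩
noncomputable def f436 : Fc := ⟨(nat_lit 1), (nat_lit 1), (nat_lit 1), (nat_lit 0), nat_lit 0x287dbceec1d801e1aaf, nat_lit 0⟩
noncomputable def f437 : Fc := ⟨(nat_lit 1), (nat_lit 1), (nat_lit 1), (nat_lit 0), nat_lit 0x154416d6793e7401acf, nat_lit 0⟩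
noncomputable def f438 : Fc := ⟨(nat_lit 1), (nat_lit 1), (nat_lit 1), (nat_lit 0), nat_lit 0xe7f011f1248528e866, nat_lit 0⟩
noncomputable def f439 : Fc := ⟨(nat_lit 1), (nat_lit 1), (nat_lit 1), (nat_lit 0), nat_lit 0x366076264904bbd37e7, nat_lit 0⟩
noncomputable def f440 : Fc := ⟨(nat_lit 1), (nat_lit 6), (nat_lit 6), (nat_lit 0), nat_lit 0x39ab7312062b69315e2, nat_lit 0⟩
noncomputable def f441 : Fc := ⟨(nat_lit 1), (nat_lit 6), (nat_lit 6), (nat_lit 0), nat_lit 0x4bcdc36a205e368dddf, nat_lit 0⟩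
noncomputable def f442 : Fc := ⟨(nat_lit 1), (nat_lit 6), (nat_lit 6), (nat_lit 0), nat_lit 0x3c73912cac55fb5b772, nat_lit 0⟩
noncomputable def f443 : Fc := ⟨(nat_lit 1), (nat_lit 6), (nat_lit 6), (nat_lit 0), nat_lit 0x26748311c92699619cb, nat_lit 0⟩
noncomputable def f444 : Fc := ⟨(nat_lit 1), (nat_lit 6), (nat_lit 6), (nat_lit 0), nat_lit 0x7aae5586a6afcacc419, nat_lit 0⟩
noncomputable def f445 : Fc := ⟨(nat_lit 1), (nat_lit 6), (nat_lit 6), (nat_lit 0), nat_lit 0x503aee1385a1da66ef9, nat_lit 0⟩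
noncomputable def f446 : Fc := ⟨(nat_lit 1), (nat_lit 6), (nat_lit 6), (nat_lit 0), nat_lit 0x3c73ea4923deaf91082, nat_lit 0⟩
noncomputable def f447 : Fc := ⟨(nat_lit 1), (nat_lit 6), (nat_lit 6), (nat_lit 0), nat_lit 0x5d5c314d3afe0ade6fb, nat_lit 0⟩
noncomputable def f448 : Fc := ⟨(nat_lit 1), (nat_lit 6), (nat_lit 6), (nat_lit 0), nat_lit 0x66ec2a2fd1dba02f1b1, nat_lit 0⟩
noncomputable def f449 : Fc := ⟨(nat_lit 1), (nat_lit 3), (nat_lit 3), (nat_lit 0), nat_lit 0x5fb5589d85a278b8c0c, nat_lit 0⟩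
noncomputable def f450 : Fc := ⟨(nat_lit 1), (nat_lit 3), (nat_lit 3), (nat_lit 0), nat_lit 0x6ecaccc185a3d240d12, nat_lit 0⟩
noncomputable def f451 : Fc := ⟨(nat_lit 1), (nat_lit 3), (nat_lit 3), (nat_lit 0), nat_lit 0x609700d85a0d88924d, nat_lit 0⟩
noncomputable def f452 : Fc := ⟨(nat_lit 1), (nat_lit 3), (nat_lit 3), (nat_lit 0), nat_lit 0x606a652585a27d64eda, nat_lit 0⟩
noncomputable def f453 : Fc := ⟨(nat_lit 1), (nat_lit 3), (nat_lit 3), (nat_lit 0), nat_lit 0x7528e54585a3d1f891b, nat_lit 0⟩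
noncomputable def f454 : Fc := ⟨(nat_lit 1), (nat_lit 3), (nat_lit 3), (nat_lit 0), nat_lit 0x165e229187cb4bc0662, nat_lit 0⟩
noncomputable def f455 : Fc := ⟨(nat_lit 1), (nat_lit 3), (nat_lit 3), (nat_lit 0), nat_lit 0x5fa38c6b85a10ae8931, nat_lit 0⟩
noncomputable def f456 : Fc := ⟨(nat_lit 1), (nat_lit 3), (nat_lit 3), (nat_lit 0), nat_lit 0x6031292707cde8a09a7, nat_lit 0⟩
noncomputable def f457 : Fc := ⟨(nat_lit 1), (nat_lit 3), (nat_lit 3), (nat_lit 0), nat_lit 0x5e62067907ce8e2f618, nat_lit 0⟩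
noncomputable def f458 : Fc := ⟨(nat_lit 1), (nat_lit 5), (nat_lit 5), (nat_lit 0), nat_lit 0x3c730beb85a028614d0, nat_lit 0⟩
noncomputable def f459 : Fc := ⟨(nat_lit 1), (nat_lit 5), (nat_lit 5), (nat_lit 0), nat_lit 0x656a24c93ebd9c68431, nat_lit 0⟩
noncomputable def f460 : Fc := ⟨(nat_lit 1), (nat_lit 5), (nat_lit 5), (nat_lit 0), nat_lit 0x566610b624d704102bb, nat_lit 0⟩
noncomputable def f461 : Fc := ⟨(nat_lit 1), (nat_lit 5), (nat_lit 5), (nat_lit 0), nat_lit 0x3c731a7b85a289987bd, nat_lit 0⟩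
noncomputable def f462 : Fc := ⟨(nat_lit 1), (nat_lit 5), (nat_lit 5), (nat_lit 0), nat_lit 0x3c733e54ec5d9c6afd3, nat_lit 0⟩
noncomputable def f463 : Fc := ⟨(nat_lit 1), (nat_lit 5), (nat_lit 5), (nat_lit 0), nat_lit 0x11893df7e58aadbcd4d, nat_lit 0⟩
noncomputable def f464 : Fc := ⟨(nat_lit 1), (nat_lit 5), (nat_lit 5), (nat_lit 0), nat_lit 0x12ff8589a765d793dad, nat_lit 0⟩
noncomputable def f465 : Fc := ⟨(nat_lit 1), (nat_lit 2), (nat_lit 2), (nat_lit 0), nat_lit 0x4f3a22707b7f56bd945, nat_lit 0⟩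
noncomputable def f466 : Fc := ⟨(nat_lit 1), (nat_lit 2), (nat_lit 2), (nat_lit 0), nat_lit 0x3c7379f25f1f7724547, nat_lit 0⟩
noncomputable def f467 : Fc := ⟨(nat_lit 1), (nat_lit 2), (nat_lit 2), (nat_lit 0), nat_lit 0x38e4acfd5b4fc128000, nat_lit 0⟩
noncomputable def f468 : Fc := ⟨(nat_lit 1), (nat_lit 2), (nat_lit 2), (nat_lit 0), nat_lit 0x64fa5635bceb5f87942, nat_lit 0⟩
noncomputable def f469 : Fc := ⟨(nat_lit 1), (nat_lit 2), (nat_lit 2), (nat_lit 0), nat_lit 0x34ac2b80ada18880000, nat_lit 0⟩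
noncomputable def f470 : Fc := ⟨(nat_lit 1), (nat_lit 2), (nat_lit 2), (nat_lit 0), nat_lit 0x35fa0cc3afa0dc4f033, nat_lit 0⟩
noncomputable def f471 : Fc := ⟨(nat_lit 1), (nat_lit 2), (nat_lit 2), (nat_lit 0), nat_lit 0x61cb4f1fcc5ab4749ee, nat_lit 0⟩
noncomputable def f472 : Fc := ⟨(nat_lit 1), (nat_lit 4), (nat_lit 4), (nat_lit 0), nat_lit 0x463eed34b0eb770ebe3, nat_lit 0⟩
noncomputable def f473 : Fc := ⟨(nat_lit 1), (nat_lit 4), (nat_lit 4), (nat_lit 0), nat_lit 0x589cd8fd40789cff47e, nat_lit 0⟩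
noncomputable def f474 : Fc := ⟨(nat_lit 1), (nat_lit 4), (nat_lit 4), (nat_lit 0), nat_lit 0x2bd47313ca81086a43d, nat_lit 0⟩
noncomputable def f475 : Fc := ⟨(nat_lit 1), (nat_lit 4), (nat_lit 4), (nat_lit 0), nat_lit 0x56ba5f9aadadfb5d2d9, nat_lit 0⟩
noncomputable def f476 : Fc := ⟨(nat_lit 1), (nat_lit 4), (nat_lit 4), (nat_lit 0), nat_lit 0x2dd431b3b8d652f180a, nat_lit 0⟩
noncomputable def f477 : Fc := ⟨(nat_lit 1), (nat_lit 4), (nat_lit 4), (nat_lit 0), nat_lit 0x4cff06020c29e89810a, nat_lit 0⟩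
noncomputable def f478 : Fc := ⟨(nat_lit 1), (nat_lit 4), (nat_lit 4), (nat_lit 0), nat_lit 0x78084b87e1e84066d76, nat_lit 0⟩
noncomputable def F : FT := (.node (.node (.node (.node (.node (.node (.node (.node (.node 
 (.leaf f0) 
 (.leaf f256)) (.node 
 (.leaf f128) 
 (.leaf f384))) (.node (.node 
 (.leaf f64) 
 (.leaf f320)) (.node 
 (.leaf f192) 
 (.leaf f448)))) (.node (.node (.node 
 (.leaf f32) 
 (.leaf f288)) (.node 
 (.leaf f160) 
 (.leaf f416))) (.node (.node 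
 (.leaf f96) 
 (.leaf f352)) 
 (.leaf f224)))) (.node (.node (.node (.node 
 (.leaf f16) 
 (.leaf f272)) (.node 
 (.leaf f144) 
 (.leaf f400))) (.node (.node 
 (.leaf f80) 
 (.leaf f336)) (.node 
 (.leaf f208) 
 (.leaf f464)))) (.node (.node (.node 
 (.leaf f48) 
 (.leaf f304)) (.node 
 (.leaf f176) 
 (.leaf f432))) (.node (.node 
 (.leaf f112) 
 (.leaf f368)) 
 (.leaf f240))))) (.node (.node (.node (.node (.node 
 (.leaf f8) 
 (.leaf f264)) (.node 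
 (.leaf f136) 
 (.leaf f392))) (.node (.node 
 (.leaf f72) 
 (.leaf f328)) (.node 
 (.leaf f200) 
 (.leaf f456)))) (.node (.node (.node 
 (.leaf f40) 
 (.leaf f296)) (.node 
 (.leaf f168) 
 (.leaf f424))) (.node (.node 
 (.leaf f104) 
 (.leaf f360)) 
 (.leaf f232)))) (.node (.node (.node (.node 
 (.leaf f24) 
 (.leaf f280)) (.node 
 (.leaf f152) 
 (.leaf f408))) (.node (.node 
 (.leaf f88) 
 (.leaf f344)) (.node 
 (.leaf f216) 
 (.leaf f472)))) (.node (.node (.node 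
 (.leaf f56) 
 (.leaf f312)) (.node 
 (.leaf f184) 
 (.leaf f440))) (.node (.node 
 (.leaf f120) 
 (.leaf f376)) 
 (.leaf f248)))))) (.node (.node (.node (.node (.node (.node 
 (.leaf f4) 
 (.leaf f260)) (.node 
 (.leaf f132) 
 (.leaf f388))) (.node (.node 
 (.leaf f68) 
 (.leaf f324)) (.node 
 (.leaf f196) 
 (.leaf f452)))) (.node (.node (.node 
 (.leaf f36) 
 (.leaf f292)) (.node 
 (.leaf f164) 
 (.leaf f420))) (.node (.node 
 (.leaf f100) 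
 (.leaf f356)) 
 (.leaf f228)))) (.node (.node (.node (.node 
 (.leaf f20) 
 (.leaf f276)) (.node 
 (.leaf f148) 
 (.leaf f404))) (.node (.node 
 (.leaf f84) 
 (.leaf f340)) (.node 
 (.leaf f212) 
 (.leaf f468)))) (.node (.node (.node 
 (.leaf f52) 
 (.leaf f308)) (.node 
 (.leaf f180) 
 (.leaf f436))) (.node (.node 
 (.leaf f116) 
 (.leaf f372)) 
 (.leaf f244))))) (.node (.node (.node (.node (.node 
 (.leaf f12) 
 (.leaf f268)) (.node 
 (.leaf f140) 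
 (.leaf f396))) (.node (.node 
 (.leaf f76) 
 (.leaf f332)) (.node 
 (.leaf f204) 
 (.leaf f460)))) (.node (.node (.node 
 (.leaf f44) 
 (.leaf f300)) (.node 
 (.leaf f172) 
 (.leaf f428))) (.node (.node 
 (.leaf f108) 
 (.leaf f364)) 
 (.leaf f236)))) (.node (.node (.node (.node 
 (.leaf f28) 
 (.leaf f284)) (.node 
 (.leaf f156) 
 (.leaf f412))) (.node (.node 
 (.leaf f92) 
 (.leaf f348)) (.node 
 (.leaf f220) 
 (.leaf f476)))) (.node (.node (.node 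
 (.leaf f60) 
 (.leaf f316)) (.node 
 (.leaf f188) 
 (.leaf f444))) (.node (.node 
 (.leaf f124) 
 (.leaf f380)) 
 (.leaf f252))))))) (.node (.node (.node (.node (.node (.node (.node 
 (.leaf f2) 
 (.leaf f258)) (.node 
 (.leaf f130) 
 (.leaf f386))) (.node (.node 
 (.leaf f66) 
 (.leaf f322)) (.node 
 (.leaf f194) 
 (.leaf f450)))) (.node (.node (.node 
 (.leaf f34) 
 (.leaf f290)) (.node 
 (.leaf f162) 
 (.leaf f418))) (.node (.node 
 (.leaf f98) 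
 (.leaf f354)) 
 (.leaf f226)))) (.node (.node (.node (.node 
 (.leaf f18) 
 (.leaf f274)) (.node 
 (.leaf f146) 
 (.leaf f402))) (.node (.node 
 (.leaf f82) 
 (.leaf f338)) (.node 
 (.leaf f210) 
 (.leaf f466)))) (.node (.node (.node 
 (.leaf f50) 
 (.leaf f306)) (.node 
 (.leaf f178) 
 (.leaf f434))) (.node (.node 
 (.leaf f114) 
 (.leaf f370)) 
 (.leaf f242))))) (.node (.node (.node (.node (.node 
 (.leaf f10) 
 (.leaf f266)) (.node 
 (.leaf f138) 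
 (.leaf f394))) (.node (.node 
 (.leaf f74) 
 (.leaf f330)) (.node 
 (.leaf f202) 
 (.leaf f458)))) (.node (.node (.node 
 (.leaf f42) 
 (.leaf f298)) (.node 
 (.leaf f170) 
 (.leaf f426))) (.node (.node 
 (.leaf f106) 
 (.leaf f362)) 
 (.leaf f234)))) (.node (.node (.node (.node 
 (.leaf f26) 
 (.leaf f282)) (.node 
 (.leaf f154) 
 (.leaf f410))) (.node (.node 
 (.leaf f90) 
 (.leaf f346)) (.node 
 (.leaf f218) 
 (.leaf f474)))) (.node (.node (.node 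
 (.leaf f58) 
 (.leaf f314)) (.node 
 (.leaf f186) 
 (.leaf f442))) (.node (.node 
 (.leaf f122) 
 (.leaf f378)) 
 (.leaf f250)))))) (.node (.node (.node (.node (.node (.node 
 (.leaf f6) 
 (.leaf f262)) (.node 
 (.leaf f134) 
 (.leaf f390))) (.node (.node 
 (.leaf f70) 
 (.leaf f326)) (.node 
 (.leaf f198) 
 (.leaf f454)))) (.node (.node (.node 
 (.leaf f38) 
 (.leaf f294)) (.node 
 (.leaf f166) 
 (.leaf f422))) (.node (.node 
 (.leaf f102) 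
 (.leaf f358)) 
 (.leaf f230)))) (.node (.node (.node (.node 
 (.leaf f22) 
 (.leaf f278)) (.node 
 (.leaf f150) 
 (.leaf f406))) (.node (.node 
 (.leaf f86) 
 (.leaf f342)) (.node 
 (.leaf f214) 
 (.leaf f470)))) (.node (.node (.node 
 (.leaf f54) 
 (.leaf f310)) (.node 
 (.leaf f182) 
 (.leaf f438))) (.node (.node 
 (.leaf f118) 
 (.leaf f374)) 
 (.leaf f246))))) (.node (.node (.node (.node (.node 
 (.leaf f14) 
 (.leaf f270)) (.node 
 (.leaf f142) 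
 (.leaf f398))) (.node (.node 
 (.leaf f78) 
 (.leaf f334)) (.node 
 (.leaf f206) 
 (.leaf f462)))) (.node (.node (.node 
 (.leaf f46) 
 (.leaf f302)) (.node 
 (.leaf f174) 
 (.leaf f430))) (.node (.node 
 (.leaf f110) 
 (.leaf f366)) 
 (.leaf f238)))) (.node (.node (.node (.node 
 (.leaf f30) 
 (.leaf f286)) (.node 
 (.leaf f158) 
 (.leaf f414))) (.node (.node 
 (.leaf f94) 
 (.leaf f350)) (.node 
 (.leaf f222) 
 (.leaf f478)))) (.node (.node (.node 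
 (.leaf f62) 
 (.leaf f318)) (.node 
 (.leaf f190) 
 (.leaf f446))) (.node (.node 
 (.leaf f126) 
 (.leaf f382)) 
 (.leaf f254)))))))) (.node (.node (.node (.node (.node (.node (.node (.node 
 (.leaf f1) 
 (.leaf f257)) (.node 
 (.leaf f129) 
 (.leaf f385))) (.node (.node 
 (.leaf f65) 
 (.leaf f321)) (.node 
 (.leaf f193) 
 (.leaf f449)))) (.node (.node (.node 
 (.leaf f33) 
 (.leaf f289)) (.node 
 (.leaf f161) 
 (.leaf f417))) (.node (.node 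
 (.leaf f97) 
 (.leaf f353)) 
 (.leaf f225)))) (.node (.node (.node (.node 
 (.leaf f17) 
 (.leaf f273)) (.node 
 (.leaf f145) 
 (.leaf f401))) (.node (.node 
 (.leaf f81) 
 (.leaf f337)) (.node 
 (.leaf f209) 
 (.leaf f465)))) (.node (.node (.node 
 (.leaf f49) 
 (.leaf f305)) (.node 
 (.leaf f177) 
 (.leaf f433))) (.node (.node 
 (.leaf f113) 
 (.leaf f369)) 
 (.leaf f241))))) (.node (.node (.node (.node (.node 
 (.leaf f9) 
 (.leaf f265)) (.node 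
 (.leaf f137) 
 (.leaf f393))) (.node (.node 
 (.leaf f73) 
 (.leaf f329)) (.node 
 (.leaf f201) 
 (.leaf f457)))) (.node (.node (.node 
 (.leaf f41) 
 (.leaf f297)) (.node 
 (.leaf f169) 
 (.leaf f425))) (.node (.node 
 (.leaf f105) 
 (.leaf f361)) 
 (.leaf f233)))) (.node (.node (.node (.node 
 (.leaf f25) 
 (.leaf f281)) (.node 
 (.leaf f153) 
 (.leaf f409))) (.node (.node 
 (.leaf f89) 
 (.leaf f345)) (.node 
 (.leaf f217) 
 (.leaf f473)))) (.node (.node (.node 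
 (.leaf f57) 
 (.leaf f313)) (.node 
 (.leaf f185) 
 (.leaf f441))) (.node (.node 
 (.leaf f121) 
 (.leaf f377)) 
 (.leaf f249)))))) (.node (.node (.node (.node (.node (.node 
 (.leaf f5) 
 (.leaf f261)) (.node 
 (.leaf f133) 
 (.leaf f389))) (.node (.node 
 (.leaf f69) 
 (.leaf f325)) (.node 
 (.leaf f197) 
 (.leaf f453)))) (.node (.node (.node 
 (.leaf f37) 
 (.leaf f293)) (.node 
 (.leaf f165) 
 (.leaf f421))) (.node (.node 
 (.leaf f101) 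
 (.leaf f357)) 
 (.leaf f229)))) (.node (.node (.node (.node 
 (.leaf f21) 
 (.leaf f277)) (.node 
 (.leaf f149) 
 (.leaf f405))) (.node (.node 
 (.leaf f85) 
 (.leaf f341)) (.node 
 (.leaf f213) 
 (.leaf f469)))) (.node (.node (.node 
 (.leaf f53) 
 (.leaf f309)) (.node 
 (.leaf f181) 
 (.leaf f437))) (.node (.node 
 (.leaf f117) 
 (.leaf f373)) 
 (.leaf f245))))) (.node (.node (.node (.node (.node 
 (.leaf f13) 
 (.leaf f269)) (.node 
 (.leaf f141) 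
 (.leaf f397))) (.node (.node 
 (.leaf f77) 
 (.leaf f333)) (.node 
 (.leaf f205) 
 (.leaf f461)))) (.node (.node (.node 
 (.leaf f45) 
 (.leaf f301)) (.node 
 (.leaf f173) 
 (.leaf f429))) (.node (.node 
 (.leaf f109) 
 (.leaf f365)) 
 (.leaf f237)))) (.node (.node (.node (.node 
 (.leaf f29) 
 (.leaf f285)) (.node 
 (.leaf f157) 
 (.leaf f413))) (.node (.node 
 (.leaf f93) 
 (.leaf f349)) (.node 
 (.leaf f221) 
 (.leaf f477)))) (.node (.node (.node 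
 (.leaf f61) 
 (.leaf f317)) (.node 
 (.leaf f189) 
 (.leaf f445))) (.node (.node 
 (.leaf f125) 
 (.leaf f381)) 
 (.leaf f253))))))) (.node (.node (.node (.node (.node (.node (.node 
 (.leaf f3) 
 (.leaf f259)) (.node 
 (.leaf f131) 
 (.leaf f387))) (.node (.node 
 (.leaf f67) 
 (.leaf f323)) (.node 
 (.leaf f195) 
 (.leaf f451)))) (.node (.node (.node 
 (.leaf f35) 
 (.leaf f291)) (.node 
 (.leaf f163) 
 (.leaf f419))) (.node (.node 
 (.leaf f99) 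
 (.leaf f355)) 
 (.leaf f227)))) (.node (.node (.node (.node 
 (.leaf f19) 
 (.leaf f275)) (.node 
 (.leaf f147) 
 (.leaf f403))) (.node (.node 
 (.leaf f83) 
 (.leaf f339)) (.node 
 (.leaf f211) 
 (.leaf f467)))) (.node (.node (.node 
 (.leaf f51) 
 (.leaf f307)) (.node 
 (.leaf f179) 
 (.leaf f435))) (.node (.node 
 (.leaf f115) 
 (.leaf f371)) 
 (.leaf f243))))) (.node (.node (.node (.node (.node 
 (.leaf f11) 
 (.leaf f267)) (.node 
 (.leaf f139) 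
 (.leaf f395))) (.node (.node 
 (.leaf f75) 
 (.leaf f331)) (.node 
 (.leaf f203) 
 (.leaf f459)))) (.node (.node (.node 
 (.leaf f43) 
 (.leaf f299)) (.node 
 (.leaf f171) 
 (.leaf f427))) (.node (.node 
 (.leaf f107) 
 (.leaf f363)) 
 (.leaf f235)))) (.node (.node (.node (.node 
 (.leaf f27) 
 (.leaf f283)) (.node 
 (.leaf f155) 
 (.leaf f411))) (.node (.node 
 (.leaf f91) 
 (.leaf f347)) (.node 
 (.leaf f219) 
 (.leaf f475)))) (.node (.node (.node 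
 (.leaf f59) 
 (.leaf f315)) (.node 
 (.leaf f187) 
 (.leaf f443))) (.node (.node 
 (.leaf f123) 
 (.leaf f379)) 
 (.leaf f251)))))) (.node (.node (.node (.node (.node (.node 
 (.leaf f7) 
 (.leaf f263)) (.node 
 (.leaf f135) 
 (.leaf f391))) (.node (.node 
 (.leaf f71) 
 (.leaf f327)) (.node 
 (.leaf f199) 
 (.leaf f455)))) (.node (.node (.node 
 (.leaf f39) 
 (.leaf f295)) (.node 
 (.leaf f167) 
 (.leaf f423))) (.node (.node 
 (.leaf f103) 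
 (.leaf f359)) 
 (.leaf f231)))) (.node (.node (.node (.node 
 (.leaf f23) 
 (.leaf f279)) (.node 
 (.leaf f151) 
 (.leaf f407))) (.node (.node 
 (.leaf f87) 
 (.leaf f343)) (.node 
 (.leaf f215) 
 (.leaf f471)))) (.node (.node (.node 
 (.leaf f55) 
 (.leaf f311)) (.node 
 (.leaf f183) 
 (.leaf f439))) (.node (.node 
 (.leaf f119) 
 (.leaf f375)) 
 (.leaf f247))))) (.node (.node (.node (.node (.node 
 (.leaf f15) 
 (.leaf f271)) (.node 
 (.leaf f143) 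
 (.leaf f399))) (.node (.node 
 (.leaf f79) 
 (.leaf f335)) (.node 
 (.leaf f207) 
 (.leaf f463)))) (.node (.node (.node 
 (.leaf f47) 
 (.leaf f303)) (.node 
 (.leaf f175) 
 (.leaf f431))) (.node (.node 
 (.leaf f111) 
 (.leaf f367)) 
 (.leaf f239)))) (.node (.node (.node (.node 
 (.leaf f31) 
 (.leaf f287)) (.node 
 (.leaf f159) 
 (.leaf f415))) (.node (.node 
 (.leaf f95) 
 (.leaf f351)) 
 (.leaf f223))) (.node (.node (.node 
 (.leaf f63) 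
 (.leaf f319)) (.node 
 (.leaf f191) 
 (.leaf f447))) (.node (.node 
 (.leaf f127) 
 (.leaf f383)) 
 (.leaf f255)))))))))
noncomputable def D : List (ℕ × List ℕ) := [((nat_lit 0), []), ((nat_lit 0), [nat_lit 6, nat_lit 9, nat_lit 4, nat_lit 3, nat_lit 7, nat_lit 8, nat_lit 2, nat_lit 3, nat_lit 7, nat_lit 4, nat_lit 5, nat_lit 3, nat_lit 4, nat_lit 2, nat_lit 3, nat_lit 7, nat_lit 6, nat_lit 5, nat_lit 4, nat_lit 3, nat_lit 2, nat_lit 1, nat_lit 0]), ((nat_lit 1), [nat_lit 7, nat_lit 4, nat_lit 5, nat_lit 2, nat_lit 3, nat_lit 4, nat_lit 1, nat_lit 2, nat_lit 3, nat_lit 7, nat_lit 8, nat_lit 7, nat_lit 3, nat_lit 4, nat_lit 2, nat_lit 3, nat_lit 7, nat_lit 5, nat_lit 4, nat_lit 3, nat_lit 2, nat_lit 1, nat_lit 0]), ((nat_lit 2), [nat_lit 3, nat_lit 4, nat_lit 1, nat_lit 2, nat_lit 3, nat_lit 7, nat_lit 0, nat_lit 1, nat_lit 2, nat_lit 3, nat_lit 4, nat_lit 5, nat_lit 6, nat_lit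 9, nat_lit 2, nat_lit 3, nat_lit 7, nat_lit 8, nat_lit 5, nat_lit 4, nat_lit 3, nat_lit 7, nat_lit 6, nat_lit 4, nat_lit 5, nat_lit 1, nat_lit 2, nat_lit 3, nat_lit 4, nat_lit 0, nat_lit 1, nat_lit 2, nat_lit 3, nat_lit 7, nat_lit 8, nat_lit 5, nat_lit 2, nat_lit 3, nat_lit 4, nat_lit 1, nat_lit 2, nat_lit 3, nat_lit 7, nat_lit 6, nat_lit 5, nat_lit 4, nat_lit 3, nat_lit 2, nat_lit 1, nat_lit 0]), ((nat_lit 3), [nat_lit 4, nat_lit 3, nat_lit 7, nat_lit 2, nat_lit 3, nat_lit 4, nat_lit 1, nat_lit 2, nat_lit 3, nat_lit 7, nat_lit 8, nat_lit 7, nat_lit 3, nat_lit 4, nat_lit 2, nat_lit 3, nat_lit 7, nat_lit 5, nat_lit 4, nat_lit 3, nat_lit 2, nat_lit 1, nat_lit 0]), ((nat_lit 3), [nat_lit 4, nat_lit 3, nat_lit 7, nat_lit 1, nat_lit 2, nat_lit 3, nat_lit 4, nat_lit 0, nat_lit 1, nat_lit 2, nat_lit 3, nat_lit 7, nat_lit 8, nat_lit 7, nat_lit 3, nat_lit 4, nat_lit 2, nat_lit 3, nat_lit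 7, nat_lit 5, nat_lit 4, nat_lit 3, nat_lit 2, nat_lit 1, nat_lit 0]), ((nat_lit 4), [nat_lit 2, nat_lit 3, nat_lit 4, nat_lit 5, nat_lit 6, nat_lit 9, nat_lit 8, nat_lit 7, nat_lit 1, nat_lit 2, nat_lit 3, nat_lit 4, nat_lit 0, nat_lit 1, nat_lit 2, nat_lit 3, nat_lit 7, nat_lit 8, nat_lit 7, nat_lit 4, nat_lit 5, nat_lit 3, nat_lit 4, nat_lit 2, nat_lit 3, nat_lit 7, nat_lit 6, nat_lit 5, nat_lit 4, nat_lit 3, nat_lit 2, nat_lit 1, nat_lit 0]), ((nat_lit 1), [nat_lit 2, nat_lit 3, nat_lit 7, nat_lit 8, nat_lit 6, nat_lit 4, nat_lit 5, nat_lit 2, nat_lit 3, nat_lit 4, nat_lit 1, nat_lit 2, nat_lit 3, nat_lit 7, nat_lit 0, nat_lit 1, nat_lit 2, nat_lit 3, nat_lit 4, nat_lit 5, nat_lit 6, nat_lit 9, nat_lit 4, nat_lit 3, nat_lit 7, nat_lit 8, nat_lit 2, nat_lit 3, nat_lit 7, nat_lit 4, nat_lit 5, nat_lit 1, nat_lit 2, nat_lit 3, nat_lit 4, nat_lit 0, nat_lit 1, nat_lit 2, nat_lit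 3, nat_lit 7, nat_lit 8, nat_lit 7, nat_lit 4, nat_lit 5, nat_lit 3, nat_lit 4, nat_lit 1, nat_lit 2, nat_lit 3, nat_lit 7, nat_lit 6, nat_lit 5, nat_lit 4, nat_lit 3, nat_lit 2, nat_lit 1, nat_lit 0]), ((nat_lit 5), [nat_lit 8, nat_lit 7, nat_lit 2, nat_lit 3, nat_lit 4, nat_lit 5, nat_lit 6, nat_lit 9, nat_lit 6, nat_lit 5, nat_lit 4, nat_lit 3, nat_lit 7, nat_lit 8, nat_lit 3, nat_lit 4, nat_lit 2, nat_lit 3, nat_lit 7, nat_lit 2, nat_lit 3, nat_lit 4, nat_lit 5, nat_lit 1, nat_lit 2, nat_lit 3, nat_lit 4, nat_lit 0, nat_lit 1, nat_lit 2, nat_lit 3, nat_lit 7, nat_lit 8, nat_lit 5, nat_lit 3, nat_lit 4, nat_lit 0, nat_lit 1, nat_lit 2, nat_lit 3, nat_lit 7, nat_lit 6, nat_lit 5, nat_lit 4, nat_lit 3, nat_lit 2, nat_lit 1, nat_lit 0]), ((nat_lit 5), [nat_lit 8, nat_lit 7, nat_lit 3, nat_lit 4, nat_lit 5, nat_lit 6, nat_lit 9, nat_lit 6, nat_lit 5, nat_lit 4, nat_lit 3, nat_lit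 7, nat_lit 8, nat_lit 3, nat_lit 4, nat_lit 2, nat_lit 3, nat_lit 7, nat_lit 2, nat_lit 3, nat_lit 4, nat_lit 5, nat_lit 1, nat_lit 2, nat_lit 3, nat_lit 4, nat_lit 0, nat_lit 1, nat_lit 2, nat_lit 3, nat_lit 7, nat_lit 8, nat_lit 5, nat_lit 3, nat_lit 4, nat_lit 0, nat_lit 1, nat_lit 2, nat_lit 3, nat_lit 7, nat_lit 6, nat_lit 5, nat_lit 4, nat_lit 3, nat_lit 2, nat_lit 1, nat_lit 0])]
noncomputable def R : List (List ℕ × ℕ) := [([nat_lit 0x3c73731385a1fb58000, nat_lit 0x3c73731385a1fb58000], nat_lit 0), ([nat_lit 0x3c747315859dfb58000, nat_lit 0x3c747315859dfb58000, nat_lit 0x3c747315859dfb58000, nat_lit 0x3c747315859dfb58000], nat_lit 0)]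
noncomputable def Ds : List (List (List ℕ) × Ce) := [([[],
  []], [([], (nat_lit 9), false)]), ([[nat_lit 0],
  [nat_lit 0],
  [nat_lit 0],
  [nat_lit 0]], [([], (nat_lit 10), false)])]
noncomputable def Rt : List (List ℕ) := [[nat_lit 1, nat_lit 10, nat_lit 8, nat_lit 11],
  [nat_lit 2, nat_lit 10, nat_lit 7, nat_lit 11],
  [nat_lit 3, nat_lit 10, nat_lit 3, nat_lit 11],
  [nat_lit 4, nat_lit 10, nat_lit 4, nat_lit 11],
  [nat_lit 5, nat_lit 10, nat_lit 5, nat_lit 11],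
  [nat_lit 6, nat_lit 10, nat_lit 6, nat_lit 11],
  [nat_lit 7, nat_lit 10, nat_lit 2, nat_lit 11],
  [nat_lit 8, nat_lit 10, nat_lit 1, nat_lit 11],
  [nat_lit 9, nat_lit 10, nat_lit 9, nat_lit 11],
  [nat_lit 10, nat_lit 10],
  [nat_lit 10, nat_lit 0, nat_lit 10, nat_lit 0, nat_lit 10, nat_lit 0, nat_lit 10, nat_lit 0]]
noncomputable def SB : List (List ℕ) := [[nat_lit 0],
  [nat_lit 1],
  [nat_lit 2],
  [nat_lit 3],
  [nat_lit 4],
  [nat_lit 5],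
  [nat_lit 6],
  [nat_lit 7],
  [nat_lit 8]]
noncomputable def c : Ck := DH.mkC Y2.q (nat_lit 10) Y2.C [nat_lit 0, nat_lit 1, nat_lit 2, nat_lit 3, nat_lit 4, nat_lit 5, nat_lit 6, nat_lit 7, nat_lit 8, nat_lit 9, nat_lit 11] Rt SB D R F
noncomputable def P150 : List Pf := [.kb [nat_lit 1] [nat_lit 8] [([], (nat_lit 0), false)],
  .kb [nat_lit 2] [nat_lit 7] [([], (nat_lit 1), false)],
  .kb [nat_lit 3] [nat_lit 3] [([], (nat_lit 2), false)],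
  .kb [nat_lit 4] [nat_lit 4] [([], (nat_lit 3), false)],
  .kb [nat_lit 5] [nat_lit 5] [([], (nat_lit 4), false)],
  .kb [nat_lit 6] [nat_lit 6] [([], (nat_lit 5), false)],
  .kb [nat_lit 7] [nat_lit 2] [([], (nat_lit 6), false)],
  .kb [nat_lit 8] [nat_lit 1] [([], (nat_lit 7), false)],
  .kb [nat_lit 9] [nat_lit 9] [([], (nat_lit 8), false)],
  .ki (nat_lit 1),
  .ki (nat_lit 2),
  .kp [nat_lit 11, nat_lit 11, nat_lit 1, nat_lit 11, nat_lit 1],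
  .ki (nat_lit 12),
  .ki (nat_lit 3),
  .ki (nat_lit 4),
  .ki (nat_lit 5),
  .kp [nat_lit 11, nat_lit 14, nat_lit 13, nat_lit 16, nat_lit 1, nat_lit 11, nat_lit 1, nat_lit 10, nat_lit 15, nat_lit 14, nat_lit 12, nat_lit 5, nat_lit 10],
  .ki (nat_lit 17),
  .ki (nat_lit 6),
  .ki (nat_lit 7),
  .kp [nat_lit 20, nat_lit 18, nat_lit 11, nat_lit 19, nat_lit 18, nat_lit 16, nat_lit 2, nat_lit 2, nat_lit 6, nat_lit 20, nat_lit 14, nat_lit 10, nat_lit 15, nat_lit 20, nat_lit 6, nat_lit 14, nat_lit 3, nat_lit 17, nat_lit 20, nat_lit 2, nat_lit 15, nat_lit 19],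
  .ki (nat_lit 21),
  .kp [nat_lit 13, nat_lit 18, nat_lit 19, nat_lit 22, nat_lit 18, nat_lit 22, nat_lit 16, nat_lit 15, nat_lit 19, nat_lit 20, nat_lit 22, nat_lit 10, nat_lit 12, nat_lit 16, nat_lit 11, nat_lit 5, nat_lit 15, nat_lit 3, nat_lit 1, nat_lit 6, nat_lit 15],
  .ki (nat_lit 23),
  .kp [nat_lit 24, nat_lit 13, nat_lit 22, nat_lit 24, nat_lit 15, nat_lit 10, nat_lit 14, nat_lit 23, nat_lit 14, nat_lit 11, nat_lit 22, nat_lit 23, nat_lit 19, nat_lit 24, nat_lit 6, nat_lit 7, nat_lit 23, nat_lit 17, nat_lit 7, nat_lit 15, nat_lit 7, nat_lit 10, nat_lit 5],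
  .ki (nat_lit 25),
  .ki (nat_lit 8),
  .kp [nat_lit 22, nat_lit 13, nat_lit 19, nat_lit 27, nat_lit 22, nat_lit 27, nat_lit 22, nat_lit 10, nat_lit 23, nat_lit 16, nat_lit 18, nat_lit 27, nat_lit 24, nat_lit 13, nat_lit 11, nat_lit 18, nat_lit 10, nat_lit 12, nat_lit 6, nat_lit 21, nat_lit 1, nat_lit 6, nat_lit 5],
  .ki (nat_lit 28),
  .kp [nat_lit 28, nat_lit 28, nat_lit 23, nat_lit 16, nat_lit 19, nat_lit 19, nat_lit 8, nat_lit 14, nat_lit 16, nat_lit 24, nat_lit 29, nat_lit 29, nat_lit 1],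
  .ki (nat_lit 30),
  .kp [nat_lit 29, nat_lit 18, nat_lit 20, nat_lit 27, nat_lit 8, nat_lit 20, nat_lit 8, nat_lit 17, nat_lit 28, nat_lit 22, nat_lit 21],
  .ki (nat_lit 32),
  .ki (nat_lit 9),
  .kp [nat_lit 16, nat_lit 31, nat_lit 18, nat_lit 18, nat_lit 34, nat_lit 31, nat_lit 1, nat_lit 5, nat_lit 11, nat_lit 2, nat_lit 10],
  .ki (nat_lit 35),
  .kp [nat_lit 15, nat_lit 36, nat_lit 29, nat_lit 13, nat_lit 29, nat_lit 18, nat_lit 16, nat_lit 36, nat_lit 28, nat_lit 24, nat_lit 11, nat_lit 21, nat_lit 12, nat_lit 2, nat_lit 32, nat_lit 36, nat_lit 3, nat_lit 36],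
  .ki (nat_lit 37),
  .kp [nat_lit 28, nat_lit 27, nat_lit 23, nat_lit 15, nat_lit 24, nat_lit 36, nat_lit 37, nat_lit 14, nat_lit 15, nat_lit 20, nat_lit 33, nat_lit 20, nat_lit 9, nat_lit 32, nat_lit 15, nat_lit 6, nat_lit 3],
  .ki (nat_lit 39),
  .kp [nat_lit 26, nat_lit 31, nat_lit 39],
  .ki (nat_lit 41),
  .kp [nat_lit 37, nat_lit 28, nat_lit 27],
  .ki (nat_lit 43),
  .kp [nat_lit 31, nat_lit 37, nat_lit 31],
  .ki (nat_lit 45),
  .kp [nat_lit 40, nat_lit 23, nat_lit 28],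
  .ki (nat_lit 47),
  .kp [nat_lit 48, nat_lit 28, nat_lit 31],
  .ki (nat_lit 49),
  .kp [nat_lit 38, nat_lit 32, nat_lit 30],
  .ki (nat_lit 51),
  .kp [nat_lit 39, nat_lit 25, nat_lit 4],
  .ki (nat_lit 53),
  .kp [nat_lit 25, nat_lit 8, nat_lit 53],
  .ki (nat_lit 55),
  .kp [nat_lit 27, nat_lit 22, nat_lit 32],
  .ki (nat_lit 57),
  .kp [nat_lit 27, nat_lit 39, nat_lit 54],
  .ki (nat_lit 59),
  .kp [nat_lit 40, nat_lit 18, nat_lit 35],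
  .ki (nat_lit 61),
  .kp [nat_lit 62, nat_lit 35, nat_lit 61],
  .ki (nat_lit 63),
  .kp [nat_lit 54, nat_lit 40, nat_lit 22],
  .ki (nat_lit 65),
  .kp [nat_lit 6, nat_lit 65, nat_lit 25],
  .ki (nat_lit 67),
  .kp [nat_lit 53, nat_lit 67, nat_lit 37],
  .ki (nat_lit 69),
  .kp [nat_lit 54, nat_lit 23, nat_lit 26],
  .ki (nat_lit 71),
  .kp [nat_lit 65, nat_lit 60, nat_lit 69],
  .ki (nat_lit 73),
  .kp [nat_lit 37, nat_lit 63, nat_lit 27],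
  .ki (nat_lit 75),
  .kp [nat_lit 58, nat_lit 15, nat_lit 67],
  .ki (nat_lit 77),
  .kp [nat_lit 27, nat_lit 62, nat_lit 64],
  .ki (nat_lit 79),
  .kp [nat_lit 22, nat_lit 37, nat_lit 74],
  .ki (nat_lit 81),
  .kp [nat_lit 82, nat_lit 76, nat_lit 54],
  .ki (nat_lit 83),
  .kp [nat_lit 11, nat_lit 28, nat_lit 25],
  .ki (nat_lit 85),
  .kp [nat_lit 20, nat_lit 29, nat_lit 34],
  .ki (nat_lit 87),
  .kp [nat_lit 31, nat_lit 1, nat_lit 17],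
  .ki (nat_lit 89),
  .kp [nat_lit 86, nat_lit 31, nat_lit 33],
  .ki (nat_lit 91),
  .kp [nat_lit 4, nat_lit 1, nat_lit 5],
  .ki (nat_lit 93),
  .kp [nat_lit 16, nat_lit 4, nat_lit 85],
  .ki (nat_lit 95),
  .kp [nat_lit 94, nat_lit 85, nat_lit 35],
  .ki (nat_lit 97),
  .kp [nat_lit 34, nat_lit 36, nat_lit 31],
  .ki (nat_lit 99),
  .kp [nat_lit 12, nat_lit 24, nat_lit 93],
  .ki (nat_lit 101),
  .kp [nat_lit 28, nat_lit 27, nat_lit 96],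
  .ki (nat_lit 103),
  .sb (nat_lit 0),
  .ss (nat_lit 0) [(nat_lit 105)] [],
  .sb (nat_lit 1),
  .ss (nat_lit 0) [(nat_lit 107)] [],
  .sb (nat_lit 2),
  .ss (nat_lit 0) [(nat_lit 109)] [],
  .sb (nat_lit 3),
  .ss (nat_lit 0) [(nat_lit 111)] [],
  .ss (nat_lit 0) [] [nat_lit 111, nat_lit 106, nat_lit 109],
  .ss (nat_lit 0) [(nat_lit 113)] [],
  .sb (nat_lit 4),
  .ss (nat_lit 0) [(nat_lit 115)] [],
  .ss (nat_lit 0) [] [nat_lit 115, nat_lit 108, nat_lit 110],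
  .ss (nat_lit 0) [(nat_lit 117)] [],
  .sb (nat_lit 5),
  .ss (nat_lit 0) [(nat_lit 119)] [],
  .ss (nat_lit 0) [] [nat_lit 120, nat_lit 114, nat_lit 112],
  .ss (nat_lit 0) [(nat_lit 121)] [],
  .ss (nat_lit 0) [] [nat_lit 117, nat_lit 112, nat_lit 111],
  .ss (nat_lit 0) [(nat_lit 123)] [],
  .ss (nat_lit 0) [] [nat_lit 121, nat_lit 110, nat_lit 113],
  .ss (nat_lit 0) [(nat_lit 125)] [],
  .ss (nat_lit 0) [] [nat_lit 108, nat_lit 121, nat_lit 115],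
  .ss (nat_lit 0) [(nat_lit 127)] [],
  .sb (nat_lit 6),
  .ss (nat_lit 0) [(nat_lit 129)] [],
  .ss (nat_lit 0) [] [nat_lit 126, nat_lit 126, nat_lit 117],
  .ss (nat_lit 0) [(nat_lit 131)] [],
  .ss (nat_lit 0) [] [nat_lit 110, nat_lit 110, nat_lit 123],
  .ss (nat_lit 0) [(nat_lit 133)] [],
  .ss (nat_lit 0) [] [nat_lit 127, nat_lit 134, nat_lit 112],
  .ss (nat_lit 0) [(nat_lit 135)] [],
  .ss (nat_lit 0) [] [nat_lit 130, nat_lit 110, nat_lit 121],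
  .ss (nat_lit 0) [(nat_lit 137)] [],
  .ss (nat_lit 0) [] [nat_lit 117, nat_lit 106, nat_lit 125],
  .ss (nat_lit 0) [(nat_lit 139)] [],
  .sb (nat_lit 7),
  .ss (nat_lit 0) [(nat_lit 141)] [],
  .ss (nat_lit 0) [] [nat_lit 111, nat_lit 122, nat_lit 130],
  .ss (nat_lit 0) [(nat_lit 143)] [],
  .sb (nat_lit 8),
  .ss (nat_lit 0) [(nat_lit 145)] [],
  .df,
  .cy (nat_lit 0) [] [] [] (nat_lit 147) [],
  .tr (nat_lit 147) [] [] [⟨[nat_lit 143, nat_lit 128, nat_lit 129, nat_lit 115], [nat_lit 97, nat_lit 3, nat_lit 98, nat_lit 39, nat_lit 71, nat_lit 67, nat_lit 23, nat_lit 50, nat_lit 30], (nat_lit 147)⟩]]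
noncomputable def P219 : List Pf := [.ss (nat_lit 1) [(nat_lit 149)] [],
  .tr (nat_lit 147) [] [] [⟨[nat_lit 143, nat_lit 126, nat_lit 138], [nat_lit 35, nat_lit 29, nat_lit 7, nat_lit 28, nat_lit 35], (nat_lit 147)⟩],
  .ss (nat_lit 1) [(nat_lit 151)] [],
  .tr (nat_lit 147) [] [] [⟨[nat_lit 125, nat_lit 134, nat_lit 110, nat_lit 114, nat_lit 111, nat_lit 115], [nat_lit 38, nat_lit 21, nat_lit 3, nat_lit 74, nat_lit 59, nat_lit 17, nat_lit 50, nat_lit 45, nat_lit 40, nat_lit 25], (nat_lit 147)⟩],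
  .ss (nat_lit 1) [] [nat_lit 150, nat_lit 150, nat_lit 150, nat_lit 153],
  .ss (nat_lit 1) [(nat_lit 154)] [],
  .ss (nat_lit 1) [] [nat_lit 150, nat_lit 151, nat_lit 155, nat_lit 152, nat_lit 149, nat_lit 152, nat_lit 154, nat_lit 150],
  .ss (nat_lit 1) [(nat_lit 156)] [],
  .ss (nat_lit 1) [(nat_lit 153)] [],
  .tr (nat_lit 147) [] [] [⟨[nat_lit 105, nat_lit 144, nat_lit 108, nat_lit 146, nat_lit 122, nat_lit 118, nat_lit 139, nat_lit 131, nat_lit 138], [nat_lit 3, nat_lit 1, nat_lit 6], (nat_lit 147)⟩],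
  .ss (nat_lit 1) [] [nat_lit 150, nat_lit 150, nat_lit 159],
  .ss (nat_lit 1) [(nat_lit 160)] [],
  .ss (nat_lit 1) [(nat_lit 159)] [],
  .tr (nat_lit 147) [] [] [⟨[nat_lit 141, nat_lit 139, nat_lit 142, nat_lit 113, nat_lit 115, nat_lit 124, nat_lit 139, nat_lit 141, nat_lit 131, nat_lit 109], [nat_lit 90, nat_lit 6, nat_lit 39, nat_lit 1, nat_lit 62, nat_lit 53, nat_lit 17, nat_lit 23, nat_lit 44, nat_lit 23, nat_lit 39], (nat_lit 147)⟩],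
  .ss (nat_lit 1) [(nat_lit 163)] [],
  .tr (nat_lit 147) [] [] [⟨[nat_lit 112, nat_lit 143, nat_lit 141, nat_lit 116, nat_lit 136, nat_lit 143, nat_lit 117], [nat_lit 37, nat_lit 7, nat_lit 17, nat_lit 2, nat_lit 28, nat_lit 72, nat_lit 21, nat_lit 12, nat_lit 39, nat_lit 49, nat_lit 42, nat_lit 40], (nat_lit 147)⟩],
  .ss (nat_lit 1) [(nat_lit 165)] [],
  .ss (nat_lit 1) [] [nat_lit 164, nat_lit 150, nat_lit 161, nat_lit 166, nat_lit 149, nat_lit 161, nat_lit 164, nat_lit 164, nat_lit 163, nat_lit 160, nat_lit 165, nat_lit 161, nat_lit 160, nat_lit 157, nat_lit 161, nat_lit 149, nat_lit 164],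
  .ss (nat_lit 1) [(nat_lit 167)] [],
  .ss (nat_lit 1) [] [nat_lit 153, nat_lit 165, nat_lit 159],
  .ss (nat_lit 1) [(nat_lit 169)] [],
  .ss (nat_lit 1) [] [nat_lit 149, nat_lit 165, nat_lit 164],
  .ss (nat_lit 1) [(nat_lit 171)] [],
  .ss (nat_lit 1) [] [nat_lit 151, nat_lit 164, nat_lit 164],
  .ss (nat_lit 1) [(nat_lit 173)] [],
  .ss (nat_lit 1) [] [nat_lit 173, nat_lit 171, nat_lit 149],
  .ss (nat_lit 1) [(nat_lit 175)] [],
  .cy (nat_lit 1) [] [] [nat_lit 9, nat_lit 101, nat_lit 1, nat_lit 77, nat_lit 6, nat_lit 61, nat_lit 49, nat_lit 29, nat_lit 41, nat_lit 25] (nat_lit 0) [⟨[nat_lit 114, nat_lit 141, nat_lit 140, nat_lit 140, nat_lit 144, nat_lit 141, nat_lit 145, nat_lit 114, nat_lit 141, nat_lit 139, nat_lit 127], [nat_lit 28, nat_lit 104, nat_lit 39, nat_lit 1, nat_lit 38, nat_lit 40, nat_lit 77, nat_lit 37, nat_lit 45, nat_lit 23, nat_lit 39, nat_lit 41], (nat_lit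 0)⟩, ⟨[nat_lit 131, nat_lit 137, nat_lit 140, nat_lit 141, nat_lit 145, nat_lit 131, nat_lit 141, nat_lit 113], [nat_lit 35, nat_lit 101, nat_lit 89, nat_lit 1, nat_lit 58, nat_lit 83, nat_lit 67, nat_lit 23, nat_lit 50, nat_lit 24, nat_lit 41, nat_lit 25], (nat_lit 147)⟩],
  .cy (nat_lit 0) [] [] [] (nat_lit 177) [⟨[nat_lit 144, nat_lit 141, nat_lit 145, nat_lit 141, nat_lit 131, nat_lit 140, nat_lit 141, nat_lit 131, nat_lit 113], [nat_lit 38, nat_lit 39, nat_lit 88, nat_lit 2, nat_lit 78, nat_lit 65, nat_lit 61, nat_lit 40, nat_lit 45, nat_lit 49, nat_lit 41, nat_lit 30], (nat_lit 147)⟩],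
  .ss (nat_lit 1) [(nat_lit 178)] [],
  .ss (nat_lit 1) [] [nat_lit 150, nat_lit 179, nat_lit 161, nat_lit 149, nat_lit 165, nat_lit 165, nat_lit 149, nat_lit 152, nat_lit 165, nat_lit 150, nat_lit 164, nat_lit 165],
  .ss (nat_lit 1) [(nat_lit 180)] [],
  .ss (nat_lit 1) [] [nat_lit 152, nat_lit 181, nat_lit 168, nat_lit 181, nat_lit 167, nat_lit 149, nat_lit 166, nat_lit 166, nat_lit 149, nat_lit 180, nat_lit 149, nat_lit 154, nat_lit 165, nat_lit 165, nat_lit 178, nat_lit 181],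
  .ss (nat_lit 1) [(nat_lit 182)] [],
  .ss (nat_lit 1) [] [nat_lit 152, nat_lit 155, nat_lit 183, nat_lit 181, nat_lit 183, nat_lit 181, nat_lit 150, nat_lit 155, nat_lit 166, nat_lit 167, nat_lit 152, nat_lit 179, nat_lit 151, nat_lit 178, nat_lit 163, nat_lit 182, nat_lit 157],
  .ss (nat_lit 1) [(nat_lit 184)] [],
  .ss (nat_lit 1) [] [nat_lit 161, nat_lit 181, nat_lit 182, nat_lit 180, nat_lit 168, nat_lit 154, nat_lit 156, nat_lit 180, nat_lit 180, nat_lit 184, nat_lit 161, nat_lit 155],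
  .ss (nat_lit 1) [(nat_lit 186)] [],
  .ss (nat_lit 1) [] [nat_lit 185, nat_lit 183, nat_lit 186, nat_lit 167, nat_lit 186, nat_lit 186, nat_lit 186, nat_lit 182, nat_lit 180, nat_lit 181, nat_lit 154, nat_lit 151, nat_lit 184, nat_lit 181, nat_lit 186],
  .ss (nat_lit 1) [(nat_lit 188)] [],
  .cy (nat_lit 1) [] [] [nat_lit 94, nat_lit 37, nat_lit 102, nat_lit 2, nat_lit 67, nat_lit 73, nat_lit 73, nat_lit 40, nat_lit 37, nat_lit 24, nat_lit 32, nat_lit 30, nat_lit 25] (nat_lit 148) [⟨[nat_lit 128, nat_lit 131, nat_lit 144, nat_lit 132, nat_lit 141, nat_lit 145, nat_lit 131, nat_lit 140, nat_lit 141, nat_lit 131, nat_lit 105], [nat_lit 85, nat_lit 24, nat_lit 88, nat_lit 62, nat_lit 71, nat_lit 78, nat_lit 29, nat_lit 43, nat_lit 8, nat_lit 40, nat_lit 25], (nat_lit 0)⟩, ⟨[nat_lit 131, nat_lit 114, nat_lit 141, nat_lit 145, nat_lit 114, nat_lit 141, nat_lit 131, nat_lit 113],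 [nat_lit 89, nat_lit 94, nat_lit 39, nat_lit 2, nat_lit 84, nat_lit 80, nat_lit 67, nat_lit 28, nat_lit 43, nat_lit 39, nat_lit 41], (nat_lit 147)⟩],
  .df,
  .cy (nat_lit 0) [] [] [] (nat_lit 191) [],
  .tr (nat_lit 191) [] [] [⟨[nat_lit 150, nat_lit 174, nat_lit 176, nat_lit 166, nat_lit 149, nat_lit 163], [nat_lit 95, nat_lit 91, nat_lit 5, nat_lit 32, nat_lit 4, nat_lit 30], (nat_lit 191)⟩],
  .ss (nat_lit 2) [(nat_lit 193)] [],
  .tr (nat_lit 191) [] [] [⟨[nat_lit 174, nat_lit 169, nat_lit 176, nat_lit 172, nat_lit 178, nat_lit 179, nat_lit 169, nat_lit 169, nat_lit 158], [nat_lit 5, nat_lit 8], (nat_lit 191)⟩],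
  .ss (nat_lit 2) [(nat_lit 195)] [],
  .tr (nat_lit 191) [] [] [⟨[nat_lit 152, nat_lit 175, nat_lit 169, nat_lit 169, nat_lit 149, nat_lit 159, nat_lit 169, nat_lit 163], [nat_lit 9, nat_lit 5], (nat_lit 191)⟩],
  .ss (nat_lit 2) [(nat_lit 197)] [],
  .tr (nat_lit 191) [] [] [⟨[nat_lit 174, nat_lit 170, nat_lit 178, nat_lit 158, nat_lit 149, nat_lit 150, nat_lit 179, nat_lit 158], [nat_lit 38, nat_lit 9, nat_lit 1, nat_lit 37, nat_lit 79, nat_lit 17, nat_lit 28, nat_lit 38, nat_lit 39, nat_lit 25], (nat_lit 191)⟩],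
  .ss (nat_lit 2) [(nat_lit 199)] [],
  .tr (nat_lit 191) [] [] [⟨[nat_lit 179, nat_lit 158, nat_lit 166, nat_lit 150, nat_lit 163, nat_lit 153, nat_lit 169, nat_lit 175, nat_lit 178, nat_lit 176], [nat_lit 103, nat_lit 1, nat_lit 98, nat_lit 1, nat_lit 55, nat_lit 65, nat_lit 61, nat_lit 44, nat_lit 28, nat_lit 32, nat_lit 25], (nat_lit 191)⟩],
  .ss (nat_lit 2) [(nat_lit 201)] [],
  .tr (nat_lit 191) [] [] [⟨[nat_lit 158, nat_lit 174, nat_lit 172, nat_lit 149, nat_lit 169, nat_lit 159, nat_lit 158], [nat_lit 9, nat_lit 5, nat_lit 8], (nat_lit 191)⟩],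
  .ss (nat_lit 2) [(nat_lit 203)] [],
  .tr (nat_lit 191) [] [] [⟨[nat_lit 178, nat_lit 169, nat_lit 166, nat_lit 153, nat_lit 178, nat_lit 175, nat_lit 159, nat_lit 178, nat_lit 175, nat_lit 172, nat_lit 178, nat_lit 159], [nat_lit 24, nat_lit 9, nat_lit 7, nat_lit 56, nat_lit 71, nat_lit 67, nat_lit 45, nat_lit 48, nat_lit 23, nat_lit 42, nat_lit 40], (nat_lit 191)⟩],
  .ss (nat_lit 2) [(nat_lit 205)] [],
  .tr (nat_lit 191) [] [] [⟨[nat_lit 153, nat_lit 173, nat_lit 179, nat_lit 159, nat_lit 164, nat_lit 176, nat_lit 163, nat_lit 178, nat_lit 163, nat_lit 170], [nat_lit 9, nat_lit 59, nat_lit 56, nat_lit 61, nat_lit 47, nat_lit 50, nat_lit 45, nat_lit 42], (nat_lit 191)⟩],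
  .ss (nat_lit 2) [(nat_lit 207)] [],
  .tr (nat_lit 191) [] [] [⟨[nat_lit 159, nat_lit 149, nat_lit 151, nat_lit 166, nat_lit 178, nat_lit 172, nat_lit 179, nat_lit 165, nat_lit 173, nat_lit 170, nat_lit 151, nat_lit 149, nat_lit 178, nat_lit 171, nat_lit 179, nat_lit 158], [nat_lit 5, nat_lit 23, nat_lit 3, nat_lit 67, nat_lit 82, nat_lit 61, nat_lit 52, nat_lit 37, nat_lit 8, nat_lit 40, nat_lit 42], (nat_lit 191)⟩],
  .ss (nat_lit 2) [] [nat_lit 204, nat_lit 205, nat_lit 202, nat_lit 206, nat_lit 209],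
  .ss (nat_lit 2) [(nat_lit 210)] [],
  .ss (nat_lit 2) [] [nat_lit 208, nat_lit 204, nat_lit 211, nat_lit 198, nat_lit 206, nat_lit 196, nat_lit 194, nat_lit 211, nat_lit 201, nat_lit 210, nat_lit 201, nat_lit 207, nat_lit 203, nat_lit 207],
  .ss (nat_lit 2) [(nat_lit 212)] [],
  .ss (nat_lit 2) [(nat_lit 209)] [],
  .tr (nat_lit 191) [] [] [⟨[nat_lit 164, nat_lit 178, nat_lit 172, nat_lit 165, nat_lit 169, nat_lit 158, nat_lit 170, nat_lit 153, nat_lit 175, nat_lit 174, nat_lit 170, nat_lit 172, nat_lit 171, nat_lit 169, nat_lit 176, nat_lit 172, nat_lit 179], [nat_lit 86, nat_lit 98, nat_lit 89, nat_lit 3, nat_lit 82, nat_lit 79, nat_lit 6, nat_lit 51, nat_lit 46, nat_lit 30], (nat_lit 191)⟩],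
  .ss (nat_lit 2) [] [nat_lit 196, nat_lit 213, nat_lit 196, nat_lit 200, nat_lit 215],
  .ss (nat_lit 2) [(nat_lit 216)] [],
  .tr (nat_lit 191) [] [] [⟨[nat_lit 176, nat_lit 175, nat_lit 149, nat_lit 165, nat_lit 171, nat_lit 179, nat_lit 163, nat_lit 170, nat_lit 162, nat_lit 166, nat_lit 165, nat_lit 178, nat_lit 169, nat_lit 175, nat_lit 150], [nat_lit 103, nat_lit 24, nat_lit 7, nat_lit 1, nat_lit 54, nat_lit 80, nat_lit 74, nat_lit 30, nat_lit 29, nat_lit 29], (nat_lit 191)⟩]]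
noncomputable def P273 : List Pf := [.ss (nat_lit 2) [(nat_lit 218)] [],
  .ss (nat_lit 2) [] [nat_lit 196, nat_lit 206, nat_lit 207, nat_lit 219, nat_lit 218, nat_lit 193, nat_lit 207, nat_lit 206, nat_lit 203, nat_lit 193, nat_lit 219, nat_lit 213, nat_lit 217, nat_lit 196],
  .ss (nat_lit 2) [(nat_lit 220)] [],
  .cy (nat_lit 1) [] [] [nat_lit 88, nat_lit 89, nat_lit 38, nat_lit 2, nat_lit 80, nat_lit 74, nat_lit 70, nat_lit 49, nat_lit 44, nat_lit 39, nat_lit 30] (nat_lit 148) [⟨[nat_lit 128, nat_lit 144, nat_lit 141, nat_lit 145, nat_lit 140, nat_lit 114, nat_lit 141, nat_lit 139], [nat_lit 95, nat_lit 40, nat_lit 5, nat_lit 72, nat_lit 77, nat_lit 21, nat_lit 12, nat_lit 29, nat_lit 49, nat_lit 32, nat_lit 30, nat_lit 25], (nat_lit 147)⟩, ⟨[nat_lit 169, nat_lit 176], [nat_lit 23, nat_lit 95, nat_lit 102, nat_lit 1, nat_lit 12, nat_lit 79, nat_lit 25, nat_lit 50, nat_lit 45,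 nat_lit 32, nat_lit 30, nat_lit 25], (nat_lit 191)⟩],
  .cy (nat_lit 0) [] [] [] (nat_lit 222) [⟨[nat_lit 153, nat_lit 163, nat_lit 159, nat_lit 179, nat_lit 149], [nat_lit 40, nat_lit 3, nat_lit 95, nat_lit 80, nat_lit 35, nat_lit 4, nat_lit 40, nat_lit 38, nat_lit 24, nat_lit 32, nat_lit 30], (nat_lit 191)⟩],
  .ss (nat_lit 2) [(nat_lit 223)] [],
  .ss (nat_lit 2) [] [nat_lit 194, nat_lit 208, nat_lit 208, nat_lit 219, nat_lit 198, nat_lit 217, nat_lit 204, nat_lit 207, nat_lit 220, nat_lit 221, nat_lit 213, nat_lit 205, nat_lit 210, nat_lit 206, nat_lit 224],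
  .ss (nat_lit 2) [(nat_lit 225)] [],
  .ss (nat_lit 2) [] [nat_lit 205, nat_lit 217, nat_lit 196, nat_lit 218, nat_lit 197, nat_lit 216, nat_lit 220, nat_lit 213, nat_lit 213, nat_lit 198, nat_lit 224, nat_lit 208, nat_lit 211, nat_lit 202, nat_lit 204, nat_lit 200, nat_lit 205],
  .ss (nat_lit 2) [(nat_lit 227)] [],
  .ss (nat_lit 2) [] [nat_lit 204, nat_lit 223, nat_lit 206, nat_lit 228, nat_lit 208, nat_lit 227, nat_lit 227, nat_lit 197, nat_lit 193, nat_lit 206, nat_lit 212, nat_lit 199],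
  .ss (nat_lit 2) [(nat_lit 229)] [],
  .cy (nat_lit 1) [] [] [nat_lit 8, nat_lit 5, nat_lit 87, nat_lit 3, nat_lit 54, nat_lit 82, nat_lit 29, nat_lit 4, nat_lit 32, nat_lit 8, nat_lit 23, nat_lit 32] (nat_lit 148) [⟨[nat_lit 144, nat_lit 141, nat_lit 145, nat_lit 113, nat_lit 139, nat_lit 141, nat_lit 131, nat_lit 143, nat_lit 139, nat_lit 141, nat_lit 132, nat_lit 117], [nat_lit 5, nat_lit 88, nat_lit 9, nat_lit 1, nat_lit 66, nat_lit 71, nat_lit 70, nat_lit 51, nat_lit 51, nat_lit 46, nat_lit 41, nat_lit 25], (nat_lit 147)⟩, ⟨[nat_lit 169, nat_lit 175, nat_lit 170, nat_lit 165, nat_lit 179, nat_lit 165], [nat_lit 24, nat_lit 98, nat_lit 88, nat_lit 3, nat_lit 67, nat_lit 39, nat_lit 12, nat_lit 51, nat_lit 25, nat_lit 44, nat_lit 40], (nat_lit 191)⟩],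
  .cy (nat_lit 0) [] [] [] (nat_lit 231) [⟨[nat_lit 178, nat_lit 153, nat_lit 178, nat_lit 150, nat_lit 150], [nat_lit 85, nat_lit 102, nat_lit 100, nat_lit 86, nat_lit 76, nat_lit 81, nat_lit 53, nat_lit 12, nat_lit 40, nat_lit 24, nat_lit 40, nat_lit 42], (nat_lit 191)⟩],
  .ss (nat_lit 2) [] [nat_lit 206, nat_lit 217, nat_lit 229, nat_lit 205, nat_lit 232],
  .ss (nat_lit 2) [(nat_lit 233)] [],
  .ss (nat_lit 2) [] [nat_lit 211, nat_lit 221, nat_lit 234, nat_lit 217, nat_lit 229, nat_lit 219, nat_lit 204, nat_lit 217, nat_lit 200, nat_lit 227, nat_lit 199, nat_lit 212, nat_lit 233, nat_lit 221, nat_lit 194, nat_lit 219, nat_lit 220, nat_lit 201],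
  .ss (nat_lit 2) [(nat_lit 235)] [],
  .ss (nat_lit 2) [] [nat_lit 217, nat_lit 236, nat_lit 211, nat_lit 213, nat_lit 233, nat_lit 200, nat_lit 233, nat_lit 213, nat_lit 224, nat_lit 208, nat_lit 223, nat_lit 208, nat_lit 227, nat_lit 235, nat_lit 225, nat_lit 195, nat_lit 206, nat_lit 219, nat_lit 201, nat_lit 208, nat_lit 229, nat_lit 226],
  .ss (nat_lit 2) [(nat_lit 232)] [],
  .cy (nat_lit 1) [] [] [nat_lit 93, nat_lit 91, nat_lit 5, nat_lit 17, nat_lit 65, nat_lit 75, nat_lit 29, nat_lit 23, nat_lit 25] (nat_lit 192) [⟨[nat_lit 150, nat_lit 175, nat_lit 179, nat_lit 179, nat_lit 169, nat_lit 171], [nat_lit 5, nat_lit 17, nat_lit 38, nat_lit 2, nat_lit 39, nat_lit 66, nat_lit 70, nat_lit 44, nat_lit 52, nat_lit 24, nat_lit 40, nat_lit 25], (nat_lit 190)⟩, ⟨[nat_lit 179, nat_lit 172, nat_lit 169, nat_lit 151, nat_lit 179, nat_lit 179], [nat_lit 29, nat_lit 40, nat_lit 88,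 nat_lit 74, nat_lit 59, nat_lit 66, nat_lit 40, nat_lit 32, nat_lit 28, nat_lit 42, nat_lit 40], (nat_lit 191)⟩],
  .cy (nat_lit 1) [] [] [nat_lit 85, nat_lit 39, nat_lit 21, nat_lit 9, nat_lit 35, nat_lit 76, nat_lit 17, nat_lit 28, nat_lit 23, nat_lit 39, nat_lit 30] (nat_lit 192) [⟨[nat_lit 153, nat_lit 159, nat_lit 179, nat_lit 176, nat_lit 178, nat_lit 149], [nat_lit 24, nat_lit 9, nat_lit 87, nat_lit 63, nat_lit 56, nat_lit 78, nat_lit 47, nat_lit 44, nat_lit 32, nat_lit 30, nat_lit 25], (nat_lit 190)⟩, ⟨[nat_lit 153, nat_lit 176, nat_lit 159, nat_lit 179, nat_lit 176], [nat_lit 85, nat_lit 103, nat_lit 4, nat_lit 12, nat_lit 76, nat_lit 47, nat_lit 38, nat_lit 40, nat_lit 42], (nat_lit 191)⟩],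
  .cy (nat_lit 1) [] [] [nat_lit 1, nat_lit 29, nat_lit 87, nat_lit 1, nat_lit 68, nat_lit 75, nat_lit 78, nat_lit 47, nat_lit 46, nat_lit 23, nat_lit 39] (nat_lit 192) [⟨[nat_lit 171, nat_lit 178, nat_lit 171, nat_lit 169], [nat_lit 100, nat_lit 5, nat_lit 12, nat_lit 3, nat_lit 76, nat_lit 65, nat_lit 61, nat_lit 8, nat_lit 50, nat_lit 42, nat_lit 25], (nat_lit 191)⟩, ⟨[nat_lit 209, nat_lit 197, nat_lit 205, nat_lit 215], [nat_lit 89, nat_lit 86, nat_lit 9, nat_lit 32, nat_lit 23, nat_lit 81, nat_lit 44, nat_lit 39, nat_lit 23, nat_lit 39, nat_lit 30], (nat_lit 239)⟩],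
  .df,
  .cy (nat_lit 0) [] [] [] (nat_lit 242) [],
  .tr (nat_lit 242) [] [] [⟨[nat_lit 204, nat_lit 199, nat_lit 209, nat_lit 207, nat_lit 203, nat_lit 205, nat_lit 203, nat_lit 205], [nat_lit 104, nat_lit 88, nat_lit 23, nat_lit 1, nat_lit 65, nat_lit 54, nat_lit 35, nat_lit 46, nat_lit 28, nat_lit 8, nat_lit 41, nat_lit 39], (nat_lit 242)⟩],
  .ss (nat_lit 3) [(nat_lit 244)] [],
  .tr (nat_lit 242) [] [] [⟨[nat_lit 224, nat_lit 215, nat_lit 200, nat_lit 207, nat_lit 224, nat_lit 224, nat_lit 223, nat_lit 205, nat_lit 224, nat_lit 219, nat_lit 203], [nat_lit 28, nat_lit 89, nat_lit 3, nat_lit 65, nat_lit 40, nat_lit 12, nat_lit 40, nat_lit 29, nat_lit 23, nat_lit 39, nat_lit 25], (nat_lit 242)⟩],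
  .ss (nat_lit 3) [(nat_lit 246)] [],
  .tr (nat_lit 242) [] [] [⟨[nat_lit 215, nat_lit 199, nat_lit 232, nat_lit 201, nat_lit 194, nat_lit 215, nat_lit 238, nat_lit 209, nat_lit 223], [nat_lit 103, nat_lit 87, nat_lit 21, nat_lit 1, nat_lit 67, nat_lit 75, nat_lit 70, nat_lit 25, nat_lit 46, nat_lit 39], (nat_lit 242)⟩],
  .ss (nat_lit 3) [(nat_lit 248)] [],
  .ss (nat_lit 3) [] [nat_lit 244, nat_lit 249, nat_lit 245, nat_lit 244, nat_lit 249, nat_lit 245, nat_lit 245, nat_lit 248, nat_lit 249, nat_lit 245, nat_lit 248, nat_lit 245, nat_lit 246, nat_lit 244, nat_lit 246, nat_lit 245, nat_lit 249],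
  .ss (nat_lit 3) [(nat_lit 250)] [],
  .ss (nat_lit 3) [] [nat_lit 249, nat_lit 245, nat_lit 249, nat_lit 247, nat_lit 249, nat_lit 244, nat_lit 247, nat_lit 251, nat_lit 247, nat_lit 245, nat_lit 251, nat_lit 244, nat_lit 246],
  .ss (nat_lit 3) [(nat_lit 252)] [],
  .ss (nat_lit 3) [] [nat_lit 249, nat_lit 247, nat_lit 245, nat_lit 249, nat_lit 245, nat_lit 247, nat_lit 248, nat_lit 245, nat_lit 249, nat_lit 244, nat_lit 244, nat_lit 245, nat_lit 247, nat_lit 248, nat_lit 249, nat_lit 246, nat_lit 247, nat_lit 250, nat_lit 245, nat_lit 245, nat_lit 245],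
  .ss (nat_lit 3) [(nat_lit 254)] [],
  .ss (nat_lit 3) [] [nat_lit 248, nat_lit 249, nat_lit 246],
  .ss (nat_lit 3) [(nat_lit 256)] [],
  .ss (nat_lit 3) [] [nat_lit 247, nat_lit 249, nat_lit 248],
  .ss (nat_lit 3) [(nat_lit 258)] [],
  .ss (nat_lit 3) [] [nat_lit 247, nat_lit 249, nat_lit 248],
  .ss (nat_lit 3) [(nat_lit 260)] [],
  .ss (nat_lit 3) [] [nat_lit 247, nat_lit 257, nat_lit 258],
  .ss (nat_lit 3) [(nat_lit 262)] [],
  .ss (nat_lit 3) [] [nat_lit 258, nat_lit 260, nat_lit 246],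
  .ss (nat_lit 3) [] [nat_lit 245, nat_lit 246, nat_lit 249],
  .ss (nat_lit 3) [(nat_lit 265)] [],
  .ss (nat_lit 3) [] [nat_lit 259, nat_lit 248, nat_lit 256],
  .ss (nat_lit 3) [(nat_lit 267)] [],
  .ss (nat_lit 3) [] [nat_lit 265, nat_lit 267, nat_lit 262],
  .ss (nat_lit 3) [(nat_lit 269)] [],
  .ss (nat_lit 3) [] [nat_lit 263, nat_lit 262, nat_lit 266],
  .ss (nat_lit 3) [(nat_lit 271)] []]
noncomputable def P309 : List Pf := [.ss (nat_lit 3) [] [nat_lit 245, nat_lit 248, nat_lit 245],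
  .ss (nat_lit 3) [(nat_lit 273)] [],
  .cy (nat_lit 1) [] [] [nat_lit 29, nat_lit 98, nat_lit 28, nat_lit 3, nat_lit 55, nat_lit 17, nat_lit 67, nat_lit 39, nat_lit 38, nat_lit 28, nat_lit 40, nat_lit 25] (nat_lit 191) [⟨[nat_lit 238, nat_lit 207, nat_lit 193, nat_lit 205, nat_lit 193], [nat_lit 3, nat_lit 94, nat_lit 38, nat_lit 3, nat_lit 83, nat_lit 80, nat_lit 61, nat_lit 24, nat_lit 51, nat_lit 47, nat_lit 25], (nat_lit 239)⟩, ⟨[nat_lit 201, nat_lit 238, nat_lit 214, nat_lit 206, nat_lit 199], [nat_lit 8, nat_lit 28, nat_lit 3, nat_lit 37, nat_lit 59, nat_lit 74, nat_lit 28, nat_lit 50, nat_lit 41, nat_lit 25], (nat_lit 242)⟩],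
  .cy (nat_lit 0) [] [] [] (nat_lit 275) [],
  .cy (nat_lit 1) [] [] [nat_lit 95, nat_lit 38, nat_lit 1, nat_lit 67, nat_lit 57, nat_lit 23, nat_lit 47, nat_lit 23, nat_lit 32, nat_lit 30, nat_lit 25] (nat_lit 191) [⟨[nat_lit 219, nat_lit 207, nat_lit 209, nat_lit 199], [nat_lit 104, nat_lit 23, nat_lit 88, nat_lit 2, nat_lit 40, nat_lit 57, nat_lit 53, nat_lit 47, nat_lit 28, nat_lit 24, nat_lit 32], (nat_lit 239)⟩, ⟨[nat_lit 205, nat_lit 232, nat_lit 224, nat_lit 224, nat_lit 201], [nat_lit 96, nat_lit 3, nat_lit 39, nat_lit 3, nat_lit 81, nat_lit 61, nat_lit 65, nat_lit 37, nat_lit 43, nat_lit 24, nat_lit 40, nat_lit 42], (nat_lit 242)⟩],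
  .cy (nat_lit 0) [] [] [] (nat_lit 277) [⟨[nat_lit 163, nat_lit 170, nat_lit 171, nat_lit 159, nat_lit 149], [nat_lit 93, nat_lit 9, nat_lit 7, nat_lit 1, nat_lit 12, nat_lit 32, nat_lit 73, nat_lit 47, nat_lit 25, nat_lit 38, nat_lit 42], (nat_lit 276)⟩],
  .ss (nat_lit 3) [(nat_lit 278)] [],
  .ss (nat_lit 3) [] [nat_lit 278, nat_lit 249, nat_lit 279, nat_lit 247, nat_lit 249, nat_lit 278, nat_lit 278, nat_lit 253, nat_lit 249],
  .ss (nat_lit 3) [(nat_lit 280)] [],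
  .ss (nat_lit 3) [] [nat_lit 251, nat_lit 280, nat_lit 255, nat_lit 281, nat_lit 281, nat_lit 281, nat_lit 253, nat_lit 278, nat_lit 245, nat_lit 253, nat_lit 254, nat_lit 250, nat_lit 281, nat_lit 247, nat_lit 249, nat_lit 255, nat_lit 247, nat_lit 249],
  .ss (nat_lit 3) [(nat_lit 282)] [],
  .ss (nat_lit 3) [] [nat_lit 253, nat_lit 283, nat_lit 253, nat_lit 281, nat_lit 245, nat_lit 254, nat_lit 245, nat_lit 283, nat_lit 279, nat_lit 248, nat_lit 249, nat_lit 245, nat_lit 251, nat_lit 278, nat_lit 283, nat_lit 280, nat_lit 279],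
  .cy (nat_lit 1) [] [] [nat_lit 17, nat_lit 37, nat_lit 2, nat_lit 12, nat_lit 24, nat_lit 67, nat_lit 39, nat_lit 38, nat_lit 23, nat_lit 32, nat_lit 30] (nat_lit 243) [⟨[nat_lit 224, nat_lit 238, nat_lit 215, nat_lit 238, nat_lit 195], [nat_lit 94, nat_lit 86, nat_lit 3, nat_lit 62, nat_lit 12, nat_lit 53, nat_lit 45, nat_lit 29, nat_lit 29, nat_lit 32, nat_lit 30], (nat_lit 239)⟩, ⟨[nat_lit 224, nat_lit 208, nat_lit 238, nat_lit 201, nat_lit 224], [nat_lit 86, nat_lit 39, nat_lit 103, nat_lit 57, nat_lit 65, nat_lit 12, nat_lit 47, nat_lit 28, nat_lit 40], (nat_lit 242)⟩],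
  .cy (nat_lit 1) [] [] [nat_lit 103, nat_lit 91, nat_lit 87, nat_lit 71, nat_lit 62, nat_lit 21, nat_lit 24, nat_lit 28, nat_lit 32, nat_lit 30] (nat_lit 243) [⟨[nat_lit 209, nat_lit 232, nat_lit 199, nat_lit 238], [nat_lit 102, nat_lit 6, nat_lit 87, nat_lit 1, nat_lit 79, nat_lit 53, nat_lit 12, nat_lit 40, nat_lit 28, nat_lit 23, nat_lit 32, nat_lit 30, nat_lit 25], (nat_lit 239)⟩, ⟨[nat_lit 232, nat_lit 223, nat_lit 219, nat_lit 232, nat_lit 223, nat_lit 193], [nat_lit 88, nat_lit 39, nat_lit 1, nat_lit 39, nat_lit 69, nat_lit 57, nat_lit 49, nat_lit 52, nat_lit 40], (nat_lit 242)⟩],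
  .cy (nat_lit 1) [] [] [nat_lit 12, nat_lit 91, nat_lit 39, nat_lit 5, nat_lit 37, nat_lit 67, nat_lit 57, nat_lit 49, nat_lit 47, nat_lit 23, nat_lit 41] (nat_lit 285) [⟨[nat_lit 269, nat_lit 269, nat_lit 279, nat_lit 269, nat_lit 273, nat_lit 248, nat_lit 244], [nat_lit 91, nat_lit 6, nat_lit 9, nat_lit 2, nat_lit 6, nat_lit 37, nat_lit 35, nat_lit 28, nat_lit 40, nat_lit 28, nat_lit 42, nat_lit 40], (nat_lit 285)⟩, ⟨[nat_lit 265, nat_lit 279, nat_lit 270, nat_lit 266, nat_lit 246, nat_lit 269], [nat_lit 5, nat_lit 87, nat_lit 21, nat_lit 54, nat_lit 67, nat_lit 28, nat_lit 47, nat_lit 39, nat_lit 25], (nat_lit 285)⟩],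
  .df,
  .cy (nat_lit 0) [] [] [] (nat_lit 288) [],
  .tr (nat_lit 288) [] [] [⟨[nat_lit 278, nat_lit 272, nat_lit 256, nat_lit 279, nat_lit 247, nat_lit 272, nat_lit 272, nat_lit 247, nat_lit 264, nat_lit 265, nat_lit 278, nat_lit 244, nat_lit 278, nat_lit 278], [nat_lit 35, nat_lit 90, nat_lit 38, nat_lit 2, nat_lit 77, nat_lit 76, nat_lit 6, nat_lit 30, nat_lit 43, nat_lit 40], (nat_lit 288)⟩],
  .ss (nat_lit 4) [(nat_lit 290)] [],
  .tr (nat_lit 288) [] [] [⟨[nat_lit 261, nat_lit 266, nat_lit 264, nat_lit 270, nat_lit 268, nat_lit 247, nat_lit 265, nat_lit 244, nat_lit 266, nat_lit 248, nat_lit 269], [nat_lit 87, nat_lit 3, nat_lit 21, nat_lit 1, nat_lit 25, nat_lit 35, nat_lit 12, nat_lit 38, nat_lit 47, nat_lit 24, nat_lit 42, nat_lit 32], (nat_lit 288)⟩],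
  .ss (nat_lit 4) [(nat_lit 292)] [],
  .ss (nat_lit 4) [] [nat_lit 291, nat_lit 293, nat_lit 290, nat_lit 290, nat_lit 290, nat_lit 290, nat_lit 292, nat_lit 291, nat_lit 293, nat_lit 290, nat_lit 291, nat_lit 290, nat_lit 290, nat_lit 291, nat_lit 293, nat_lit 290, nat_lit 292, nat_lit 291, nat_lit 292],
  .ss (nat_lit 4) [(nat_lit 294)] [],
  .ss (nat_lit 4) [] [nat_lit 292, nat_lit 291, nat_lit 292],
  .ss (nat_lit 4) [(nat_lit 296)] [],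
  .tr (nat_lit 288) [] [] [⟨[nat_lit 266, nat_lit 271, nat_lit 278, nat_lit 259, nat_lit 248, nat_lit 260, nat_lit 248, nat_lit 246, nat_lit 259, nat_lit 261, nat_lit 248, nat_lit 273, nat_lit 279, nat_lit 265, nat_lit 273], [nat_lit 101, nat_lit 98, nat_lit 40, nat_lit 1, nat_lit 75, nat_lit 68, nat_lit 80, nat_lit 29, nat_lit 38, nat_lit 39, nat_lit 30], (nat_lit 288)⟩],
  .ss (nat_lit 4) [(nat_lit 298)] [],
  .ss (nat_lit 4) [] [nat_lit 290, nat_lit 298, nat_lit 290, nat_lit 290, nat_lit 295, nat_lit 292, nat_lit 294, nat_lit 298, nat_lit 290, nat_lit 298, nat_lit 295],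
  .ss (nat_lit 4) [(nat_lit 300)] [],
  .cy (nat_lit 1) [] [] [nat_lit 103, nat_lit 23, nat_lit 1, nat_lit 4, nat_lit 12, nat_lit 57, nat_lit 52, nat_lit 28, nat_lit 40, nat_lit 42] (nat_lit 241) [⟨[nat_lit 238, nat_lit 209, nat_lit 218, nat_lit 232, nat_lit 206], [nat_lit 40, nat_lit 32, nat_lit 88, nat_lit 55, nat_lit 17, nat_lit 6, nat_lit 28, nat_lit 50, nat_lit 28, nat_lit 30], (nat_lit 242)⟩, ⟨[nat_lit 244, nat_lit 266, nat_lit 267, nat_lit 278, nat_lit 267, nat_lit 246], [nat_lit 101, nat_lit 9, nat_lit 103, nat_lit 7, nat_lit 69, nat_lit 35, nat_lit 37, nat_lit 12, nat_lit 30, nat_lit 28, nat_lit 39, nat_lit 41], (nat_lit 288)⟩],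
  .cy (nat_lit 0) [] [] [] (nat_lit 302) [],
  .cy (nat_lit 1) [] [] [nat_lit 7, nat_lit 37, nat_lit 32, nat_lit 1, nat_lit 61, nat_lit 30, nat_lit 66, nat_lit 32, nat_lit 48, nat_lit 23, nat_lit 39, nat_lit 25] (nat_lit 241) [⟨[nat_lit 206, nat_lit 223, nat_lit 193, nat_lit 232], [nat_lit 103, nat_lit 98, nat_lit 28, nat_lit 2, nat_lit 23, nat_lit 80, nat_lit 55, nat_lit 12, nat_lit 39, nat_lit 37, nat_lit 39], (nat_lit 242)⟩, ⟨[nat_lit 269, nat_lit 265, nat_lit 278, nat_lit 267, nat_lit 246], [nat_lit 97, nat_lit 103, nat_lit 37, nat_lit 3, nat_lit 4, nat_lit 23, nat_lit 84, nat_lit 44, nat_lit 32, nat_lit 37, nat_lit 39], (nat_lit 288)⟩],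
  .cy (nat_lit 0) [] [] [] (nat_lit 304) [⟨[nat_lit 214, nat_lit 223, nat_lit 207], [nat_lit 87, nat_lit 103, nat_lit 3, nat_lit 74, nat_lit 75, nat_lit 4, nat_lit 25, nat_lit 38, nat_lit 32, nat_lit 30], (nat_lit 303)⟩],
  .ss (nat_lit 4) [(nat_lit 305)] [],
  .ss (nat_lit 4) [] [nat_lit 290, nat_lit 305, nat_lit 301, nat_lit 299, nat_lit 300, nat_lit 300, nat_lit 291, nat_lit 295, nat_lit 298, nat_lit 298, nat_lit 305, nat_lit 294, nat_lit 298],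
  .ss (nat_lit 4) [(nat_lit 307)] []]
noncomputable def P350 : List Pf := [.ss (nat_lit 4) [] [nat_lit 308, nat_lit 295, nat_lit 308, nat_lit 295, nat_lit 308, nat_lit 306, nat_lit 298, nat_lit 305, nat_lit 299, nat_lit 295, nat_lit 293, nat_lit 307, nat_lit 308, nat_lit 299, nat_lit 291, nat_lit 300, nat_lit 306, nat_lit 306, nat_lit 291],
  .ss (nat_lit 4) [(nat_lit 309)] [],
  .ss (nat_lit 4) [] [nat_lit 295, nat_lit 309, nat_lit 308, nat_lit 301, nat_lit 295, nat_lit 307, nat_lit 291, nat_lit 299, nat_lit 305, nat_lit 290, nat_lit 290, nat_lit 292, nat_lit 306, nat_lit 307, nat_lit 291, nat_lit 294, nat_lit 292],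
  .ss (nat_lit 4) [(nat_lit 311)] [],
  .ss (nat_lit 4) [] [nat_lit 293, nat_lit 292, nat_lit 306],
  .ss (nat_lit 4) [(nat_lit 313)] [],
  .ss (nat_lit 4) [] [nat_lit 290, nat_lit 305, nat_lit 314],
  .ss (nat_lit 4) [(nat_lit 315)] [],
  .cy (nat_lit 1) [] [] [nat_lit 97, nat_lit 85, nat_lit 89, nat_lit 2, nat_lit 37, nat_lit 21, nat_lit 74, nat_lit 38, nat_lit 23, nat_lit 30, nat_lit 25] (nat_lit 285) [⟨[nat_lit 248, nat_lit 273, nat_lit 267, nat_lit 278, nat_lit 273, nat_lit 266], [nat_lit 100, nat_lit 87, nat_lit 23, nat_lit 1, nat_lit 32, nat_lit 74, nat_lit 23, nat_lit 12, nat_lit 40, nat_lit 37, nat_lit 24, nat_lit 32, nat_lit 30], (nat_lit 285)⟩, ⟨[nat_lit 267, nat_lit 244, nat_lit 279, nat_lit 270, nat_lit 278, nat_lit 269, nat_lit 246], [nat_lit 87, nat_lit 103, nat_lit 38, nat_lit 1, nat_lit 57, nat_lit 57, nat_lit 35, nat_lit 52, nat_lit 49, nat_lit 8, nat_lit 32,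 nat_lit 30], (nat_lit 285)⟩],
  .cy (nat_lit 1) [] [] [nat_lit 104, nat_lit 40, nat_lit 100, nat_lit 3, nat_lit 73, nat_lit 73, nat_lit 24, nat_lit 8, nat_lit 23, nat_lit 39, nat_lit 25] (nat_lit 289) [⟨[nat_lit 279, nat_lit 279, nat_lit 266, nat_lit 278, nat_lit 244], [nat_lit 98, nat_lit 35, nat_lit 101, nat_lit 2, nat_lit 66, nat_lit 76, nat_lit 55, nat_lit 25, nat_lit 51, nat_lit 28, nat_lit 32, nat_lit 30], (nat_lit 287)⟩, ⟨[nat_lit 248, nat_lit 265, nat_lit 279, nat_lit 266, nat_lit 270, nat_lit 248], [nat_lit 1, nat_lit 85, nat_lit 100, nat_lit 3, nat_lit 57, nat_lit 21, nat_lit 65, nat_lit 23, nat_lit 39, nat_lit 23, nat_lit 42], (nat_lit 288)⟩],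
  .cy (nat_lit 1) [] [] [nat_lit 40, nat_lit 101, nat_lit 98, nat_lit 8, nat_lit 39, nat_lit 73, nat_lit 47, nat_lit 38, nat_lit 25] (nat_lit 289) [⟨[nat_lit 265, nat_lit 265, nat_lit 278, nat_lit 278, nat_lit 248], [nat_lit 35, nat_lit 94, nat_lit 3, nat_lit 54, nat_lit 72, nat_lit 32, nat_lit 12, nat_lit 45, nat_lit 37, nat_lit 24, nat_lit 40, nat_lit 25], (nat_lit 288)⟩, ⟨[nat_lit 315, nat_lit 315, nat_lit 305, nat_lit 296, nat_lit 299, nat_lit 290], [nat_lit 9, nat_lit 103, nat_lit 87, nat_lit 1, nat_lit 77, nat_lit 74, nat_lit 28, nat_lit 47, nat_lit 42, nat_lit 32], (nat_lit 318)⟩],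
  .cy (nat_lit 1) [] [] [nat_lit 102, nat_lit 93, nat_lit 37, nat_lit 92, nat_lit 28, nat_lit 61, nat_lit 83, nat_lit 40, nat_lit 38, nat_lit 41, nat_lit 39] (nat_lit 242) [⟨[nat_lit 269, nat_lit 273, nat_lit 278, nat_lit 269, nat_lit 246], [nat_lit 98, nat_lit 99, nat_lit 23, nat_lit 1, nat_lit 12, nat_lit 76, nat_lit 78, nat_lit 45, nat_lit 30], (nat_lit 285)⟩, ⟨[nat_lit 273, nat_lit 266, nat_lit 248, nat_lit 269, nat_lit 246, nat_lit 278], [nat_lit 3, nat_lit 88, nat_lit 89, nat_lit 1, nat_lit 78, nat_lit 66, nat_lit 12, nat_lit 8, nat_lit 25, nat_lit 38, nat_lit 40, nat_lit 42], (nat_lit 288)⟩],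
  .cy (nat_lit 0) [] [] [] (nat_lit 320) [],
  .cy (nat_lit 1) [] [] [nat_lit 30, nat_lit 25, nat_lit 88, nat_lit 3, nat_lit 68, nat_lit 80, nat_lit 17, nat_lit 39, nat_lit 44, nat_lit 39] (nat_lit 320) [⟨[nat_lit 224, nat_lit 224, nat_lit 238, nat_lit 223, nat_lit 205], [nat_lit 87, nat_lit 96, nat_lit 7, nat_lit 25, nat_lit 81, nat_lit 21, nat_lit 45, nat_lit 40, nat_lit 37, nat_lit 41, nat_lit 30], (nat_lit 242)⟩, ⟨[nat_lit 278, nat_lit 270, nat_lit 279, nat_lit 269, nat_lit 265, nat_lit 265], [nat_lit 21, nat_lit 98, nat_lit 92, nat_lit 7, nat_lit 61, nat_lit 66, nat_lit 66, nat_lit 39, nat_lit 49, nat_lit 39, nat_lit 41], (nat_lit 288)⟩],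
  .df,
  .cy (nat_lit 0) [] [] [] (nat_lit 323) [],
  .tr (nat_lit 323) [] [] [⟨[nat_lit 256, nat_lit 244, nat_lit 246, nat_lit 260, nat_lit 271, nat_lit 266, nat_lit 246, nat_lit 273, nat_lit 248], [nat_lit 23, nat_lit 9, nat_lit 86, nat_lit 80, nat_lit 54, nat_lit 21, nat_lit 8, nat_lit 49, nat_lit 30, nat_lit 25], (nat_lit 323)⟩],
  .ss (nat_lit 5) [(nat_lit 325)] [],
  .tr (nat_lit 323) [] [] [⟨[nat_lit 272, nat_lit 260, nat_lit 279, nat_lit 268, nat_lit 263, nat_lit 246, nat_lit 273, nat_lit 267, nat_lit 244], [nat_lit 38, nat_lit 12, nat_lit 98, nat_lit 72, nat_lit 37, nat_lit 4, nat_lit 38, nat_lit 49, nat_lit 25], (nat_lit 323)⟩],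
  .ss (nat_lit 5) [(nat_lit 327)] [],
  .ss (nat_lit 5) [] [nat_lit 326, nat_lit 327, nat_lit 326, nat_lit 328, nat_lit 328, nat_lit 325, nat_lit 328, nat_lit 326, nat_lit 328],
  .ss (nat_lit 5) [(nat_lit 329)] [],
  .tr (nat_lit 323) [] [] [⟨[nat_lit 265, nat_lit 246, nat_lit 265, nat_lit 274, nat_lit 263, nat_lit 265, nat_lit 271, nat_lit 279, nat_lit 266, nat_lit 279], [nat_lit 99, nat_lit 3, nat_lit 21, nat_lit 9, nat_lit 81, nat_lit 55, nat_lit 72, nat_lit 28, nat_lit 40, nat_lit 23, nat_lit 39, nat_lit 30], (nat_lit 323)⟩],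
  .ss (nat_lit 5) [(nat_lit 331)] [],
  .ss (nat_lit 5) [] [nat_lit 326, nat_lit 332, nat_lit 328, nat_lit 332, nat_lit 331, nat_lit 329, nat_lit 328, nat_lit 331, nat_lit 326, nat_lit 325, nat_lit 325, nat_lit 326, nat_lit 326],
  .ss (nat_lit 5) [(nat_lit 333)] [],
  .ss (nat_lit 5) [] [nat_lit 328, nat_lit 332, nat_lit 326],
  .ss (nat_lit 5) [(nat_lit 335)] [],
  .ss (nat_lit 5) [] [nat_lit 327, nat_lit 336, nat_lit 332],
  .ss (nat_lit 5) [(nat_lit 337)] [],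
  .cy (nat_lit 1) [] [] [nat_lit 92, nat_lit 23, nat_lit 9, nat_lit 7, nat_lit 82, nat_lit 32, nat_lit 80, nat_lit 52, nat_lit 24, nat_lit 40, nat_lit 25] (nat_lit 242) [⟨[nat_lit 248, nat_lit 265, nat_lit 265, nat_lit 244], [nat_lit 17, nat_lit 94, nat_lit 8, nat_lit 87, nat_lit 68, nat_lit 69, nat_lit 21, nat_lit 8, nat_lit 47, nat_lit 32], (nat_lit 285)⟩, ⟨[nat_lit 273, nat_lit 248, nat_lit 278, nat_lit 246, nat_lit 244], [nat_lit 98, nat_lit 30, nat_lit 24, nat_lit 1, nat_lit 56, nat_lit 66, nat_lit 61, nat_lit 50, nat_lit 51, nat_lit 23, nat_lit 32, nat_lit 25], (nat_lit 323)⟩],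
  .cy (nat_lit 0) [] [] [] (nat_lit 339) [],
  .cy (nat_lit 1) [] [] [nat_lit 29, nat_lit 95, nat_lit 9, nat_lit 37, nat_lit 17, nat_lit 67, nat_lit 49, nat_lit 29, nat_lit 8, nat_lit 42, nat_lit 40] (nat_lit 243) [⟨[nat_lit 203, nat_lit 199, nat_lit 193, nat_lit 238, nat_lit 218], [nat_lit 3, nat_lit 29, nat_lit 86, nat_lit 4, nat_lit 83, nat_lit 12, nat_lit 25, nat_lit 37, nat_lit 23, nat_lit 30, nat_lit 25], (nat_lit 242)⟩, ⟨[nat_lit 279, nat_lit 266, nat_lit 267, nat_lit 266], [nat_lit 86, nat_lit 8, nat_lit 39, nat_lit 1, nat_lit 63, nat_lit 55, nat_lit 35, nat_lit 50, nat_lit 46, nat_lit 28, nat_lit 42], (nat_lit 323)⟩],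
  .cy (nat_lit 0) [] [] [] (nat_lit 341) [⟨[nat_lit 278, nat_lit 278, nat_lit 267, nat_lit 269, nat_lit 244], [nat_lit 9, nat_lit 90, nat_lit 24, nat_lit 2, nat_lit 58, nat_lit 69, nat_lit 17, nat_lit 12, nat_lit 48, nat_lit 29, nat_lit 40, nat_lit 42], (nat_lit 323)⟩],
  .ss (nat_lit 5) [(nat_lit 342)] [],
  .ss (nat_lit 5) [] [nat_lit 331, nat_lit 334, nat_lit 343, nat_lit 327, nat_lit 326, nat_lit 332, nat_lit 330, nat_lit 334, nat_lit 326, nat_lit 327, nat_lit 329, nat_lit 333, nat_lit 343, nat_lit 343],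
  .ss (nat_lit 5) [(nat_lit 344)] [],
  .ss (nat_lit 5) [] [nat_lit 344, nat_lit 330, nat_lit 345, nat_lit 333, nat_lit 331, nat_lit 327, nat_lit 326, nat_lit 328, nat_lit 334, nat_lit 330, nat_lit 332, nat_lit 325, nat_lit 343, nat_lit 334],
  .ss (nat_lit 5) [(nat_lit 346)] [],
  .ss (nat_lit 5) [] [nat_lit 344, nat_lit 330, nat_lit 345, nat_lit 334, nat_lit 326, nat_lit 327, nat_lit 342, nat_lit 327, nat_lit 346, nat_lit 333, nat_lit 345, nat_lit 325, nat_lit 333, nat_lit 331],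
  .ss (nat_lit 5) [(nat_lit 348)] []]
noncomputable def P386 : List Pf := [.ss (nat_lit 5) [] [nat_lit 330, nat_lit 334, nat_lit 345, nat_lit 349, nat_lit 326, nat_lit 328, nat_lit 334, nat_lit 349, nat_lit 347, nat_lit 328, nat_lit 331, nat_lit 327, nat_lit 334, nat_lit 347, nat_lit 328, nat_lit 344, nat_lit 331, nat_lit 333],
  .ss (nat_lit 5) [(nat_lit 350)] [],
  .cy (nat_lit 1) [] [] [nat_lit 23, nat_lit 95, nat_lit 32, nat_lit 9, nat_lit 71, nat_lit 81, nat_lit 76, nat_lit 51, nat_lit 40, nat_lit 23, nat_lit 32, nat_lit 30] (nat_lit 324) [⟨[nat_lit 266, nat_lit 270, nat_lit 267, nat_lit 266, nat_lit 278, nat_lit 246], [nat_lit 104, nat_lit 102, nat_lit 40, nat_lit 5, nat_lit 57, nat_lit 28, nat_lit 79, nat_lit 43, nat_lit 52, nat_lit 28, nat_lit 41, nat_lit 39], (nat_lit 287)⟩, ⟨[nat_lit 279, nat_lit 244, nat_lit 278, nat_lit 246, nat_lit 244], [nat_lit 40, nat_lit 98, nat_lit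 1, nat_lit 68, nat_lit 12, nat_lit 82, nat_lit 44, nat_lit 49, nat_lit 24, nat_lit 30, nat_lit 25], (nat_lit 323)⟩],
  .cy (nat_lit 1) [] [] [nat_lit 89, nat_lit 88, nat_lit 65, nat_lit 81, nat_lit 69, nat_lit 23, nat_lit 29, nat_lit 23, nat_lit 39] (nat_lit 147) [⟨[nat_lit 170, nat_lit 165, nat_lit 158, nat_lit 179, nat_lit 151], [nat_lit 12, nat_lit 39, nat_lit 95, nat_lit 57, nat_lit 73, nat_lit 61, nat_lit 12, nat_lit 51, nat_lit 44, nat_lit 40, nat_lit 32], (nat_lit 191)⟩, ⟨[nat_lit 218, nat_lit 232, nat_lit 215, nat_lit 207], [nat_lit 96, nat_lit 40, nat_lit 92, nat_lit 9, nat_lit 66, nat_lit 82, nat_lit 66, nat_lit 47, nat_lit 40, nat_lit 24, nat_lit 32], (nat_lit 340)⟩],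
  .cy (nat_lit 0) [] [] [] (nat_lit 353) [],
  .cy (nat_lit 1) [] [] [nat_lit 28, nat_lit 97, nat_lit 4, nat_lit 3, nat_lit 56, nat_lit 79, nat_lit 82, nat_lit 28, nat_lit 50, nat_lit 24, nat_lit 39, nat_lit 25] (nat_lit 324) [⟨[nat_lit 265, nat_lit 279, nat_lit 269, nat_lit 273, nat_lit 278, nat_lit 265], [nat_lit 89, nat_lit 40, nat_lit 21, nat_lit 3, nat_lit 57, nat_lit 74, nat_lit 53, nat_lit 30, nat_lit 43, nat_lit 42, nat_lit 32], (nat_lit 286)⟩, ⟨[nat_lit 270, nat_lit 267, nat_lit 273, nat_lit 279, nat_lit 279], [nat_lit 93, nat_lit 89, nat_lit 1, nat_lit 24, nat_lit 17, nat_lit 69, nat_lit 48, nat_lit 48, nat_lit 8, nat_lit 40], (nat_lit 288)⟩],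
  .cy (nat_lit 0) [] [] [] (nat_lit 355) [],
  .cy (nat_lit 1) [] [] [nat_lit 102, nat_lit 9, nat_lit 5, nat_lit 38, nat_lit 69, nat_lit 73, nat_lit 45, nat_lit 45, nat_lit 23, nat_lit 25] (nat_lit 339) [⟨[nat_lit 218, nat_lit 208, nat_lit 232, nat_lit 207, nat_lit 195], [nat_lit 92, nat_lit 96, nat_lit 37, nat_lit 86, nat_lit 56, nat_lit 68, nat_lit 4, nat_lit 38, nat_lit 40, nat_lit 32], (nat_lit 239)⟩, ⟨[nat_lit 209, nat_lit 238, nat_lit 199, nat_lit 193], [nat_lit 88, nat_lit 93, nat_lit 29, nat_lit 5, nat_lit 80, nat_lit 68, nat_lit 74, nat_lit 25, nat_lit 51, nat_lit 24, nat_lit 41, nat_lit 30], (nat_lit 340)⟩],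
  .df,
  .cy (nat_lit 0) [] [] [] (nat_lit 358) [],
  .tr (nat_lit 358) [] [] [⟨[nat_lit 297, nat_lit 315, nat_lit 306, nat_lit 299, nat_lit 305, nat_lit 299, nat_lit 292, nat_lit 290], [nat_lit 12, nat_lit 92, nat_lit 3, nat_lit 37, nat_lit 24, nat_lit 69, nat_lit 48, nat_lit 48, nat_lit 24, nat_lit 39, nat_lit 25], (nat_lit 358)⟩],
  .ss (nat_lit 6) [(nat_lit 360)] [],
  .tr (nat_lit 358) [] [] [⟨[nat_lit 315, nat_lit 299, nat_lit 291, nat_lit 290, nat_lit 315, nat_lit 299, nat_lit 306, nat_lit 298, nat_lit 306, nat_lit 290], [nat_lit 23, nat_lit 1, nat_lit 37, nat_lit 1, nat_lit 56, nat_lit 77, nat_lit 80, nat_lit 28, nat_lit 50, nat_lit 28, nat_lit 30], (nat_lit 358)⟩],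
  .ss (nat_lit 6) [(nat_lit 362)] [],
  .ss (nat_lit 6) [] [nat_lit 362, nat_lit 360, nat_lit 360, nat_lit 362, nat_lit 361, nat_lit 362, nat_lit 362, nat_lit 362, nat_lit 361, nat_lit 361, nat_lit 362, nat_lit 362, nat_lit 360, nat_lit 360, nat_lit 363],
  .ss (nat_lit 6) [(nat_lit 364)] [],
  .ss (nat_lit 6) [] [nat_lit 361, nat_lit 362, nat_lit 364, nat_lit 361, nat_lit 364, nat_lit 363, nat_lit 360, nat_lit 360, nat_lit 364, nat_lit 360, nat_lit 362, nat_lit 364, nat_lit 360, nat_lit 363, nat_lit 363, nat_lit 362],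
  .ss (nat_lit 6) [(nat_lit 366)] [],
  .ss (nat_lit 6) [] [nat_lit 363, nat_lit 360, nat_lit 360],
  .ss (nat_lit 6) [] [nat_lit 368, nat_lit 360, nat_lit 360],
  .ss (nat_lit 6) [(nat_lit 369)] [],
  .ss (nat_lit 6) [] [nat_lit 369, nat_lit 368, nat_lit 363],
  .ss (nat_lit 6) [(nat_lit 371)] [],
  .cy (nat_lit 1) [] [] [nat_lit 32, nat_lit 37, nat_lit 5, nat_lit 8, nat_lit 70, nat_lit 29, nat_lit 32, nat_lit 30, nat_lit 25] (nat_lit 318) [⟨[nat_lit 292, nat_lit 306, nat_lit 299, nat_lit 292, nat_lit 306, nat_lit 290], [nat_lit 99, nat_lit 90, nat_lit 5, nat_lit 37, nat_lit 62, nat_lit 58, nat_lit 43, nat_lit 37, nat_lit 42, nat_lit 32], (nat_lit 318)⟩, ⟨[nat_lit 315, nat_lit 305, nat_lit 297], [nat_lit 95, nat_lit 24, nat_lit 98, nat_lit 1, nat_lit 74, nat_lit 35, nat_lit 84, nat_lit 44, nat_lit 52, nat_lit 24, nat_lit 32, nat_lit 25], (nat_lit 358)⟩],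
  .cy (nat_lit 0) [] [] [] (nat_lit 373) [⟨[nat_lit 299, nat_lit 297, nat_lit 315, nat_lit 292], [nat_lit 101, nat_lit 24, nat_lit 9, nat_lit 1, nat_lit 70, nat_lit 62, nat_lit 72, nat_lit 23, nat_lit 48, nat_lit 23, nat_lit 32, nat_lit 25], (nat_lit 358)⟩],
  .ss (nat_lit 6) [(nat_lit 374)] [],
  .ss (nat_lit 6) [] [nat_lit 360, nat_lit 374, nat_lit 361, nat_lit 366, nat_lit 375, nat_lit 363, nat_lit 364, nat_lit 360, nat_lit 362, nat_lit 375, nat_lit 360, nat_lit 361],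
  .ss (nat_lit 6) [(nat_lit 376)] [],
  .ss (nat_lit 6) [] [nat_lit 376, nat_lit 365, nat_lit 377, nat_lit 366, nat_lit 376, nat_lit 365, nat_lit 360, nat_lit 364, nat_lit 375, nat_lit 364, nat_lit 376, nat_lit 365, nat_lit 363, nat_lit 377, nat_lit 377, nat_lit 364, nat_lit 362, nat_lit 376],
  .ss (nat_lit 6) [(nat_lit 378)] [],
  .ss (nat_lit 6) [] [nat_lit 364, nat_lit 366, nat_lit 377, nat_lit 378, nat_lit 376, nat_lit 367, nat_lit 361, nat_lit 362, nat_lit 362, nat_lit 362, nat_lit 360, nat_lit 375, nat_lit 361, nat_lit 362, nat_lit 364],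
  .ss (nat_lit 6) [(nat_lit 380)] [],
  .cy (nat_lit 1) [] [] [nat_lit 21, nat_lit 3, nat_lit 39, nat_lit 2, nat_lit 58, nat_lit 71, nat_lit 21, nat_lit 12, nat_lit 40, nat_lit 43, nat_lit 23, nat_lit 39, nat_lit 25] (nat_lit 359) [⟨[nat_lit 299, nat_lit 291, nat_lit 316, nat_lit 291, nat_lit 292], [nat_lit 4, nat_lit 99, nat_lit 86, nat_lit 69, nat_lit 73, nat_lit 75, nat_lit 24, nat_lit 50, nat_lit 32, nat_lit 30, nat_lit 25], (nat_lit 320)⟩, ⟨[nat_lit 207, nat_lit 238, nat_lit 206, nat_lit 218, nat_lit 208], [nat_lit 40, nat_lit 23, nat_lit 92, nat_lit 2, nat_lit 21, nat_lit 71, nat_lit 62, nat_lit 50, nat_lit 32, nat_lit 38, nat_lit 39, nat_lit 25], (nat_lit 242)⟩],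
  .cy (nat_lit 0) [] [] [] (nat_lit 382) [],
  .cy (nat_lit 1) [] [] [nat_lit 86, nat_lit 37, nat_lit 95, nat_lit 1, nat_lit 63, nat_lit 23, nat_lit 35, nat_lit 47, nat_lit 37, nat_lit 23, nat_lit 30, nat_lit 25] (nat_lit 359) [⟨[nat_lit 290, nat_lit 305, nat_lit 297, nat_lit 306], [nat_lit 97, nat_lit 87, nat_lit 92, nat_lit 65, nat_lit 70, nat_lit 73, nat_lit 28, nat_lit 44, nat_lit 32, nat_lit 25], (nat_lit 318)⟩, ⟨[nat_lit 305, nat_lit 292, nat_lit 305, nat_lit 297], [nat_lit 30, nat_lit 9, nat_lit 92, nat_lit 1, nat_lit 72, nat_lit 70, nat_lit 58, nat_lit 23, nat_lit 29, nat_lit 8], (nat_lit 358)⟩],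
  .df]
noncomputable def P424 : List Pf := [.cy (nat_lit 0) [] [] [] (nat_lit 385) [],
  .cy (nat_lit 1) [] [] [nat_lit 102, nat_lit 88, nat_lit 39, nat_lit 2, nat_lit 78, nat_lit 53, nat_lit 81, nat_lit 28, nat_lit 25, nat_lit 37, nat_lit 39] (nat_lit 386) [⟨[nat_lit 179, nat_lit 153, nat_lit 178, nat_lit 169, nat_lit 149, nat_lit 179], [nat_lit 97, nat_lit 86, nat_lit 86, nat_lit 32, nat_lit 74, nat_lit 58, nat_lit 39, nat_lit 48, nat_lit 8, nat_lit 30], (nat_lit 191)⟩, ⟨[nat_lit 207, nat_lit 232, nat_lit 205, nat_lit 219], [nat_lit 39, nat_lit 86, nat_lit 88, nat_lit 1, nat_lit 69, nat_lit 40, nat_lit 77, nat_lit 12, nat_lit 51, nat_lit 44, nat_lit 23, nat_lit 41, nat_lit 30], (nat_lit 321)⟩, ⟨[nat_lit 305, nat_lit 299, nat_lit 296, nat_lit 316, nat_lit 291], [nat_lit 38, nat_lit 85, nat_lit 30, nat_lit 3, nat_lit 23, nat_lit 66, nat_lit 12, nat_lit 39, nat_lit 23, nat_lit 42,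 nat_lit 25], (nat_lit 358)⟩],
  .tr (nat_lit 386) [] [nat_lit 387] [],
  .tr (nat_lit 385) [nat_lit 387] [] [],
  .df,
  .cy (nat_lit 0) [] [] [] (nat_lit 390) [],
  .tr (nat_lit 390) [] [] [⟨[nat_lit 327, nat_lit 325, nat_lit 343, nat_lit 338], [nat_lit 99, nat_lit 23, nat_lit 92, nat_lit 1, nat_lit 17, nat_lit 81, nat_lit 21, nat_lit 29, nat_lit 40, nat_lit 24, nat_lit 41], (nat_lit 390)⟩],
  .ss (nat_lit 8) [(nat_lit 392)] [],
  .tr (nat_lit 390) [] [] [⟨[nat_lit 331, nat_lit 325, nat_lit 335], [nat_lit 38, nat_lit 87, nat_lit 39, nat_lit 1, nat_lit 35, nat_lit 68, nat_lit 35, nat_lit 30, nat_lit 44, nat_lit 30], (nat_lit 390)⟩],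
  .ss (nat_lit 8) [(nat_lit 394)] [],
  .ss (nat_lit 8) [] [nat_lit 393, nat_lit 395, nat_lit 395, nat_lit 393, nat_lit 393, nat_lit 394, nat_lit 393, nat_lit 395, nat_lit 395, nat_lit 395, nat_lit 392, nat_lit 392, nat_lit 395, nat_lit 395, nat_lit 392, nat_lit 393, nat_lit 392, nat_lit 392, nat_lit 395, nat_lit 395, nat_lit 393, nat_lit 395, nat_lit 393, nat_lit 393, nat_lit 395, nat_lit 395],
  .ss (nat_lit 8) [(nat_lit 396)] [],
  .ss (nat_lit 8) [] [nat_lit 393, nat_lit 393, nat_lit 395, nat_lit 396, nat_lit 393, nat_lit 394, nat_lit 392, nat_lit 392, nat_lit 396, nat_lit 394, nat_lit 394, nat_lit 394, nat_lit 392, nat_lit 394, nat_lit 397, nat_lit 393, nat_lit 396],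
  .ss (nat_lit 8) [(nat_lit 398)] [],
  .ss (nat_lit 8) [] [nat_lit 397, nat_lit 397, nat_lit 399, nat_lit 397, nat_lit 399, nat_lit 396, nat_lit 396, nat_lit 399, nat_lit 396, nat_lit 396, nat_lit 393, nat_lit 394, nat_lit 399, nat_lit 395, nat_lit 396, nat_lit 399, nat_lit 392, nat_lit 398, nat_lit 392, nat_lit 394, nat_lit 392, nat_lit 394, nat_lit 397, nat_lit 393],
  .ss (nat_lit 8) [(nat_lit 400)] [],
  .ss (nat_lit 8) [] [nat_lit 397, nat_lit 397, nat_lit 398, nat_lit 397, nat_lit 400, nat_lit 398, nat_lit 396, nat_lit 393, nat_lit 401, nat_lit 397, nat_lit 394, nat_lit 396, nat_lit 396, nat_lit 394, nat_lit 398, nat_lit 398, nat_lit 401, nat_lit 399, nat_lit 394],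
  .ss (nat_lit 8) [(nat_lit 402)] [],
  .cy (nat_lit 1) [] [] [nat_lit 99, nat_lit 97, nat_lit 37, nat_lit 1, nat_lit 73, nat_lit 58, nat_lit 81, nat_lit 4, nat_lit 8, nat_lit 39, nat_lit 28, nat_lit 41] (nat_lit 391) [⟨[nat_lit 335, nat_lit 342, nat_lit 337, nat_lit 328], [nat_lit 99, nat_lit 87, nat_lit 37, nat_lit 2, nat_lit 84, nat_lit 80, nat_lit 44, nat_lit 38, nat_lit 40, nat_lit 32], (nat_lit 356)⟩, ⟨[nat_lit 316, nat_lit 306, nat_lit 315, nat_lit 292], [nat_lit 100, nat_lit 87, nat_lit 95, nat_lit 68, nat_lit 73, nat_lit 82, nat_lit 52, nat_lit 47, nat_lit 8, nat_lit 42], (nat_lit 358)⟩],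
  .cy (nat_lit 0) [] [] [] (nat_lit 404) [],
  .cy (nat_lit 1) [] [] [nat_lit 35, nat_lit 29, nat_lit 7, nat_lit 24, nat_lit 58, nat_lit 6, nat_lit 43, nat_lit 46, nat_lit 42, nat_lit 25] (nat_lit 391) [⟨[nat_lit 337, nat_lit 343, nat_lit 336, nat_lit 331, nat_lit 331], [nat_lit 39, nat_lit 103, nat_lit 94, nat_lit 70, nat_lit 57, nat_lit 83, nat_lit 48, nat_lit 48, nat_lit 8, nat_lit 30, nat_lit 25], (nat_lit 356)⟩, ⟨[nat_lit 305, nat_lit 291, nat_lit 299, nat_lit 315], [nat_lit 96, nat_lit 97, nat_lit 102, nat_lit 2, nat_lit 70, nat_lit 63, nat_lit 35, nat_lit 44, nat_lit 49, nat_lit 8, nat_lit 42, nat_lit 25], (nat_lit 355)⟩, ⟨[], [nat_lit 1, nat_lit 37, nat_lit 92, nat_lit 77, nat_lit 54, nat_lit 62, nat_lit 29, nat_lit 51, nat_lit 29, nat_lit 40], (nat_lit 390)⟩],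
  .ss (nat_lit 8) [(nat_lit 406)] [],
  .ss (nat_lit 8) [] [nat_lit 396, nat_lit 396, nat_lit 398, nat_lit 402, nat_lit 399, nat_lit 400, nat_lit 393, nat_lit 394, nat_lit 400, nat_lit 394, nat_lit 399, nat_lit 401, nat_lit 407, nat_lit 399, nat_lit 399, nat_lit 395, nat_lit 407, nat_lit 392],
  .ss (nat_lit 8) [(nat_lit 408)] [],
  .ss (nat_lit 8) [] [nat_lit 400, nat_lit 409, nat_lit 400, nat_lit 403, nat_lit 397, nat_lit 403, nat_lit 401, nat_lit 396, nat_lit 409, nat_lit 399, nat_lit 395, nat_lit 406, nat_lit 399, nat_lit 408, nat_lit 399, nat_lit 397, nat_lit 403, nat_lit 397, nat_lit 402, nat_lit 393, nat_lit 395],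
  .ss (nat_lit 8) [(nat_lit 410)] [],
  .ss (nat_lit 8) [] [nat_lit 409, nat_lit 409, nat_lit 410, nat_lit 400, nat_lit 402, nat_lit 397, nat_lit 409, nat_lit 400, nat_lit 411, nat_lit 399, nat_lit 393, nat_lit 406, nat_lit 394, nat_lit 397, nat_lit 403, nat_lit 396, nat_lit 403, nat_lit 407],
  .ss (nat_lit 8) [(nat_lit 412)] [],
  .ss (nat_lit 8) [] [nat_lit 412, nat_lit 402, nat_lit 409, nat_lit 392, nat_lit 410, nat_lit 393, nat_lit 392, nat_lit 411, nat_lit 393, nat_lit 413, nat_lit 408, nat_lit 403],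
  .ss (nat_lit 8) [(nat_lit 414)] [],
  .ss (nat_lit 8) [] [nat_lit 412, nat_lit 410, nat_lit 400, nat_lit 403, nat_lit 411, nat_lit 415, nat_lit 397, nat_lit 415, nat_lit 401, nat_lit 415, nat_lit 395, nat_lit 415, nat_lit 396, nat_lit 403, nat_lit 415, nat_lit 412, nat_lit 395, nat_lit 399, nat_lit 402, nat_lit 401, nat_lit 394, nat_lit 407, nat_lit 395],
  .cy (nat_lit 1) [] [] [nat_lit 89, nat_lit 9, nat_lit 92, nat_lit 24, nat_lit 68, nat_lit 72, nat_lit 50, nat_lit 28, nat_lit 23, nat_lit 39, nat_lit 41] (nat_lit 405) [⟨[nat_lit 370, nat_lit 375, nat_lit 372, nat_lit 374, nat_lit 369], [nat_lit 40, nat_lit 88, nat_lit 95, nat_lit 2, nat_lit 55, nat_lit 68, nat_lit 72, nat_lit 46, nat_lit 41, nat_lit 30], (nat_lit 384)⟩, ⟨[nat_lit 374, nat_lit 362, nat_lit 374], [nat_lit 94, nat_lit 87, nat_lit 4, nat_lit 3, nat_lit 37, nat_lit 79, nat_lit 12, nat_lit 43, nat_lit 40, nat_lit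 38, nat_lit 32, nat_lit 30, nat_lit 25], (nat_lit 404)⟩],
  .df,
  .cy (nat_lit 0) [] [] [] (nat_lit 418) [],
  .cy (nat_lit 1) [] [] [nat_lit 92, nat_lit 88, nat_lit 32, nat_lit 3, nat_lit 71, nat_lit 59, nat_lit 12, nat_lit 23, nat_lit 39, nat_lit 23, nat_lit 32, nat_lit 25] (nat_lit 419) [⟨[nat_lit 338, nat_lit 336, nat_lit 331, nat_lit 343, nat_lit 336], [nat_lit 21, nat_lit 3, nat_lit 40, nat_lit 3, nat_lit 68, nat_lit 81, nat_lit 66, nat_lit 47, nat_lit 8, nat_lit 24, nat_lit 39, nat_lit 30], (nat_lit 352)⟩, ⟨[nat_lit 337, nat_lit 328, nat_lit 331, nat_lit 343, nat_lit 327], [nat_lit 5, nat_lit 96, nat_lit 92, nat_lit 21, nat_lit 58, nat_lit 65, nat_lit 28, nat_lit 28, nat_lit 40, nat_lit 32], (nat_lit 352)⟩, ⟨[nat_lit 335, nat_lit 328, nat_lit 343, nat_lit 335, nat_lit 335], [nat_lit 24, nat_lit 98, nat_lit 28, nat_lit 3, nat_lit 82, nat_lit 58, nat_lit 4, nat_lit 50, nat_lit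 47, nat_lit 40, nat_lit 32], (nat_lit 352)⟩],
  .tr (nat_lit 418) [nat_lit 420] [] [],
  .ss (nat_lit 8) [] [nat_lit 409, nat_lit 395, nat_lit 410, nat_lit 392, nat_lit 401, nat_lit 411, nat_lit 402, nat_lit 400, nat_lit 396, nat_lit 408, nat_lit 408, nat_lit 403, nat_lit 401, nat_lit 410, nat_lit 414],
  .ss (nat_lit 8) [] [nat_lit 407, nat_lit 392, nat_lit 406, nat_lit 393, nat_lit 402, nat_lit 411, nat_lit 397, nat_lit 401, nat_lit 399, nat_lit 414, nat_lit 408, nat_lit 402, nat_lit 400, nat_lit 414, nat_lit 410, nat_lit 414]]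
noncomputable def P479 : List Pf := [.ss (nat_lit 8) [] [nat_lit 408, nat_lit 407, nat_lit 407, nat_lit 395, nat_lit 400, nat_lit 412, nat_lit 400, nat_lit 398, nat_lit 396, nat_lit 401, nat_lit 409, nat_lit 413, nat_lit 410, nat_lit 400, nat_lit 413, nat_lit 410],
  .ss (nat_lit 8) [] [nat_lit 393, nat_lit 395, nat_lit 392, nat_lit 392, nat_lit 409, nat_lit 416, nat_lit 397, nat_lit 410, nat_lit 398, nat_lit 402, nat_lit 413, nat_lit 409, nat_lit 400, nat_lit 410, nat_lit 410, nat_lit 416],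
  .ss (nat_lit 8) [] [nat_lit 401, nat_lit 394, nat_lit 411, nat_lit 392, nat_lit 413, nat_lit 411, nat_lit 401, nat_lit 396, nat_lit 414, nat_lit 408, nat_lit 411, nat_lit 401, nat_lit 410, nat_lit 410, nat_lit 416],
  .ss (nat_lit 8) [] [nat_lit 411, nat_lit 395, nat_lit 397, nat_lit 392, nat_lit 408, nat_lit 397, nat_lit 402, nat_lit 396, nat_lit 402, nat_lit 401, nat_lit 410, nat_lit 402, nat_lit 400, nat_lit 411, nat_lit 412, nat_lit 411, nat_lit 416],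
  .ss (nat_lit 8) [] [nat_lit 392, nat_lit 414, nat_lit 401, nat_lit 392, nat_lit 392, nat_lit 413, nat_lit 399, nat_lit 400, nat_lit 396, nat_lit 396, nat_lit 414, nat_lit 408, nat_lit 408, nat_lit 410, nat_lit 416],
  .ss (nat_lit 8) [] [nat_lit 394, nat_lit 406, nat_lit 398, nat_lit 407, nat_lit 410, nat_lit 416, nat_lit 403, nat_lit 396, nat_lit 400, nat_lit 414, nat_lit 401, nat_lit 412, nat_lit 410, nat_lit 410, nat_lit 416],
  .ss (nat_lit 8) [] [nat_lit 392, nat_lit 410, nat_lit 393, nat_lit 396, nat_lit 398, nat_lit 401, nat_lit 399, nat_lit 397, nat_lit 413, nat_lit 408, nat_lit 400, nat_lit 408, nat_lit 400, nat_lit 412, nat_lit 411, nat_lit 416, nat_lit 414],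
  .ss (nat_lit 1) [] [nat_lit 188, nat_lit 149, nat_lit 149, nat_lit 149, nat_lit 151, nat_lit 189],
  .ss (nat_lit 1) [] [nat_lit 182, nat_lit 181, nat_lit 149, nat_lit 149, nat_lit 186, nat_lit 167, nat_lit 154, nat_lit 189, nat_lit 183, nat_lit 189],
  .ss (nat_lit 1) [] [nat_lit 187, nat_lit 168, nat_lit 149, nat_lit 149, nat_lit 167, nat_lit 187, nat_lit 151, nat_lit 186, nat_lit 186],
  .ss (nat_lit 1) [] [nat_lit 185, nat_lit 180, nat_lit 150, nat_lit 150, nat_lit 154, nat_lit 181, nat_lit 151, nat_lit 184],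
  .ss (nat_lit 1) [] [nat_lit 182, nat_lit 149, nat_lit 149, nat_lit 149, nat_lit 151, nat_lit 183],
  .ss (nat_lit 1) [] [nat_lit 150, nat_lit 163, nat_lit 165, nat_lit 149, nat_lit 186, nat_lit 188, nat_lit 160, nat_lit 167, nat_lit 183, nat_lit 186, nat_lit 189],
  .ss (nat_lit 1) [] [nat_lit 180, nat_lit 187, nat_lit 149, nat_lit 149, nat_lit 186, nat_lit 154, nat_lit 167, nat_lit 151, nat_lit 189, nat_lit 186, nat_lit 184, nat_lit 188],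
  .ss (nat_lit 1) [] [nat_lit 165, nat_lit 149, nat_lit 167, nat_lit 163, nat_lit 184, nat_lit 167, nat_lit 186, nat_lit 154, nat_lit 186, nat_lit 182, nat_lit 156],
  .ss (nat_lit 1) [] [nat_lit 150, nat_lit 168, nat_lit 178, nat_lit 150, nat_lit 167, nat_lit 188, nat_lit 187, nat_lit 168, nat_lit 189, nat_lit 186, nat_lit 189],
  .ss (nat_lit 6) [] [nat_lit 363, nat_lit 379, nat_lit 360, nat_lit 375, nat_lit 364, nat_lit 381, nat_lit 367, nat_lit 376, nat_lit 364, nat_lit 381, nat_lit 378, nat_lit 381, nat_lit 378, nat_lit 378],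
  .ss (nat_lit 6) [] [nat_lit 377, nat_lit 367, nat_lit 363, nat_lit 361, nat_lit 378, nat_lit 376, nat_lit 367, nat_lit 376, nat_lit 365, nat_lit 381, nat_lit 378, nat_lit 378, nat_lit 381],
  .ss (nat_lit 6) [] [nat_lit 366, nat_lit 364, nat_lit 363, nat_lit 361, nat_lit 376, nat_lit 366, nat_lit 378, nat_lit 376, nat_lit 379, nat_lit 380, nat_lit 378, nat_lit 378, nat_lit 380, nat_lit 378, nat_lit 380, nat_lit 379],
  .ss (nat_lit 6) [] [nat_lit 367, nat_lit 363, nat_lit 377, nat_lit 375, nat_lit 366, nat_lit 376, nat_lit 381, nat_lit 379, nat_lit 380, nat_lit 378, nat_lit 381, nat_lit 378, nat_lit 378],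
  .ss (nat_lit 6) [] [nat_lit 376, nat_lit 361, nat_lit 380, nat_lit 375, nat_lit 360, nat_lit 366, nat_lit 365, nat_lit 381, nat_lit 377, nat_lit 379, nat_lit 380, nat_lit 379, nat_lit 381, nat_lit 378, nat_lit 378],
  .ss (nat_lit 6) [] [nat_lit 366, nat_lit 366, nat_lit 360, nat_lit 362, nat_lit 367, nat_lit 365, nat_lit 378, nat_lit 367, nat_lit 379, nat_lit 380, nat_lit 378, nat_lit 378],
  .ss (nat_lit 6) [] [nat_lit 375, nat_lit 362, nat_lit 375, nat_lit 361, nat_lit 377, nat_lit 380, nat_lit 367, nat_lit 377, nat_lit 367, nat_lit 364, nat_lit 381],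
  .ss (nat_lit 6) [] [nat_lit 374, nat_lit 362, nat_lit 379, nat_lit 365, nat_lit 360, nat_lit 376, nat_lit 381, nat_lit 366, nat_lit 366, nat_lit 378, nat_lit 380, nat_lit 379, nat_lit 380, nat_lit 380, nat_lit 379],
  .ss (nat_lit 6) [] [nat_lit 360, nat_lit 379, nat_lit 375, nat_lit 362, nat_lit 379, nat_lit 377, nat_lit 364, nat_lit 379, nat_lit 366, nat_lit 381, nat_lit 379],
  .ss (nat_lit 3) [] [nat_lit 279, nat_lit 250, nat_lit 248, nat_lit 279, nat_lit 250, nat_lit 281, nat_lit 282, nat_lit 250, nat_lit 284, nat_lit 282, nat_lit 282],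
  .ss (nat_lit 3) [] [nat_lit 282, nat_lit 248, nat_lit 280, nat_lit 246, nat_lit 284, nat_lit 250, nat_lit 280, nat_lit 280, nat_lit 280, nat_lit 282],
  .ss (nat_lit 3) [] [nat_lit 246, nat_lit 279, nat_lit 282, nat_lit 244, nat_lit 250, nat_lit 281, nat_lit 250, nat_lit 281, nat_lit 250, nat_lit 282],
  .ss (nat_lit 3) [] [nat_lit 248, nat_lit 254, nat_lit 279, nat_lit 244, nat_lit 281, nat_lit 255, nat_lit 281, nat_lit 282, nat_lit 280, nat_lit 282, nat_lit 282],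
  .ss (nat_lit 3) [] [nat_lit 282, nat_lit 244, nat_lit 248, nat_lit 244, nat_lit 255, nat_lit 280, nat_lit 255, nat_lit 282, nat_lit 280, nat_lit 284, nat_lit 282, nat_lit 282],
  .ss (nat_lit 3) [] [nat_lit 283, nat_lit 246, nat_lit 252, nat_lit 246, nat_lit 284, nat_lit 250, nat_lit 282, nat_lit 282, nat_lit 250, nat_lit 284, nat_lit 282, nat_lit 282],
  .ss (nat_lit 3) [] [nat_lit 280, nat_lit 279, nat_lit 254, nat_lit 246, nat_lit 282, nat_lit 282, nat_lit 280, nat_lit 250, nat_lit 283, nat_lit 250, nat_lit 284, nat_lit 282, nat_lit 282],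
  .ss (nat_lit 3) [] [nat_lit 248, nat_lit 280, nat_lit 284, nat_lit 244, nat_lit 281, nat_lit 281, nat_lit 254, nat_lit 283, nat_lit 250, nat_lit 284, nat_lit 283],
  .ss (nat_lit 3) [] [nat_lit 283, nat_lit 252, nat_lit 246, nat_lit 252, nat_lit 281, nat_lit 283, nat_lit 281, nat_lit 250, nat_lit 284],
  .ss (nat_lit 5) [] [nat_lit 334, nat_lit 331, nat_lit 325, nat_lit 348, nat_lit 327, nat_lit 345, nat_lit 345, nat_lit 333, nat_lit 347, nat_lit 350, nat_lit 348],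
  .ss (nat_lit 5) [] [nat_lit 344, nat_lit 328, nat_lit 333, nat_lit 350, nat_lit 327, nat_lit 334, nat_lit 350, nat_lit 333, nat_lit 350, nat_lit 347],
  .ss (nat_lit 5) [] [nat_lit 334, nat_lit 351, nat_lit 346, nat_lit 327, nat_lit 333, nat_lit 329, nat_lit 345, nat_lit 348, nat_lit 350, nat_lit 346, nat_lit 348, nat_lit 347],
  .ss (nat_lit 5) [] [nat_lit 350, nat_lit 343, nat_lit 345, nat_lit 343, nat_lit 329, nat_lit 348, nat_lit 351, nat_lit 333, nat_lit 351, nat_lit 346, nat_lit 350],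
  .ss (nat_lit 5) [] [nat_lit 347, nat_lit 327, nat_lit 329, nat_lit 342, nat_lit 325, nat_lit 334, nat_lit 347, nat_lit 344, nat_lit 329, nat_lit 347, nat_lit 351, nat_lit 347],
  .ss (nat_lit 5) [] [nat_lit 348, nat_lit 346, nat_lit 332, nat_lit 332, nat_lit 333, nat_lit 344, nat_lit 344, nat_lit 329, nat_lit 348, nat_lit 350, nat_lit 346, nat_lit 348, nat_lit 346],
  .ss (nat_lit 5) [] [nat_lit 346, nat_lit 344, nat_lit 332, nat_lit 333, nat_lit 325, nat_lit 348, nat_lit 350, nat_lit 344, nat_lit 333, nat_lit 350, nat_lit 346, nat_lit 351],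
  .ss (nat_lit 2) [] [nat_lit 223, nat_lit 210, nat_lit 223, nat_lit 225, nat_lit 220, nat_lit 210],
  .ss (nat_lit 2) [] [nat_lit 203, nat_lit 195],
  .ss (nat_lit 2) [] [nat_lit 199, nat_lit 195, nat_lit 193],
  .ss (nat_lit 2) [] [nat_lit 218, nat_lit 229, nat_lit 199, nat_lit 233, nat_lit 230, nat_lit 220, nat_lit 235],
  .ss (nat_lit 2) [] [nat_lit 220, nat_lit 203, nat_lit 195, nat_lit 220],
  .ss (nat_lit 2) [] [nat_lit 237, nat_lit 216, nat_lit 234, nat_lit 205, nat_lit 235, nat_lit 228, nat_lit 220, nat_lit 234, nat_lit 237],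
  .ss (nat_lit 2) [] [nat_lit 234, nat_lit 234, nat_lit 230, nat_lit 207, nat_lit 235, nat_lit 216, nat_lit 235, nat_lit 225, nat_lit 237],
  .ss (nat_lit 4) [] [nat_lit 298, nat_lit 298, nat_lit 308, nat_lit 308, nat_lit 310, nat_lit 307, nat_lit 294, nat_lit 312, nat_lit 310],
  .ss (nat_lit 4) [] [nat_lit 309, nat_lit 305, nat_lit 305, nat_lit 305, nat_lit 310],
  .ss (nat_lit 4) [] [nat_lit 300, nat_lit 308, nat_lit 298, nat_lit 298, nat_lit 294, nat_lit 312, nat_lit 301, nat_lit 312, nat_lit 309],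
  .ss (nat_lit 4) [] [nat_lit 308, nat_lit 306, nat_lit 308, nat_lit 306, nat_lit 300, nat_lit 312, nat_lit 310, nat_lit 301, nat_lit 294, nat_lit 310, nat_lit 311],
  .ss (nat_lit 4) [] [nat_lit 292, nat_lit 299, nat_lit 308, nat_lit 290, nat_lit 301, nat_lit 311, nat_lit 307, nat_lit 312, nat_lit 294],
  .ss (nat_lit 4) [] [nat_lit 294, nat_lit 292, nat_lit 309, nat_lit 291, nat_lit 299, nat_lit 312, nat_lit 294, nat_lit 309, nat_lit 307, nat_lit 294, nat_lit 309],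
  .ss (nat_lit 4) [] [nat_lit 291, nat_lit 307, nat_lit 310, nat_lit 298, nat_lit 290, nat_lit 309, nat_lit 294, nat_lit 312, nat_lit 310, nat_lit 294, nat_lit 311, nat_lit 310]]
noncomputable def PL : List ℕ := [nat_lit 0, nat_lit 1, nat_lit 2, nat_lit 3, nat_lit 4, nat_lit 5, nat_lit 6, nat_lit 8]
noncomputable def aL : List (List ℕ) := [[nat_lit 14080, nat_lit 370656, nat_lit 0, nat_lit 0, nat_lit 0, nat_lit 28160, nat_lit 0, nat_lit 0],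
  [nat_lit 136, nat_lit 45696, nat_lit 275400, nat_lit 91392, nat_lit 0, nat_lit 0, nat_lit 272, nat_lit 0],
  [nat_lit 0, nat_lit 5280, nat_lit 143616, nat_lit 236544, nat_lit 21824, nat_lit 5632, nat_lit 0, nat_lit 0],
  [nat_lit 0, nat_lit 462, nat_lit 62370, nat_lit 271832, nat_lit 62370, nat_lit 15400, nat_lit 462, nat_lit 0],
  [nat_lit 0, nat_lit 0, nat_lit 21824, nat_lit 236544, nat_lit 143616, nat_lit 5632, nat_lit 5280, nat_lit 0],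
  [nat_lit 1, nat_lit 0, nat_lit 28431, nat_lit 294840, nat_lit 28431, nat_lit 61192, nat_lit 0, nat_lit 1],
  [nat_lit 0, nat_lit 272, nat_lit 0, nat_lit 91392, nat_lit 275400, nat_lit 0, nat_lit 45696, nat_lit 136],
  [nat_lit 0, nat_lit 0, nat_lit 0, nat_lit 0, nat_lit 0, nat_lit 28160, nat_lit 370656, nat_lit 14080]]
noncomputable def V : List (List ℕ) := [[],
  [nat_lit 5, nat_lit 1, nat_lit 7, nat_lit 3, nat_lit 1, nat_lit 2, nat_lit 3, nat_lit 4, nat_lit 5, nat_lit 8, nat_lit 7, nat_lit 3, nat_lit 2, nat_lit 4, nat_lit 3, nat_lit 5, nat_lit 4, nat_lit 7, nat_lit 3, nat_lit 6, nat_lit 5, nat_lit 4, nat_lit 3, nat_lit 2, nat_lit 1, nat_lit 0, nat_lit 7, nat_lit 3, nat_lit 8, nat_lit 7, nat_lit 9, nat_lit 6, nat_lit 5, nat_lit 4, nat_lit 3, nat_lit 2, nat_lit 1, nat_lit 7, nat_lit 3, nat_lit 2, nat_lit 4, nat_lit 8, nat_lit 7, nat_lit 3, nat_lit 2, nat_lit 4, nat_lit 5, nat_lit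 6, nat_lit 9],
  [nat_lit 3, nat_lit 2, nat_lit 3, nat_lit 7, nat_lit 3, nat_lit 2, nat_lit 1, nat_lit 5, nat_lit 4, nat_lit 3, nat_lit 2, nat_lit 1, nat_lit 7, nat_lit 3, nat_lit 4, nat_lit 0, nat_lit 1, nat_lit 2, nat_lit 3, nat_lit 8, nat_lit 7, nat_lit 3, nat_lit 2, nat_lit 1, nat_lit 6, nat_lit 5, nat_lit 4, nat_lit 3, nat_lit 2, nat_lit 1, nat_lit 7, nat_lit 8, nat_lit 9, nat_lit 6, nat_lit 5, nat_lit 4, nat_lit 3, nat_lit 2, nat_lit 1, nat_lit 0, nat_lit 7, nat_lit 3, nat_lit 2, nat_lit 1, nat_lit 4, nat_lit 5, nat_lit 8, nat_lit 7, nat_lit 3, nat_lit 2, nat_lit 1, nat_lit 4, nat_lit 3, nat_lit 2, nat_lit 5, nat_lit 7],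
  [nat_lit 8, nat_lit 3, nat_lit 2, nat_lit 4, nat_lit 3, nat_lit 7, nat_lit 3, nat_lit 5, nat_lit 4, nat_lit 3, nat_lit 2, nat_lit 7, nat_lit 3, nat_lit 4, nat_lit 5, nat_lit 1, nat_lit 2, nat_lit 0, nat_lit 1, nat_lit 8, nat_lit 7, nat_lit 3, nat_lit 2, nat_lit 1, nat_lit 0, nat_lit 4, nat_lit 3, nat_lit 2, nat_lit 1, nat_lit 5, nat_lit 7, nat_lit 3, nat_lit 4, nat_lit 5, nat_lit 8, nat_lit 6, nat_lit 5, nat_lit 4, nat_lit 3, nat_lit 2, nat_lit 1, nat_lit 7, nat_lit 3, nat_lit 4, nat_lit 5, nat_lit 6, nat_lit 9, nat_lit 6, nat_lit 5, nat_lit 4, nat_lit 3, nat_lit 2, nat_lit 1, nat_lit 0, nat_lit 7, nat_lit 3, nat_lit 2, nat_lit 1, nat_lit 4, nat_lit 3, nat_lit 5, nat_lit 8, nat_lit 7, nat_lit 3, nat_lit 2, nat_lit 1, nat_lit 4, nat_lit 3, nat_lit 2, nat_lit 5, nat_lit 4, nat_lit 6, nat_lit 5, nat_lit 7, nat_lit 3, nat_lit 2, nat_lit 8, nat_lit 7, nat_lit 3, nat_lit 4, nat_lit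 5],
  [nat_lit 3, nat_lit 4, nat_lit 3, nat_lit 7, nat_lit 8, nat_lit 7, nat_lit 6, nat_lit 5, nat_lit 2, nat_lit 3, nat_lit 4, nat_lit 1, nat_lit 2, nat_lit 3, nat_lit 7, nat_lit 0, nat_lit 1, nat_lit 2, nat_lit 3, nat_lit 4, nat_lit 5, nat_lit 6, nat_lit 9, nat_lit 4, nat_lit 1, nat_lit 2, nat_lit 3, nat_lit 7, nat_lit 4, nat_lit 5, nat_lit 6, nat_lit 3, nat_lit 4, nat_lit 5, nat_lit 2, nat_lit 3, nat_lit 4, nat_lit 1, nat_lit 2, nat_lit 3, nat_lit 7, nat_lit 8, nat_lit 5, nat_lit 2, nat_lit 3, nat_lit 4, nat_lit 1, nat_lit 2, nat_lit 3, nat_lit 7, nat_lit 0, nat_lit 1, nat_lit 2, nat_lit 3, nat_lit 4, nat_lit 5, nat_lit 6, nat_lit 8, nat_lit 5, nat_lit 4, nat_lit 2, nat_lit 3, nat_lit 7, nat_lit 3, nat_lit 4, nat_lit 5, nat_lit 2, nat_lit 3, nat_lit 4, nat_lit 1, nat_lit 2, nat_lit 3, nat_lit 7, nat_lit 8, nat_lit 4, nat_lit 3, nat_lit 2, nat_lit 1, nat_lit 0, nat_lit 3, nat_lit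 2, nat_lit 1, nat_lit 7, nat_lit 3, nat_lit 4, nat_lit 5, nat_lit 3, nat_lit 2, nat_lit 3],
  [nat_lit 2, nat_lit 3, nat_lit 7, nat_lit 1, nat_lit 5, nat_lit 4, nat_lit 3, nat_lit 2, nat_lit 1, nat_lit 7, nat_lit 3, nat_lit 2, nat_lit 4, nat_lit 3, nat_lit 0, nat_lit 1, nat_lit 2, nat_lit 3, nat_lit 4, nat_lit 5, nat_lit 8, nat_lit 7, nat_lit 3, nat_lit 2, nat_lit 1, nat_lit 6, nat_lit 5, nat_lit 4, nat_lit 3, nat_lit 2, nat_lit 1, nat_lit 0, nat_lit 7, nat_lit 3, nat_lit 2, nat_lit 4, nat_lit 3, nat_lit 5, nat_lit 4, nat_lit 6, nat_lit 8, nat_lit 7, nat_lit 9, nat_lit 6, nat_lit 5, nat_lit 4, nat_lit 3, nat_lit 2, nat_lit 1, nat_lit 0, nat_lit 7, nat_lit 3, nat_lit 2, nat_lit 1, nat_lit 4, nat_lit 3, nat_lit 5, nat_lit 7, nat_lit 8, nat_lit 7, nat_lit 3, nat_lit 2, nat_lit 1, nat_lit 4, nat_lit 3, nat_lit 2, nat_lit 5, nat_lit 4, nat_lit 6, nat_lit 5, nat_lit 7, nat_lit 3, nat_lit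 4, nat_lit 8, nat_lit 7, nat_lit 3, nat_lit 2, nat_lit 1, nat_lit 9, nat_lit 6],
  [nat_lit 3, nat_lit 7, nat_lit 5, nat_lit 4, nat_lit 3, nat_lit 1, nat_lit 2, nat_lit 3, nat_lit 4, nat_lit 5, nat_lit 7, nat_lit 3, nat_lit 2, nat_lit 1, nat_lit 4, nat_lit 8, nat_lit 7, nat_lit 3, nat_lit 2, nat_lit 1, nat_lit 4, nat_lit 3, nat_lit 2, nat_lit 7, nat_lit 3, nat_lit 8, nat_lit 7, nat_lit 6, nat_lit 5, nat_lit 4, nat_lit 3, nat_lit 2, nat_lit 1, nat_lit 0, nat_lit 7, nat_lit 3, nat_lit 2, nat_lit 1, nat_lit 4, nat_lit 3, nat_lit 5, nat_lit 4, nat_lit 6, nat_lit 8, nat_lit 7, nat_lit 3, nat_lit 2, nat_lit 1, nat_lit 4, nat_lit 3, nat_lit 5, nat_lit 4, nat_lit 6, nat_lit 5, nat_lit 7, nat_lit 3, nat_lit 2, nat_lit 4, nat_lit 8, nat_lit 9, nat_lit 6, nat_lit 5, nat_lit 4, nat_lit 3, nat_lit 2, nat_lit 1, nat_lit 0, nat_lit 7, nat_lit 3, nat_lit 2, nat_lit 1, nat_lit 4, nat_lit 3, nat_lit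 2, nat_lit 5, nat_lit 4, nat_lit 7, nat_lit 8, nat_lit 7, nat_lit 3, nat_lit 2, nat_lit 1, nat_lit 4, nat_lit 3, nat_lit 2, nat_lit 5, nat_lit 6, nat_lit 7, nat_lit 8],
  [],
  [nat_lit 3, nat_lit 7, nat_lit 3, nat_lit 2, nat_lit 1, nat_lit 2, nat_lit 5, nat_lit 4, nat_lit 3, nat_lit 2, nat_lit 1, nat_lit 7, nat_lit 3, nat_lit 0, nat_lit 1, nat_lit 2, nat_lit 3, nat_lit 4, nat_lit 5, nat_lit 7, nat_lit 3, nat_lit 2, nat_lit 1, nat_lit 4, nat_lit 3, nat_lit 7, nat_lit 8, nat_lit 7, nat_lit 3, nat_lit 2, nat_lit 1, nat_lit 0, nat_lit 4, nat_lit 3, nat_lit 2, nat_lit 1, nat_lit 5, nat_lit 4, nat_lit 7, nat_lit 3, nat_lit 2, nat_lit 1, nat_lit 8, nat_lit 7, nat_lit 3, nat_lit 2, nat_lit 6, nat_lit 5, nat_lit 4, nat_lit 3, nat_lit 2, nat_lit 1, nat_lit 0, nat_lit 7, nat_lit 3, nat_lit 2, nat_lit 1, nat_lit 4, nat_lit 3, nat_lit 2, nat_lit 5, nat_lit 7, nat_lit 8, nat_lit 7, nat_lit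 3, nat_lit 2, nat_lit 1, nat_lit 4, nat_lit 3, nat_lit 2, nat_lit 5, nat_lit 4, nat_lit 6, nat_lit 7, nat_lit 3, nat_lit 4, nat_lit 5, nat_lit 8, nat_lit 7, nat_lit 3, nat_lit 9, nat_lit 6]]
noncomputable def S0 : List (ℕ × List ℕ) := [((nat_lit 105), [nat_lit 0]), ((nat_lit 107), [nat_lit 1]), ((nat_lit 109), [nat_lit 2]), ((nat_lit 111), [nat_lit 3]), ((nat_lit 115), [nat_lit 4]), ((nat_lit 119), [nat_lit 5]), ((nat_lit 129), [nat_lit 6]), ((nat_lit 141), [nat_lit 7]), ((nat_lit 145), [nat_lit 8])]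
noncomputable def S1 : List (ℕ × List ℕ) := [((nat_lit 431), [nat_lit 3]), ((nat_lit 432), [nat_lit 4]), ((nat_lit 433), [nat_lit 5]), ((nat_lit 434), [nat_lit 6]), ((nat_lit 435), [nat_lit 9]), ((nat_lit 436), [nat_lit 2]), ((nat_lit 437), [nat_lit 1]), ((nat_lit 438), [nat_lit 7]), ((nat_lit 439), [nat_lit 1, nat_lit 4, nat_lit 5, nat_lit 3, nat_lit 4, nat_lit 2, nat_lit 3, nat_lit 7, nat_lit 1, nat_lit 2, nat_lit 3, nat_lit 4, nat_lit 5, nat_lit 6, nat_lit 9, nat_lit 6, nat_lit 1, nat_lit 0, nat_lit 3, nat_lit 4, nat_lit 5, nat_lit 4, nat_lit 3, nat_lit 2, nat_lit 1, nat_lit 3, nat_lit 4, nat_lit 2, nat_lit 3, nat_lit 7, nat_lit 3, nat_lit 2, nat_lit 3, nat_lit 4, nat_lit 0, nat_lit 3])]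
noncomputable def S2 : List (ℕ × List ℕ) := [((nat_lit 465), [nat_lit 3]), ((nat_lit 466), [nat_lit 5]), ((nat_lit 467), [nat_lit 1]), ((nat_lit 468), [nat_lit 8]), ((nat_lit 469), [nat_lit 9]), ((nat_lit 470), [nat_lit 5, nat_lit 7, nat_lit 8, nat_lit 3, nat_lit 7, nat_lit 4, nat_lit 5, nat_lit 3, nat_lit 4, nat_lit 2, nat_lit 3, nat_lit 7, nat_lit 8, nat_lit 4, nat_lit 5, nat_lit 3, nat_lit 4, nat_lit 1, nat_lit 2, nat_lit 3, nat_lit 7, nat_lit 0, nat_lit 1, nat_lit 2, nat_lit 3, nat_lit 4, nat_lit 5, nat_lit 6, nat_lit 9, nat_lit 2, nat_lit 3, nat_lit 4, nat_lit 1, nat_lit 2, nat_lit 3, nat_lit 7, nat_lit 5, nat_lit 6, nat_lit 4, nat_lit 5, nat_lit 3, nat_lit 4, nat_lit 0, nat_lit 1, nat_lit 2, nat_lit 3, nat_lit 7, nat_lit 8, nat_lit 4, nat_lit 1, nat_lit 2, nat_lit 3, nat_lit 7, nat_lit 0, nat_lit 1, nat_lit 2, nat_lit 3, nat_lit 4, nat_lit 5, nat_lit 6, nat_lit 5, nat_lit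 8, nat_lit 7, nat_lit 3, nat_lit 2, nat_lit 1, nat_lit 0, nat_lit 8, nat_lit 1, nat_lit 7]), ((nat_lit 471), [nat_lit 9, nat_lit 8, nat_lit 7, nat_lit 3, nat_lit 4, nat_lit 2, nat_lit 3, nat_lit 7, nat_lit 8, nat_lit 6, nat_lit 5, nat_lit 4, nat_lit 3, nat_lit 7, nat_lit 0, nat_lit 1, nat_lit 2, nat_lit 3, nat_lit 4, nat_lit 5, nat_lit 6, nat_lit 9, nat_lit 6, nat_lit 5, nat_lit 4, nat_lit 3, nat_lit 7, nat_lit 2, nat_lit 3, nat_lit 4, nat_lit 5, nat_lit 6, nat_lit 2, nat_lit 3, nat_lit 7, nat_lit 4, nat_lit 5, nat_lit 3, nat_lit 4, nat_lit 2, nat_lit 3, nat_lit 7, nat_lit 8, nat_lit 3, nat_lit 4, nat_lit 1, nat_lit 2, nat_lit 3, nat_lit 7, nat_lit 0, nat_lit 1, nat_lit 2, nat_lit 3, nat_lit 4, nat_lit 5, nat_lit 7, nat_lit 3, nat_lit 2, nat_lit 1, nat_lit 0, nat_lit 3, nat_lit 2, nat_lit 1, nat_lit 7, nat_lit 8, nat_lit 3, nat_lit 7, nat_lit 3, nat_lit 4, nat_lit 3])]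
noncomputable def S3 : List (ℕ × List ℕ) := [((nat_lit 449), [nat_lit 0, nat_lit 3]), ((nat_lit 450), [nat_lit 1, nat_lit 3]), ((nat_lit 451), [nat_lit 2, nat_lit 3]), ((nat_lit 452), [nat_lit 7, nat_lit 3]), ((nat_lit 453), [nat_lit 8, nat_lit 3]), ((nat_lit 454), [nat_lit 5, nat_lit 3]), ((nat_lit 455), [nat_lit 6, nat_lit 3]), ((nat_lit 456), [nat_lit 9, nat_lit 3]), ((nat_lit 457), [nat_lit 6, nat_lit 9, nat_lit 4, nat_lit 5, nat_lit 6, nat_lit 3, nat_lit 4, nat_lit 5, nat_lit 2, nat_lit 3, nat_lit 4, nat_lit 1, nat_lit 2, nat_lit 3, nat_lit 7, nat_lit 0, nat_lit 1, nat_lit 2, nat_lit 3, nat_lit 4, nat_lit 5, nat_lit 6, nat_lit 9, nat_lit 1, nat_lit 2, nat_lit 3, nat_lit 7, nat_lit 4, nat_lit 5, nat_lit 3, nat_lit 4, nat_lit 2, nat_lit 3, nat_lit 7, nat_lit 1, nat_lit 2, nat_lit 3, nat_lit 4, nat_lit 5, nat_lit 6, nat_lit 8, nat_lit 0, nat_lit 4, nat_lit 3, nat_lit 2, nat_lit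 1, nat_lit 2, nat_lit 3, nat_lit 7, nat_lit 4])]
noncomputable def S4 : List (ℕ × List ℕ) := [((nat_lit 472), [nat_lit 3]), ((nat_lit 473), [nat_lit 5]), ((nat_lit 474), [nat_lit 1]), ((nat_lit 475), [nat_lit 8]), ((nat_lit 476), [nat_lit 9]), ((nat_lit 477), [nat_lit 5, nat_lit 7, nat_lit 8, nat_lit 3, nat_lit 7, nat_lit 4, nat_lit 5, nat_lit 3, nat_lit 4, nat_lit 2, nat_lit 3, nat_lit 7, nat_lit 8, nat_lit 4, nat_lit 5, nat_lit 3, nat_lit 4, nat_lit 1, nat_lit 2, nat_lit 3, nat_lit 7, nat_lit 0, nat_lit 1, nat_lit 2, nat_lit 3, nat_lit 4, nat_lit 5, nat_lit 6, nat_lit 9, nat_lit 2, nat_lit 3, nat_lit 4, nat_lit 1, nat_lit 2, nat_lit 3, nat_lit 7, nat_lit 5, nat_lit 6, nat_lit 4, nat_lit 5, nat_lit 3, nat_lit 4, nat_lit 0, nat_lit 1, nat_lit 2, nat_lit 3, nat_lit 7, nat_lit 8, nat_lit 4, nat_lit 1, nat_lit 2, nat_lit 3, nat_lit 7, nat_lit 0, nat_lit 1, nat_lit 2, nat_lit 3, nat_lit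 4, nat_lit 5, nat_lit 6, nat_lit 5, nat_lit 8, nat_lit 7, nat_lit 3, nat_lit 2, nat_lit 1, nat_lit 0, nat_lit 8, nat_lit 1, nat_lit 7]), ((nat_lit 478), [nat_lit 9, nat_lit 8, nat_lit 7, nat_lit 3, nat_lit 4, nat_lit 2, nat_lit 3, nat_lit 7, nat_lit 8, nat_lit 6, nat_lit 5, nat_lit 4, nat_lit 3, nat_lit 7, nat_lit 0, nat_lit 1, nat_lit 2, nat_lit 3, nat_lit 4, nat_lit 5, nat_lit 6, nat_lit 9, nat_lit 6, nat_lit 5, nat_lit 4, nat_lit 3, nat_lit 7, nat_lit 2, nat_lit 3, nat_lit 4, nat_lit 5, nat_lit 6, nat_lit 2, nat_lit 3, nat_lit 7, nat_lit 4, nat_lit 5, nat_lit 3, nat_lit 4, nat_lit 2, nat_lit 3, nat_lit 7, nat_lit 8, nat_lit 3, nat_lit 4, nat_lit 1, nat_lit 2, nat_lit 3, nat_lit 7, nat_lit 0, nat_lit 1, nat_lit 2, nat_lit 3, nat_lit 4, nat_lit 5, nat_lit 7, nat_lit 3, nat_lit 2, nat_lit 1, nat_lit 0, nat_lit 3, nat_lit 2, nat_lit 1, nat_lit 7, nat_lit 8, nat_lit 3, nat_lit 7,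 nat_lit 3, nat_lit 4, nat_lit 3])]
noncomputable def S5 : List (ℕ × List ℕ) := [((nat_lit 458), [nat_lit 4, nat_lit 3]), ((nat_lit 459), [nat_lit 5, nat_lit 3]), ((nat_lit 460), [nat_lit 6, nat_lit 3]), ((nat_lit 461), [nat_lit 9, nat_lit 3]), ((nat_lit 462), [nat_lit 2, nat_lit 3]), ((nat_lit 463), [nat_lit 7, nat_lit 3]), ((nat_lit 464), [nat_lit 7, nat_lit 8, nat_lit 7, nat_lit 5, nat_lit 3, nat_lit 4, nat_lit 2, nat_lit 3, nat_lit 7, nat_lit 0, nat_lit 1, nat_lit 2, nat_lit 3, nat_lit 4, nat_lit 5, nat_lit 6, nat_lit 9, nat_lit 6, nat_lit 5, nat_lit 4, nat_lit 3, nat_lit 7, nat_lit 8, nat_lit 4, nat_lit 2, nat_lit 3, nat_lit 7, nat_lit 1, nat_lit 2, nat_lit 3, nat_lit 4, nat_lit 5, nat_lit 6, nat_lit 0, nat_lit 3, nat_lit 7, nat_lit 8, nat_lit 5, nat_lit 4, nat_lit 3, nat_lit 7, nat_lit 2, nat_lit 3, nat_lit 4, nat_lit 5, nat_lit 3, nat_lit 7, nat_lit 4, nat_lit 3, nat_lit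 2, nat_lit 3, nat_lit 4, nat_lit 3, nat_lit 7])]
noncomputable def S6 : List (ℕ × List ℕ) := [((nat_lit 440), [nat_lit 3]), ((nat_lit 441), [nat_lit 4]), ((nat_lit 442), [nat_lit 5]), ((nat_lit 443), [nat_lit 6]), ((nat_lit 444), [nat_lit 9]), ((nat_lit 445), [nat_lit 2]), ((nat_lit 446), [nat_lit 1]), ((nat_lit 447), [nat_lit 7]), ((nat_lit 448), [nat_lit 1, nat_lit 4, nat_lit 5, nat_lit 3, nat_lit 4, nat_lit 2, nat_lit 3, nat_lit 7, nat_lit 1, nat_lit 2, nat_lit 3, nat_lit 4, nat_lit 5, nat_lit 6, nat_lit 9, nat_lit 6, nat_lit 1, nat_lit 0, nat_lit 3, nat_lit 4, nat_lit 5, nat_lit 4, nat_lit 3, nat_lit 2, nat_lit 1, nat_lit 3, nat_lit 4, nat_lit 2, nat_lit 3, nat_lit 7, nat_lit 3, nat_lit 2, nat_lit 3, nat_lit 4, nat_lit 0, nat_lit 3])]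
noncomputable def S8 : List (ℕ × List ℕ) := [((nat_lit 422), [nat_lit 0]), ((nat_lit 423), [nat_lit 1]), ((nat_lit 424), [nat_lit 2]), ((nat_lit 425), [nat_lit 3]), ((nat_lit 426), [nat_lit 4]), ((nat_lit 427), [nat_lit 5]), ((nat_lit 428), [nat_lit 6]), ((nat_lit 429), [nat_lit 7]), ((nat_lit 430), [nat_lit 8])]
noncomputable def KG : List (ℕ × List ℕ) := [((nat_lit 1), [nat_lit 1]), ((nat_lit 2), [nat_lit 2]), ((nat_lit 3), [nat_lit 3]), ((nat_lit 4), [nat_lit 4]), ((nat_lit 5), [nat_lit 5]), ((nat_lit 6), [nat_lit 6]), ((nat_lit 7), [nat_lit 7]), ((nat_lit 8), [nat_lit 8]), ((nat_lit 9), [nat_lit 9])]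

end H15.YB.L2
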